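import Mathlib.GroupTheory.Transfer
import Mathlib.GroupTheory.Subgroup.Simple
import Mathlib.GroupTheory.Subgroup.Centralizer

/-!
The transfer argument against field automorphisms in the centraliser of an involution.

A character `θ` of the centraliser `C` of an involution `z` which, for every second conjugate `y` commuting with `z`,
agrees on `C ⊓ C(y)` with its transport to `y`, is consistent under all conjugations staying in `C`; its transfer is
then `θ ^ [G : C]`, so in a noncommutative simple group `θ` is killed by the index.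

Blueprint: `blueprint/RankTwo.md`, P9.
-/

set_option autoImplicit false
set_option linter.unusedSectionVars false

namespace CfsgLib.RankTwoModel.FieldTransfer

universe u v

variable {G : Type u} [Group G] {z : G} {A : Type v} [CommGroup A]
  (θ : ↥(Subgroup.centralizer ({z} : Set G)) →* A)

/-- Agreement along a second conjugate commuting with `z`. -/
def PairInv : Prop :=
  ∀ g : G, g * z * g⁻¹ * z = z * (g * z * g⁻¹) → g * z * g⁻¹ ≠ z →
    ∀ (a : G) (ha : a ∈ Subgroup.centralizer ({z} : Set G))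
      (hga : g⁻¹ * a * g ∈ Subgroup.centralizer ({z} : Set G)), θ ⟨g⁻¹ * a * g, hga⟩ = θ ⟨a, ha⟩

/-- Agreement under every conjugation staying in the centraliser. -/
def Consistent : Prop :=
  ∀ (g a : G) (ha : a ∈ Subgroup.centralizer ({z} : Set G))
    (hga : g⁻¹ * a * g ∈ Subgroup.centralizer ({z} : Set G)), θ ⟨g⁻¹ * a * g, hga⟩ = θ ⟨a, ha⟩

theorem map_conj {a e : G} (ha : a ∈ Subgroup.centralizer ({z} : Set G))
    (he : e ∈ Subgroup.centralizer ({z} : Set G))
    (h : e⁻¹ * a * e ∈ Subgroup.centralizer ({z} : Set G)) : θ ⟨e⁻¹ * a * e, h⟩ = θ ⟨a, ha⟩ := by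
  rw [show (⟨e⁻¹ * a * e, h⟩ : ↥(Subgroup.centralizer ({z} : Set G))) = ⟨e, he⟩⁻¹ * ⟨a, ha⟩ * ⟨e, he⟩ from rfl,
    map_mul, map_mul, map_inv, mul_right_comm, inv_mul_cancel, one_mul]

theorem comm_inv {a g : G} (hga : g⁻¹ * a * g ∈ Subgroup.centralizer ({z} : Set G)) :
    Commute a (g * z * g⁻¹) := by
  have h := Subgroup.mem_centralizer_singleton_iff.mp hga
  show a * (g * z * g⁻¹) = g * z * g⁻¹ * a
  calc a * (g * z * g⁻¹) = g * ((g⁻¹ * a * g) * z) * g⁻¹ := by group
    _ = g * (z * (g⁻¹ * a * g)) * g⁻¹ := by rw [h]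
    _ = _ := by group

/-- **Consistency from commuting pairs**, when all involutions are conjugate. -/
theorem consistent [Finite G] (hz : orderOf z = 2) (hall : ∀ w : G, orderOf w = 2 → IsConj z w)
    (hP : PairInv θ) : Consistent θ := by
  intro g a ha hga
  have hz2 : z * z = 1 := by rw [← pow_two, ← hz, pow_orderOf_eq_one]
  have hzinv : z⁻¹ = z := inv_eq_of_mul_eq_one_right hz2
  have hza : Commute a z := Subgroup.mem_centralizer_singleton_iff.mp ha
  set y := g * z * g⁻¹ with hy
  have hay : Commute a y := comm_inv hga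
  have hy2 : y * y = 1 := by
    rw [hy, show g * z * g⁻¹ * (g * z * g⁻¹) = g * (z * z) * g⁻¹ by group, hz2, mul_one, mul_inv_cancel]
  have hyinv : y⁻¹ = y := inv_eq_of_mul_eq_one_right hy2
  set d := z * y with hd
  have had : Commute a d := hza.mul_right hay
  have hdz : ∀ i : ℕ, z * d ^ i * z⁻¹ = (d ^ i)⁻¹ := by
    intro i
    rw [← conj_pow, ← inv_pow]
    congr 1
    rw [hd, mul_inv_rev, ← mul_assoc, hz2, one_mul, hyinv]
  rcases Nat.even_or_odd (orderOf d) with ⟨m, hm⟩ | ⟨k, hk⟩
  swap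
  · -- the dihedral group carries `z` to `y`
    have hc : d ^ k * z * (d ^ k)⁻¹ = y := by
      have h1 : z * (d ^ k)⁻¹ = d ^ k * z := by
        have := congrArg (·⁻¹) (hdz k)
        simp only [mul_inv_rev, inv_inv] at this
        calc z * (d ^ k)⁻¹ = z * (d ^ k)⁻¹ * z⁻¹ * z := by group
          _ = d ^ k * z := by rw [show z * (d ^ k)⁻¹ * z⁻¹ = d ^ k by rw [mul_assoc]; exact this]
      rw [mul_assoc, h1, ← mul_assoc, ← pow_add]
      have h2 : d ^ (k + k) * d = 1 := by
        rw [← pow_succ, show k + k + 1 = orderOf d by omega, pow_orderOf_eq_one]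
      rw [eq_inv_of_mul_eq_one_left h2, hd, mul_inv_rev, mul_assoc, inv_mul_cancel, mul_one, hyinv]
    set e := (d ^ k)⁻¹ * g with he
    have hce : e ∈ Subgroup.centralizer ({z} : Set G) := by
      refine Subgroup.mem_centralizer_singleton_iff.mpr ?_
      calc e * z = (d ^ k)⁻¹ * (g * z * g⁻¹) * g := by rw [he]; group
        _ = (d ^ k)⁻¹ * (d ^ k * z * (d ^ k)⁻¹) * g := by rw [← hy, hc]
        _ = z * e := by rw [he]; group
    have heq : g⁻¹ * a * g = e⁻¹ * a * e := by
      rw [he]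
      have := (had.pow_right k).eq
      calc g⁻¹ * a * g = g⁻¹ * (a * d ^ k) * ((d ^ k)⁻¹ * g) := by group
        _ = g⁻¹ * (d ^ k * a) * ((d ^ k)⁻¹ * g) := by rw [this]
        _ = _ := by group
    rw [show (⟨g⁻¹ * a * g, hga⟩ : ↥(Subgroup.centralizer ({z} : Set G))) = ⟨e⁻¹ * a * e, heq ▸ hga⟩ from
      Subtype.ext heq]
    exact map_conj θ ha hce _
  · -- a third involution commutes with everything
    have hpos := orderOf_pos d
    set w := d ^ m with hw
    have hw2 : w * w = 1 := by rw [hw, ← pow_add, ← hm, pow_orderOf_eq_one]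
    have hw1 : w ≠ 1 := pow_ne_one_of_lt_orderOf (by omega) (by omega)
    have hwo : orderOf w = 2 := orderOf_eq_prime (by rw [pow_two]; exact hw2) hw1
    have hwinv : w⁻¹ = w := inv_eq_of_mul_eq_one_right hw2
    have hwz : Commute w z := by
      have h1 := hdz m
      rw [← hw, hwinv] at h1
      show w * z = z * w
      calc w * z = z * w * z⁻¹ * z := by rw [h1]
        _ = z * w := by group
    have hwd : Commute w d := (Commute.refl d).pow_left m
    have hwy : Commute w y := by
      have hyd : y = z * d := by rw [hd, ← mul_assoc, hz2, one_mul]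
      rw [hyd]; exact hwz.mul_right hwd
    have haw : Commute a w := had.pow_right m
    obtain ⟨h, hh⟩ := isConj_iff.mp (hall w hwo)
    set a' := h⁻¹ * a * h with ha'
    have ha'C : a' ∈ Subgroup.centralizer ({z} : Set G) := by
      refine Subgroup.mem_centralizer_singleton_iff.mpr ?_
      calc a' * z = h⁻¹ * (a * (h * z * h⁻¹)) * h := by rw [ha']; group
        _ = h⁻¹ * (h * z * h⁻¹ * a) * h := by rw [hh, haw.eq]
        _ = z * a' := by rw [ha']; group
    have step1 : θ ⟨a', ha'C⟩ = θ ⟨a, ha⟩ := by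
      by_cases hwe : w = z
      · exact map_conj θ ha (Subgroup.mem_centralizer_singleton_iff.mpr (by
          calc h * z = h * z * h⁻¹ * h := by group
            _ = z * h := by rw [hh, hwe])) _
      · exact hP h (by rw [hh]; exact hwz.eq) (by rw [hh]; exact hwe) a ha ha'C
    have hga' : (h⁻¹ * g)⁻¹ * a' * (h⁻¹ * g) = g⁻¹ * a * g := by rw [ha']; group
    have step2 : θ ⟨g⁻¹ * a * g, hga⟩ = θ ⟨a', ha'C⟩ := by
      rw [show (⟨g⁻¹ * a * g, hga⟩ : ↥(Subgroup.centralizer ({z} : Set G))) =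
        ⟨(h⁻¹ * g)⁻¹ * a' * (h⁻¹ * g), hga' ▸ hga⟩ from Subtype.ext hga'.symm]
      have hconj : h⁻¹ * g * z * (h⁻¹ * g)⁻¹ = h⁻¹ * y * h := by rw [hy]; group
      by_cases hye : h⁻¹ * g * z * (h⁻¹ * g)⁻¹ = z
      · exact map_conj θ ha'C (Subgroup.mem_centralizer_singleton_iff.mpr (by
          calc h⁻¹ * g * z = h⁻¹ * g * z * (h⁻¹ * g)⁻¹ * (h⁻¹ * g) := by group
            _ = z * (h⁻¹ * g) := by rw [hye])) _
      · refine hP (h⁻¹ * g) ?_ hye a' ha'C _
        rw [hconj]
        calc h⁻¹ * y * h * z = h⁻¹ * (y * (h * z * h⁻¹)) * h := by group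
          _ = h⁻¹ * (h * z * h⁻¹ * y) * h := by rw [hh, hwy.eq]
          _ = z * (h⁻¹ * y * h) := by group
    rw [step2, step1]

/-- **The transfer of a consistent character is its power by the index.** -/
theorem transfer_eq [Finite G] (hC : Consistent θ) {a : G} (ha : a ∈ Subgroup.centralizer ({z} : Set G)) :
    MonoidHom.transfer θ a = θ ⟨a, ha⟩ ^ (Subgroup.centralizer ({z} : Set G)).index := by
  classical
  letI := (Subgroup.centralizer ({z} : Set G)).fintypeQuotientOfFiniteIndex
  rw [MonoidHom.transfer_eq_prod_quotient_orbitRel_zpowers_quot,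
    Subgroup.index_eq_sum_minimalPeriod _ a, ← Finset.prod_pow_eq_pow_sum]
  refine Finset.prod_congr rfl fun q _ => ?_
  rw [hC _ _ (pow_mem ha _), ← map_pow]
  rfl

/-- **In a noncommutative simple group a consistent character is killed by the index.** -/
theorem pow_index_eq_one [Finite G] [IsSimpleGroup G] (hnc : ¬ IsMulCommutative G) (hC : Consistent θ)
    (c : ↥(Subgroup.centralizer ({z} : Set G))) :
    θ c ^ (Subgroup.centralizer ({z} : Set G)).index = 1 := by
  rw [show θ c = θ ⟨c.1, c.2⟩ from rfl, ← transfer_eq θ hC c.2]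
  rcases Subgroup.Normal.eq_bot_or_eq_top (MonoidHom.transfer θ).normal_ker with h | h
  · exact absurd ⟨⟨fun x y => (MonoidHom.ker_eq_bot_iff _).mp h (by rw [map_mul, map_mul, mul_comm])⟩⟩ hnc
  · exact MonoidHom.mem_ker.mp (h ▸ Subgroup.mem_top _)

theorem conj_commute {x a b g : G} (h : g * a * g⁻¹ = b) (hc : Commute x b) : Commute (g⁻¹ * x * g) a := by
  subst h
  show g⁻¹ * x * g * a = a * (g⁻¹ * x * g)
  calc g⁻¹ * x * g * a = g⁻¹ * (x * (g * a * g⁻¹)) * g := by group
    _ = g⁻¹ * (g * a * g⁻¹ * x) * g := by rw [hc.eq]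
    _ = _ := by group

theorem commute_mem {x : G} (h : Commute x z) : x ∈ Subgroup.centralizer ({z} : Set G) :=
  Subgroup.mem_centralizer_singleton_iff.mpr h.eq

/-- The pair condition from the four groups: a swap of `z` and `y` normalising the kernel on the centraliser of the
four group, and an element of the centraliser moving `y`. -/
theorem pairInv_of_four (hz2 : z * z = 1)
    (hT : ∀ y : G, IsConj z y → Commute y z → y ≠ z → ∃ g' : G,
      g' * z * g'⁻¹ = y ∧ g' * y * g'⁻¹ = z ∧
      (∀ x, Commute x z → Commute x y → ∀ hx : x ∈ Subgroup.centralizer ({z} : Set G), θ ⟨x, hx⟩ = 1 →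
        ∀ hx' : g' * x * g'⁻¹ ∈ Subgroup.centralizer ({z} : Set G), θ ⟨g' * x * g'⁻¹, hx'⟩ = 1) ∧
      ∃ τ : G, Commute τ z ∧ τ * y * τ⁻¹ = z * y) :
    PairInv θ := by
  intro g hg hne a ha hga
  obtain ⟨s, hs1, hs2, hker, τ, hτ, hτy⟩ := hT _ (isConj_iff.mpr ⟨g, rfl⟩) hg hne
  set y := g * z * g⁻¹ with hy
  have hzy : Commute y z := hg
  have haz : Commute a z := Subgroup.mem_centralizer_singleton_iff.mp ha
  have hay : Commute a y := comm_inv hga
  have hτz : τ * z * τ⁻¹ = z := by rw [hτ.eq, mul_inv_cancel_right]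
  -- the conjugate of `τ` fixing `y`
  set ρ := s * τ * s⁻¹ with hρ
  have hρz : ρ * z * ρ⁻¹ = y * z := by
    calc ρ * z * ρ⁻¹ = s * (τ * (s⁻¹ * z * s) * τ⁻¹) * s⁻¹ := by rw [hρ]; group
      _ = s * (τ * y * τ⁻¹) * s⁻¹ := by rw [show s⁻¹ * z * s = y by rw [← hs2]; group]
      _ = s * z * s⁻¹ * (s * y * s⁻¹) := by rw [hτy]; group
      _ = y * z := by rw [hs1, hs2]
  set c := τ * ρ with hc
  have hcz : c * z * c⁻¹ = y := by
    calc c * z * c⁻¹ = τ * (ρ * z * ρ⁻¹) * τ⁻¹ := by rw [hc]; group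
      _ = τ * y * τ⁻¹ * (τ * z * τ⁻¹) := by rw [hρz]; group
      _ = y * (z * z) := by rw [hτy, hτz, ← hzy.eq, mul_assoc]
      _ = y := by rw [hz2, mul_one]
  -- its effect on the centraliser of the four group
  set a1 := τ⁻¹ * a * τ with ha1
  have a1z : Commute a1 z := conj_commute hτz haz
  have a1y : Commute a1 y := conj_commute hτy (haz.mul_right hay)
  set b := s⁻¹ * a1 * s with hb
  have hbz : Commute b z := conj_commute hs1 a1y
  have hby : Commute b y := conj_commute hs2 a1z
  have hb'z : Commute (τ⁻¹ * b * τ) z := conj_commute hτz hbz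
  have hb'y : Commute (τ⁻¹ * b * τ) y := conj_commute hτy (hbz.mul_right hby)
  set x := b⁻¹ * (τ⁻¹ * b * τ) with hx
  have hxz : Commute x z := hbz.inv_left.mul_left hb'z
  have hxy : Commute x y := hby.inv_left.mul_left hb'y
  have hθx : θ ⟨x, commute_mem hxz⟩ = 1 := by
    rw [show (⟨x, commute_mem hxz⟩ : ↥(Subgroup.centralizer ({z} : Set G))) =
      ⟨b, commute_mem hbz⟩⁻¹ * ⟨τ⁻¹ * b * τ, commute_mem hb'z⟩ from rfl, map_mul, map_inv,
      map_conj θ (commute_mem hbz) (commute_mem hτ), inv_mul_cancel]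
  have hsx : Commute (s * x * s⁻¹) z := by
    have h := conj_commute (g := s⁻¹) (x := x) (a := z) (b := y) (by rw [← hs2]; group) hxy
    rwa [inv_inv] at h
  have hdec : c⁻¹ * a * c = a1 * (s * x * s⁻¹) := by rw [hc, hρ, hx, hb, ha1]; group
  have hca : c⁻¹ * a * c ∈ Subgroup.centralizer ({z} : Set G) := commute_mem (conj_commute hcz hay)
  have h1 : θ ⟨c⁻¹ * a * c, hca⟩ = θ ⟨a, ha⟩ := by
    rw [show (⟨c⁻¹ * a * c, hca⟩ : ↥(Subgroup.centralizer ({z} : Set G))) =
      ⟨a1, commute_mem a1z⟩ * ⟨s * x * s⁻¹, commute_mem hsx⟩ from Subtype.ext hdec, map_mul,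
      hker x hxz hxy (commute_mem hxz) hθx (commute_mem hsx), mul_one]
    exact map_conj θ ha (commute_mem hτ) _
  have he : c⁻¹ * g ∈ Subgroup.centralizer ({z} : Set G) := by
    refine commute_mem ?_
    show c⁻¹ * g * z = z * (c⁻¹ * g)
    calc c⁻¹ * g * z = c⁻¹ * (g * z * g⁻¹) * g := by group
      _ = c⁻¹ * (c * z * c⁻¹) * g := by rw [hcz, ← hy]
      _ = _ := by group
  have heq : g⁻¹ * a * g = (c⁻¹ * g)⁻¹ * (c⁻¹ * a * c) * (c⁻¹ * g) := by group
  rw [show (⟨g⁻¹ * a * g, hga⟩ : ↥(Subgroup.centralizer ({z} : Set G))) =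
    ⟨_, heq ▸ hga⟩ from Subtype.ext heq]
  exact (map_conj θ hca he _).trans h1

/-- A normal abelian subgroup `T` of `K` whose outer elements centralise little is the only abelian subgroup of
its index: an automorphism of `K` fixes it. -/
theorem abelian_unique {K : Type u} [Group K] [Finite K] (T T' : Subgroup K) (hT : ∀ x ∈ T, ∀ y ∈ T, Commute x y)
    (hT' : ∀ x ∈ T', ∀ y ∈ T', Commute x y) (he : T'.index = T.index)
    (hsmall : ∀ k, k ∉ T → T.index * Nat.card (Subgroup.centralizer ({k} : Set K) ⊓ T : Subgroup K) < Nat.card T) :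
    T' = T := by
  have hcard : Nat.card T' = Nat.card T := by
    have h1 := T'.card_mul_index
    rw [he, ← T.card_mul_index] at h1
    exact Nat.eq_of_mul_eq_mul_right (Nat.pos_of_ne_zero T.index_ne_zero_of_finite) h1
  by_contra hne
  obtain ⟨k, hk', hk⟩ : ∃ k ∈ T', k ∉ T := by
    by_contra hh
    push Not at hh
    exact hne (Subgroup.eq_of_le_of_card_ge hh hcard.ge)
  have h1 : (T' ⊓ T : Subgroup K) ≤ Subgroup.centralizer ({k} : Set K) ⊓ T := fun x hx =>
    ⟨Subgroup.mem_centralizer_singleton_iff.mpr (hT' x hx.1 k hk').eq, hx.2⟩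
  have h2 := Subgroup.card_le_of_le h1
  have h3 : Nat.card T' ≤ Nat.card (T' ⊓ T : Subgroup K) * T.index := by
    calc Nat.card T' = Nat.card (T' ⊓ T : Subgroup K) * (T' ⊓ T).relIndex T' :=
          (by rw [← Subgroup.relIndex_bot_left, ← Subgroup.relIndex_bot_left,
            Subgroup.relIndex_mul_relIndex _ _ _ bot_le inf_le_left])
      _ ≤ _ := Nat.mul_le_mul_left _ (by
          rw [Subgroup.inf_relIndex_left]
          rw [← Subgroup.relIndex_top_right]
          exact Subgroup.relIndex_le_of_le_right le_top (by rw [Subgroup.relIndex_top_right]; exact T.index_ne_zero_of_finite))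
  have h4 := hsmall k hk
  rw [hcard] at h3
  exact absurd (h3.trans (by rw [mul_comm]; exact Nat.mul_le_mul_left _ h2)) (not_le.mpr h4)

/-- **No field character of exponent prime to the index.** -/
theorem eq_one [Finite G] [IsSimpleGroup G] (hnc : ¬ IsMulCommutative G) (hz : orderOf z = 2)
    (hall : ∀ w : G, orderOf w = 2 → IsConj z w) (hP : PairInv θ) {r : ℕ} (hA : ∀ c, θ c ^ r = 1)
    (hr : Nat.Coprime r (Subgroup.centralizer ({z} : Set G)).index) : θ = 1 := by
  refine MonoidHom.ext fun c => ?_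
  rw [MonoidHom.one_apply, ← pow_one (θ c), ← hr.gcd_eq_one]
  exact pow_gcd_eq_one.mpr ⟨hA c, pow_index_eq_one θ hnc (consistent θ hz hall hP) c⟩

end CfsgLib.RankTwoModel.FieldTransfer
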