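import Cfsg.Agent.Lib.RankTwoModel.MainOfMoved
import Cfsg.Agent.Lib.RankTwoModel.L4.Moved

/-!
**The smallest simple groups with semidihedral or wreathed Sylow 2-subgroups are models.**

Blueprint: `blueprint/RankTwo.md`.
-/

set_option autoImplicit false
set_option linter.unusedSectionVars false

namespace CfsgLib.RankTwoModel

open Cfsg

universe u

/-- The moved case is impossible. -/
theorem movedFalse (G : Type u) [Group G] [Fintype G] : L4.MovedFalse G := by
  intro _ z _ Ω _ _ D hD h2 hpp hN i hidx hi hcw hTI ψ hψU hreg hθ r hr hri hgc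
  haveI : Fact r.Prime := ⟨hr⟩
  exact L4.moved_false hD h2 hpp hN hidx hi hcw hTI ψ hψU hreg hθ hri hgc

/-- **The main theorem.** -/
theorem main : Rows.Main.{u} := main_of_moved fun G _ _ => movedFalse G

end CfsgLib.RankTwoModel
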