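import Cfsg.Agent.Lib.BrauerOrder.Instance
import Cfsg.Agent.Lib.GW.Final
import Cfsg.Agent.Lib.GW.Conseq.QDCentre.Main
import Cfsg.Agent.Lib.QDWreathedNoIndexTwo.Centralizer

/-!
A smallest simple group with semidihedral or wreathed Sylow 2-subgroups: the standing hypotheses of the
classification of these groups, one class of involutions, a frame (central involution, four group, field of the
centraliser modulo its core) and Brauer's system at it.

Blueprint: `blueprint/RankTwo.md`.
-/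

set_option autoImplicit false
set_option linter.unusedSectionVars false

namespace CfsgLib.RankTwoModel

open Cfsg

universe u

/-- Semidihedral or wreathed Sylow 2-subgroups. -/
def QW (X : Type u) [Group X] : Prop :=
  ∃ S : Sylow 2 X, IsQuasiDihedral (S : Subgroup X) ∨ IsWreathed (S : Subgroup X)

/-- The conclusion: `L₃(q)`, `U₃(q)`, `q` odd, or the order of `M₁₁`. -/
def Model (X : Type u) [Group X] [Finite X] : Prop :=
  (∃ (F : Type) (_ : Field F) (_ : Fintype F), Odd (Fintype.card F) ∧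
      Nonempty (X ≃* Matrix.ProjectiveSpecialLinearGroup (Fin 3) F)) ∨
    (∃ (F : Type) (_ : Field F) (_ : Fintype F) (q : ℕ), Fintype.card F = q ^ 2 ∧ Odd q ∧
      Nonempty (X ≃* Cfsg.PSU 3 F q)) ∨
    Cfsg.IsM11 X

/-- A simple group with semidihedral or wreathed Sylow 2-subgroups, all smaller ones being models. -/
structure Hyp (G : Type u) [Group G] [Finite G] : Prop where
  simple : IsSimpleGroup G
  noncomm : ¬ IsMulCommutative G
  qw : QW G
  ih : ∀ (X : Type u) [Group X] [Finite X], IsSimpleGroup X → Nat.card X < Nat.card G → QW X → Model X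

theorem QW.noncomm {X : Type u} [Group X] [Finite X] (h : QW X) : ¬ IsMulCommutative X := by
  obtain ⟨S, hS⟩ := h
  intro hc
  obtain ⟨s, hs⟩ := CfsgLib.GWConseq.QDCentre.qdw_sq_not_central hS
  exact hs (Subgroup.mem_center_iff.mpr fun g => Subtype.ext (hc.is_comm.comm _ _))

/-- The classification follows from the case of the smallest counterexamples. -/
theorem reduction (main : ∀ (G : Type u) [Group G] [Finite G], Hyp G → Model G) (G : Type u) [Group G] [Finite G]
    (hs : IsSimpleGroup G) (hq : QW G) : Model G := by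
  suffices H : ∀ (n : ℕ) (G : Type u) [Group G] [Finite G], Nat.card G = n → IsSimpleGroup G → QW G → Model G from
    H _ G rfl hs hq
  intro n
  induction n using Nat.strong_induction_on with
  | _ n ih =>
    intro G _ _ hn hs hq
    exact main G ⟨hs, hq.noncomm, hq, fun X _ _ hX hlt hXq => ih _ (hn ▸ hlt) X rfl hX hXq⟩

variable {G : Type u} [Group G] [Finite G] (h : Hyp G)
include h

theorem Hyp.index_ne_two (H : Subgroup G) : H.index ≠ 2 := by
  haveI := h.simple
  exact CfsgLib.BrauerOrder.index_ne_two h.noncomm H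

/-- **One class of involutions.** -/
theorem Hyp.all_conj (a b : G) (ha : orderOf a = 2) (hb : orderOf b = 2) : IsConj a b := by
  obtain ⟨S, hS⟩ := h.qw
  refine CfsgLib.RankTwoSimple.isConj_of_card_classes ?_ ha hb
  rcases hS with hS | hS
  · exact (CfsgLib.QDWNoTwo.classes_of_quasiDihedral S hS h.index_ne_two).1
  · obtain ⟨n, hn2, hn, U, Q, hUS, hUab, hUc, hQS, ⟨eQ⟩⟩ := CfsgLib.QDWNoTwo.wreathed_local S hS
    exact (CfsgLib.QDWNoTwo.wreathed_six S hS h.index_ne_two n hn (by omega) U hUS hUab hUc Q hQS eQ).2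

/-- The centraliser modulo its core has derived group `SL₂(q)`. -/
theorem Hyp.centralizer_sl (z : G) (hz : orderOf z = 2) :
    ∃ (F : Type) (_ : Field F) (_ : Fintype F), Odd (Fintype.card F) ∧
      Nonempty (↥(commutator (↥(Subgroup.centralizer ({z} : Set G)) ⧸
        oddCore ↥(Subgroup.centralizer ({z} : Set G)))) ≃* Matrix.SpecialLinearGroup (Fin 2) F) := by
  obtain ⟨S, hS⟩ := h.qw
  exact CfsgLib.GWConseq.QDCentre.centralizer_sl CfsgLib.GW.gwThm S hS h.index_ne_two z hz

end CfsgLib.RankTwoModel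

namespace CfsgLib.RankTwoModel

open Cfsg

universe u

variable {G : Type u} [Group G] [Finite G]

/-- A central involution, a four group through it (normal in a wreathed Sylow subgroup) and the field of the
centraliser modulo its core. -/
structure Frame (G : Type u) [Group G] where
  S : Sylow 2 G
  z : G
  U : Subgroup G
  p : ℕ
  n : ℕ
  F : Type
  [field : Field F]
  [fintype : Fintype F]

attribute [instance] Frame.field Frame.fintype

/-- `q`. -/
def Frame.q (d : Frame G) : ℕ := d.p ^ d.n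

/-- The centraliser of the involution. -/
def Frame.C (d : Frame G) : Subgroup G := Subgroup.centralizer ({d.z} : Set G)

/-- Its core, in `G`. -/
def Frame.O (d : Frame G) : Subgroup G := CfsgLib.GW.coreC d.z

/-- The properties of a frame. -/
structure Frame.Spec (d : Frame G) : Prop where
  qw : IsQuasiDihedral (d.S : Subgroup G) ∨ IsWreathed (d.S : Subgroup G)
  zord : orderOf d.z = 2
  zS : d.z ∈ (d.S : Subgroup G)
  zc : ∀ s ∈ (d.S : Subgroup G), s * d.z = d.z * s
  US : d.U ≤ (d.S : Subgroup G)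
  klein : IsKleinFour d.U
  zU : d.z ∈ d.U
  Un : IsWreathed (d.S : Subgroup G) → ∀ s ∈ (d.S : Subgroup G), ∀ t ∈ d.U, s * t * s⁻¹ ∈ d.U
  prime : d.p.Prime
  podd : d.p ≠ 2
  npos : 1 ≤ d.n
  card : Fintype.card d.F = d.p ^ d.n
  sl : Nonempty (↥(commutator (↥(Subgroup.centralizer ({d.z} : Set G)) ⧸
    oddCore ↥(Subgroup.centralizer ({d.z} : Set G)))) ≃* Matrix.SpecialLinearGroup (Fin 2) d.F)

theorem Hyp.exists_frame (h : Hyp G) : ∃ d : Frame G, d.Spec := by
  haveI : Fact (Nat.Prime 2) := ⟨Nat.prime_two⟩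
  obtain ⟨S, hS⟩ := h.qw
  obtain ⟨z, U, hz, hzS, hzc, hUS, hU, hzU, hUn⟩ : ∃ (z : G) (U : Subgroup G), orderOf z = 2 ∧
      z ∈ (S : Subgroup G) ∧ (∀ s ∈ (S : Subgroup G), s * z = z * s) ∧ U ≤ (S : Subgroup G) ∧ IsKleinFour U ∧
      z ∈ U ∧ (IsWreathed (S : Subgroup G) → ∀ s ∈ (S : Subgroup G), ∀ t ∈ U, s * t * s⁻¹ ∈ U) := by
    by_cases hW : IsWreathed (S : Subgroup G)
    · obtain ⟨-, -, -, d, -⟩ := CfsgLib.Wr.exists_data hW
      refine ⟨(d.w : (S : Subgroup G)), CfsgLib.Wr.up S d.T0, ?_, d.w.2, fun s hs => ?_, CfsgLib.Wr.up_le S _,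
        CfsgLib.Wr.T0_klein S d, ⟨_, (CfsgLib.Wr.half_mem_T0 S d).2.2, rfl⟩, fun _ s hs t ht => ?_⟩
      · rw [Subgroup.orderOf_coe]; exact (CfsgLib.Wr.orderOf_half_u d).2
      · exact congrArg Subtype.val (Subgroup.mem_center_iff.mp (CfsgLib.Wr.w_central d) ⟨s, hs⟩)
      · obtain ⟨t, ⟨htU, ht2⟩, rfl⟩ := ht
        obtain ⟨t', ht', he⟩ := (Subgroup.mem_normalizer_iff.mp (CfsgLib.Wr.P_le_normalizer_U S d hs) (t : G)).mp
          ⟨t, htU, rfl⟩
        exact ⟨t', ⟨ht', Subtype.ext (by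
          have e2 : ((t : G)) * t = 1 := congrArg Subtype.val ht2
          show ((t' : G)) * t' = 1
          rw [show ((t' : (S : Subgroup G)) : G) = s * t * s⁻¹ from he,
            show s * (t : G) * s⁻¹ * (s * t * s⁻¹) = s * ((t : G) * t) * s⁻¹ by group, e2, mul_one, mul_inv_cancel])⟩,
          he⟩
    · have hQ := hS.resolve_right hW
      obtain ⟨-, -, -, d, -⟩ := CfsgLib.QD.exists_data hQ
      obtain ⟨T, -, hT, hTS, -, -, hzT, -⟩ := CfsgLib.QDWNoTwo.qd_local S hQ ((d.z : (S : Subgroup G)) : G)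
        fun c hc hc2 => congrArg Subtype.val ((CfsgLib.QDWNoTwo.center_facts (Or.inl hQ)).1 c hc d.z
          (CfsgLib.QD.z_central d) hc2 (CfsgLib.QD.orderOf_z d))
      exact ⟨(d.z : (S : Subgroup G)), T, by rw [Subgroup.orderOf_coe]; exact CfsgLib.QD.orderOf_z d, d.z.2,
        fun s hs => congrArg Subtype.val (Subgroup.mem_center_iff.mp (CfsgLib.QD.z_central d) ⟨s, hs⟩), hTS, hT, hzT,
        fun e => absurd e hW⟩
  obtain ⟨F, iF, iFt, hodd, e⟩ := h.centralizer_sl z hz
  obtain ⟨n, hp, hq⟩ := FiniteField.card F (ringChar F)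
  refine ⟨⟨S, z, U, ringChar F, n, F⟩, hS, hz, hzS, hzc, hUS, hU, hzU, hUn, hp, fun e2 => ?_, n.pos, hq, e⟩
  have e2' : ringChar F = 2 := e2
  rw [hq, e2', Nat.odd_iff, Nat.pow_mod] at hodd
  simp [zero_pow n.pos.ne'] at hodd

/-- Brauer's system at a frame. -/
theorem Frame.Spec.exists_sys [Fintype G] {d : Frame G} (hd : d.Spec) (h : Hyp G)
    [Fintype ↥(Subgroup.centralizer ({d.z} : Set G))] :
    ∃ (Ω : Type u) (_ : MulAction ↥(Subgroup.centralizer ({d.z} : Set G)) Ω) (D : CfsgLib.BrauerOrder.Sys G d.z),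
      D.Spec Ω ∧ D.core.q = d.q ∧
        Nat.card ↥(Subgroup.centralizer (d.U : Set G)) =
          Nat.card ↥(Subgroup.centralizer ({(D.w : G), d.z} : Set G)) ∧
        padicValNat 2 (Nat.card G) = padicValNat 2 (Nat.card ↥(Subgroup.centralizer ({d.z} : Set G))) ∧
        (IsQuasiDihedral (d.S : Subgroup G) ∧ Nat.card D.core.Z = 2 ∨
          IsWreathed (d.S : Subgroup G) ∧ 4 ≤ Nat.card D.core.Z) := by
  haveI := h.simple
  haveI := Fact.mk hd.prime
  obtain ⟨e⟩ := hd.sl
  exact CfsgLib.BrauerOrder.exists_sys h.noncomm d.S hd.qw d.z hd.zord hd.zS hd.zc d.U hd.US hd.klein hd.Un hd.podd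
    d.n hd.npos d.F hd.card ⟨_, inferInstance, ⟨e⟩⟩

end CfsgLib.RankTwoModel
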