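import Cfsg.Agent.Lib.RankTwoModel.Basic
import Cfsg.Agent.Lib.SelfNormNA.Basic
import Cfsg.Agent.Lib.MinSimpleOdd.Sigma
import Cfsg.Agent.Lib.OddLocal.RankTwoTower
import Cfsg.Agent.Lib.SuzukiTwo.UnitarySixty
import Cfsg.Agent.S0516

/-!
Components of proper subgroups of a `Hyp` group: either the subgroup centralises an involution, or its layer is
quasisimple with odd centre and odd centraliser, dihedral (a Gorenstein–Walter model) or semidihedral / wreathed
(a model by induction).

Blueprint: `blueprint/RankTwo.md` (P6).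
-/

set_option autoImplicit false
set_option linter.unusedSectionVars false
set_option linter.style.haveILetI false

namespace CfsgLib.RankTwoModel

open Cfsg CfsgLib.BG CfsgLib.GW CfsgLib.BenderMax CfsgLib.DihedralFusion

universe u

variable {G : Type u} [Group G] [Finite G]

/-- `L` is the component of `H`. -/
structure Comp (H L : Subgroup G) : Prop where
  le : L ≤ H
  perfect : Group.IsPerfect L
  ne : L ≠ ⊥
  quasi : IsQuasisimple L
  norm : ∀ x ∈ H, ∀ y ∈ L, x * y * x⁻¹ ∈ L
  layer : EE H = L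
  W_odd : Odd (Nat.card ↥(H ⊓ Subgroup.centralizer (L : Set G)))
  center_odd : Odd (Nat.card (Subgroup.center L))
  core : oddCore L = Subgroup.center L
  type : (GWDihedral L ∧ GWModel (L ⧸ Subgroup.center L)) ∨
    (QW (L ⧸ Subgroup.center L) ∧ Model (L ⧸ Subgroup.center L))

/-- A quasisimple subgroup meeting a subgroup it normalises outside its centre lies in it. -/
theorem le_of_mem {K N : Subgroup G} (hK : IsQuasisimple K) (hn : ∀ k ∈ K, ∀ x ∈ N, k * x * k⁻¹ ∈ N) {x : G}
    (hxK : x ∈ K) (hxN : x ∈ N) (hne : ∃ k ∈ K, k * x ≠ x * k) : K ≤ N := by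
  haveI : (N.subgroupOf K).Normal := ⟨fun y hy k => hn k k.2 y hy⟩
  rcases quasisimple_normal_le_center_or_eq_top hK (N.subgroupOf K) with e | e
  · obtain ⟨k, hk, hkx⟩ := hne
    exact absurd (congrArg Subtype.val
      (Subgroup.mem_center_iff.1 (e (show (⟨x, hxK⟩ : K) ∈ N.subgroupOf K from hxN)) ⟨k, hk⟩)) hkx
  · intro k hk
    exact (e.symm ▸ Subgroup.mem_top (⟨k, hk⟩ : K) : (⟨k, hk⟩ : K) ∈ N.subgroupOf K)

variable (h : Hyp G)
include h

/-- Two commuting involutions centralised by a non-abelian 2-group are equal. -/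
theorem Hyp.eq_of_fixes {T : Subgroup G} (hT : IsPGroup 2 T) (hna : ¬ IsMulCommutative T) {a b : G}
    (ha : orderOf a = 2) (hb : orderOf b = 2) (hab : a * b = b * a) (hTa : ∀ x ∈ T, a * x = x * a)
    (hTb : ∀ x ∈ T, b * x = x * b) : a = b := by
  haveI : Fact (Nat.Prime 2) := ⟨Nat.prime_two⟩
  by_contra hne
  have hV := isPGroup_klein (isKleinFour_four ha hb hab (Ne.symm hne))
  have hn : T ≤ Subgroup.normalizer (four a b : Set G) := by
    intro x hx
    refine Subgroup.mem_normalizer_fintype fun y hy => ?_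
    have hle : four a b ≤ Subgroup.centralizer ({x} : Set G) :=
      four_le (mem_cent.2 (hTa x hx)) (mem_cent.2 (hTb x hx))
    rw [← mem_cent.1 (hle hy), mul_inv_cancel_right]
    exact hy
  obtain ⟨S, hS⟩ := (hT.to_sup_of_normal_right' hV hn).exists_le_sylow
  obtain ⟨S₀, hS₀⟩ := h.qw
  have hSq := CfsgLib.QDWNoTwo.shape_equiv (S₀.equiv S) hS₀
  have haS : a ∈ (S : Subgroup G) := hS (Subgroup.mem_sup_right (left_mem_four a b))
  have hbS : b ∈ (S : Subgroup G) := hS (Subgroup.mem_sup_right (right_mem_four a b))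
  have hTS : T ≤ (S : Subgroup G) := le_sup_left.trans hS
  have hna' : ¬ IsMulCommutative (T.subgroupOf (S : Subgroup G)) := fun hc => hna
    ⟨⟨fun x y => Subtype.ext (by
      have := hc.is_comm.comm ⟨⟨x, hTS x.2⟩, x.2⟩ ⟨⟨y, hTS y.2⟩, y.2⟩
      exact congrArg (fun t : T.subgroupOf (S : Subgroup G) => ((t : (S : Subgroup G)) : G)) this)⟩⟩
  refine hne (congrArg Subtype.val ((CfsgLib.QDWNoTwo.center_facts hSq).1 ⟨a, haS⟩
    (CfsgLib.GWConseq.QDCentre.qdw_central hSq hna' fun x hx => Subtype.ext (hTa x hx)) ⟨b, hbS⟩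
    (CfsgLib.GWConseq.QDCentre.qdw_central hSq hna' fun x hx => Subtype.ext (hTb x hx))
    ((Subgroup.orderOf_mk a haS).trans ha) ((Subgroup.orderOf_mk b hbS).trans hb)))

omit h in
/-- A perfect subgroup with an involution in its centre has a non-abelian Sylow 2-subgroup. -/
theorem exists_nonabelian_two {L : Subgroup G} [Group.IsPerfect L] {w : L} (hw : w ∈ Subgroup.center L)
    (hw2 : orderOf w = 2) : ∃ T : Subgroup G, T ≤ L ∧ IsPGroup 2 T ∧ ¬ IsMulCommutative T := by
  haveI : Fact (Nat.Prime 2) := ⟨Nat.prime_two⟩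
  obtain ⟨R⟩ : Nonempty (Sylow 2 L) := inferInstance
  refine ⟨(R : Subgroup L).map L.subtype, Subgroup.map_subtype_le _, R.2.map _, fun hc => ?_⟩
  refine CfsgLib.SelfNormNA.transfer_false hw (by rw [Group.IsPerfect.commutator_eq_top]; trivial) hw2 R
    fun a ha b hb => ?_
  exact Subtype.ext (congrArg Subtype.val
    (hc.is_comm.comm ⟨(a : G), Subgroup.mem_map_of_mem _ ha⟩ ⟨(b : G), Subgroup.mem_map_of_mem _ hb⟩) :)

omit h in
/-- A quasisimple subgroup of odd centre: its core is the centre. -/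
theorem core_eq_center {L : Subgroup G} (hq : IsQuasisimple L) (hodd : Odd (Nat.card (Subgroup.center L))) :
    oddCore L = Subgroup.center L := by
  refine le_antisymm ?_ (CfsgLib.le_oddCore hodd)
  refine (quasisimple_normal_le_center_or_eq_top hq (oddCore L)).resolve_right fun e => ?_
  refine isQuasisimple_not_isSolvable hq (CfsgLib.OddOrder.feitThompson ?_)
  have := CfsgLib.odd_card_oddCore (G := L)
  rwa [e, Subgroup.card_top] at this

omit h in
/-- A quasisimple subgroup of odd centre has two commuting involutions. -/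
theorem exists_pair {L : Subgroup G} (hq : IsQuasisimple L) (hodd : Odd (Nat.card (Subgroup.center L))) :
    ∃ a ∈ L, ∃ b ∈ L, orderOf a = 2 ∧ orderOf b = 2 ∧ a * b = b * a ∧ b ≠ a := by
  haveI : Fact (Nat.Prime 2) := ⟨Nat.prime_two⟩
  haveI := hq.1
  obtain ⟨a, ha⟩ := exists_prime_orderOf_dvd_card' (G := L) 2 (by
    rw [← even_iff_two_dvd, ← Nat.not_odd_iff_even]
    exact fun ho => isQuasisimple_not_isSolvable hq (CfsgLib.OddOrder.feitThompson ho))
  rw [← Subgroup.orderOf_coe] at ha
  by_contra hno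
  push Not at hno
  have hc := comm_of_isolated (core_eq_center hq hodd).le ha a.2 fun g hg hcm =>
    hno a a.2 _ (mul_mem (mul_mem hg a.2) (inv_mem hg)) ha ((orderOf_cj g a).trans ha) hcm.symm.eq
  have haZ : a ∈ Subgroup.center L := Subgroup.mem_center_iff.2 fun x => Subtype.ext (hc x x.2)
  have hd := Subgroup.orderOf_dvd_natCard _ haZ
  rw [← Subgroup.orderOf_coe, ha] at hd
  exact Nat.not_even_iff_odd.2 hodd (even_iff_two_dvd.2 hd)

/-- No involution centralises a quasisimple subgroup of odd centre. -/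
theorem Hyp.no_invol_cent {L : Subgroup G} (hq : IsQuasisimple L) (hodd : Odd (Nat.card (Subgroup.center L)))
    {c : G} (hc : orderOf c = 2) (hcent : ∀ x ∈ L, c * x = x * c) : False := by
  obtain ⟨a, haL, b, hbL, ha, hb, hab, hne⟩ := exists_pair hq hodd
  have hcL : c ∈ L := by
    rcases h.invol_cases ha hb hab hne hc (hcent a haL) (hcent b hbL) with e | e | e <;> subst e
    exacts [haL, hbL, mul_mem haL hbL]
  have hcZ : (⟨c, hcL⟩ : L) ∈ Subgroup.center L :=
    Subgroup.mem_center_iff.2 fun x => Subtype.ext (hcent x x.2).symm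
  have hd := Subgroup.orderOf_dvd_natCard _ hcZ
  rw [Subgroup.orderOf_mk, hc] at hd
  exact Nat.not_even_iff_odd.2 hodd (even_iff_two_dvd.2 hd)

/-- The isomorphism type of a quasisimple subgroup of odd centre. -/
theorem Hyp.comp_type {L : Subgroup G} (hL : L ≠ ⊤) (hq : IsQuasisimple L)
    (hodd : Odd (Nat.card (Subgroup.center L))) :
    (GWDihedral L ∧ GWModel (L ⧸ Subgroup.center L)) ∨
      (QW (L ⧸ Subgroup.center L) ∧ Model (L ⧸ Subgroup.center L)) := by
  haveI : Fact (Nat.Prime 2) := ⟨Nat.prime_two⟩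
  haveI := hq.1
  haveI hQs := hq.2
  haveI : Group.IsPerfect (L ⧸ Subgroup.center L) :=
    Group.IsPerfect.ofSurjective (f := QuotientGroup.mk' (Subgroup.center L)) (QuotientGroup.mk'_surjective _)
  have hQn : ¬ IsMulCommutative (L ⧸ Subgroup.center L) := fun hc => by
    have e : commutator (L ⧸ Subgroup.center L) = ⊥ := by
      rw [commutator_def, Subgroup.commutator_eq_bot_iff_le_centralizer]
      exact fun x _ => Subgroup.mem_centralizer_iff.2 fun y _ => hc.is_comm.comm y x
    rw [Group.IsPerfect.commutator_eq_top] at e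
    haveI : Nontrivial (L ⧸ Subgroup.center L) := hQs.toNontrivial
    exact top_ne_bot e
  have h2 : Cfsg.PRankLE 2 2 (L ⧸ Subgroup.center L) :=
    CfsgLib.MinSimpleOdd.pRankLE_quotient _ (fun hd => Nat.not_even_iff_odd.2 hodd (even_iff_two_dvd.2 hd))
      (CfsgLib.RankTwoTower.pRankLE_of_injective L.subtype L.subtype_injective h.rank_two)
  obtain ⟨T⟩ : Nonempty (Sylow 2 L) := inferInstance
  obtain ⟨eT⟩ := CfsgLib.GWConseq.sylow_quotient_odd _ hodd T
  set S := T.mapSurjective (QuotientGroup.mk'_surjective (Subgroup.center L))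
  letI : Fintype (GaloisField 2 4) := Fintype.ofFinite _
  have h16 : Fintype.card (GaloisField 2 4) = 16 := by
    rw [← Nat.card_eq_fintype_card, GaloisField.card 2 4 (by norm_num)]; norm_num
  obtain ⟨P⟩ : Nonempty (Sylow 2 (Cfsg.PSU 3 (GaloisField 2 4) 4)) := inferInstance
  rcases Cfsg.Agent.S0516.result hQn h2 S h16 P with ⟨n, hn, ⟨e⟩⟩ | hS | hS | ⟨⟨e⟩⟩
  · refine Or.inl ⟨⟨T, n, hn, ⟨eT.trans e⟩⟩, CfsgLib.GWConseq.GWThm.model CfsgLib.GW.gwThm ⟨S, n, hn, ⟨e⟩⟩ ?_⟩
    refine (inferInstance : (oddCore (L ⧸ Subgroup.center L)).Normal).eq_bot_or_eq_top.resolve_right fun e' => ?_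
    have ho := CfsgLib.odd_card_oddCore (G := L ⧸ Subgroup.center L)
    rw [e', Subgroup.card_top] at ho
    haveI := CfsgLib.GW.subsingleton_of_odd ho
    exact not_nontrivial _ hQs.toNontrivial
  · exact Or.inr ⟨⟨S, Or.inl hS⟩, h.ih _ hQs (lt_of_le_of_lt (Nat.le_of_dvd Nat.card_pos
      (Subgroup.card_quotient_dvd_card _)) (card_lt_of_ne_top hL)) ⟨S, Or.inl hS⟩⟩
  · exact Or.inr ⟨⟨S, Or.inr hS⟩, h.ih _ hQs (lt_of_le_of_lt (Nat.le_of_dvd Nat.card_pos
      (Subgroup.card_quotient_dvd_card _)) (card_lt_of_ne_top hL)) ⟨S, Or.inr hS⟩⟩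
  · exfalso
    set W := (P : Subgroup (Cfsg.PSU 3 (GaloisField 2 4) 4))
    have h6 := CfsgLib.SuzukiTwo.sixty h16 P
    have e' : (T : Subgroup L) ≃* W := eT.trans e
    obtain ⟨a, ha, ha1⟩ := (Subgroup.center W).bot_or_exists_ne_one.resolve_left fun e0 => by
      have := h6.card_center
      rw [e0, Subgroup.card_bot] at this
      omega
    obtain ⟨b, hb, hba, hb1⟩ : ∃ b ∈ Subgroup.center W, b ≠ a ∧ b ≠ 1 := by
      by_contra hc
      push Not at hc
      have hle := Set.ncard_le_ncard (s := (Subgroup.center W : Set W)) (t := {1, a}) (fun x hx => by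
        by_cases hxa : x = a
        · exact Or.inr hxa
        · exact Or.inl (hc x hx hxa))
      rw [← Nat.card_coe_set_eq, show Nat.card (Subgroup.center W : Set W) = Nat.card (Subgroup.center W) from rfl,
        h6.card_center, Set.ncard_pair (Ne.symm ha1)] at hle
      omega
    let f : W →* G := L.subtype.comp ((T : Subgroup L).subtype.comp e'.symm.toMonoidHom)
    have hf : Function.Injective f :=
      L.subtype_injective.comp ((T : Subgroup L).subtype_injective.comp e'.symm.injective)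
    have hna : ¬ IsMulCommutative f.range := fun hc => by
      have e0 : Subgroup.center W = ⊤ := eq_top_iff.2 fun x _ => Subgroup.mem_center_iff.2 fun y =>
        hf (by rw [map_mul, map_mul]; exact congrArg Subtype.val (hc.is_comm.comm ⟨f y, y, rfl⟩ ⟨f x, x, rfl⟩))
      have := h6.card_center
      rw [e0, Subgroup.card_top, h6.card] at this
      omega
    have ord : ∀ x ∈ Subgroup.center W, x ≠ 1 → orderOf (f x) = 2 := fun x hx hx1 => by
      rw [orderOf_injective f hf]
      exact orderOf_eq_prime (by rw [sq]; exact h6.cen x hx) hx1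
    have com : ∀ x ∈ Subgroup.center W, ∀ y ∈ f.range, f x * y = y * f x := by
      rintro x hx _ ⟨y, rfl⟩
      rw [← map_mul, ← map_mul, Subgroup.mem_center_iff.1 hx y]
    refine hba (hf (h.eq_of_fixes (T := f.range) ?_ hna (ord b hb hb1) (ord a ha ha1)
      (com b hb _ ⟨a, rfl⟩) (com b hb) (com a ha)))
    exact P.2.of_surjective f.rangeRestrict f.rangeRestrict_surjective

/-- **The layer of a proper subgroup.** -/
theorem Hyp.exists_comp {H : Subgroup G} (hH : H ≠ ⊤) (hE : EE H ≠ ⊥) :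
    (∃ L, Comp H L) ∨ ∃ w ∈ H, orderOf w = 2 ∧ H ≤ Subgroup.centralizer ({w} : Set G) := by
  haveI : Fact (Nat.Prime 2) := ⟨Nat.prime_two⟩
  have hcomm : ∀ {K K' : Subgroup H}, IsComponent K → IsComponent K' → K ≠ K' →
      ∀ x ∈ K, ∀ y ∈ K', x * y = y * x := fun hK hK' hne x hx y hy =>
    CfsgLib.Comp.comm_of_commutator_eq_bot ((components_eq_or_commute hK hK').resolve_left hne) hx hy
  by_cases hev : ∃ K : Subgroup H, IsComponent K ∧ ¬ Odd (Nat.card (Subgroup.center K))
  · right
    obtain ⟨K, hK, hKev⟩ := hev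
    obtain ⟨w, hw⟩ := exists_prime_orderOf_dvd_card' (G := Subgroup.center K) 2
      (even_iff_two_dvd.1 (Nat.not_odd_iff_even.1 hKev))
    rw [← Subgroup.orderOf_coe, ← Subgroup.orderOf_coe, ← Subgroup.orderOf_coe] at hw
    set w0 : G := (((w : K) : H) : G) with hw0
    refine ⟨w0, ((w : K) : H).2, hw, fun g hg => mem_cent.2 ?_⟩
    set L := K.map H.subtype with hL
    haveI : Group.IsPerfect K := hK.2.1
    haveI : Group.IsPerfect L := Group.IsPerfect.map H.subtype
    have hwL : w0 ∈ L := Subgroup.mem_map_of_mem _ (w : K).2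
    have hwc : ∀ x ∈ L, w0 * x = x * w0 := by
      rintro _ ⟨x, hx, rfl⟩
      exact (congrArg (fun t : K => ((t : H) : G)) (Subgroup.mem_center_iff.1 w.2 ⟨x, hx⟩)).symm
    obtain ⟨T, hTL, hT2, hTna⟩ := exists_nonabelian_two (L := L) (w := ⟨w0, hwL⟩)
      (Subgroup.mem_center_iff.2 fun x => Subtype.ext (hwc x x.2).symm) ((Subgroup.orderOf_mk _ hwL).trans hw)
    set g' : H := ⟨g, hg⟩
    have hK' := isComponent_map_equiv (MulAut.conj g') hK
    have hcl : ∀ x ∈ L, g * w0 * g⁻¹ * x = x * (g * w0 * g⁻¹) := by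
      rintro _ ⟨x, hx, rfl⟩
      by_cases he : K.map (MulAut.conj g').toMonoidHom = K
      · have hx' : g'⁻¹ * x * g' ∈ K := by
          rw [← he] at hx
          obtain ⟨y, hy, rfl⟩ := hx
          simpa [mul_assoc] using hy
        have := hwc _ (Subgroup.mem_map_of_mem H.subtype hx')
        calc g * w0 * g⁻¹ * H.subtype x = g * (w0 * H.subtype (g'⁻¹ * x * g')) * g⁻¹ := by
              simp [g', mul_assoc]
          _ = g * (H.subtype (g'⁻¹ * x * g') * w0) * g⁻¹ := by rw [this]
          _ = _ := by simp [g', mul_assoc]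
      · have := congrArg H.subtype
          (hcomm hK' hK he (g' * ((w : K) : H) * g'⁻¹) ⟨_, (w : K).2, rfl⟩ x hx)
        simpa [g', mul_assoc] using this
    have := h.eq_of_fixes hT2 hTna hw ((orderOf_cj g w0).trans hw) (hcl w0 hwL).symm
      (fun x hx => hwc x (hTL hx)) fun x hx => hcl x (hTL hx)
    exact mul_inv_eq_iff_eq_mul.1 this.symm
  · left
    push Not at hev
    obtain ⟨K, hK⟩ : ∃ K : Subgroup H, IsComponent K := by
      by_contra hno
      push Not at hno
      refine hE ?_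
      rw [EE, show Cfsg.layer H = ⊥ from sSup_eq_bot.2 fun K hK => absurd hK (hno K), Subgroup.map_bot]
    set L := K.map H.subtype with hL
    have hq : IsQuasisimple L :=
      isQuasisimple_of_equiv (K.equivMapOfInjective H.subtype H.subtype_injective) hK.2
    haveI := hq.1
    have hodd : Odd (Nat.card (Subgroup.center L)) := by
      have e := Nat.card_congr
        (Subgroup.centerCongr (K.equivMapOfInjective H.subtype H.subtype_injective)).toEquiv
      exact e ▸ hev K hK
    have hW : ∀ c : G, orderOf c = 2 → (∀ x ∈ L, c * x = x * c) → False := fun c => h.no_invol_cent hq hodd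
    have huniq : ∀ K' : Subgroup H, IsComponent K' → K' = K := by
      intro K' hK'
      by_contra hne
      obtain ⟨c, hc⟩ := exists_prime_orderOf_dvd_card' (G := K') 2 (by
        rw [← even_iff_two_dvd, ← Nat.not_odd_iff_even]
        exact fun ho => isQuasisimple_not_isSolvable hK'.2 (CfsgLib.OddOrder.feitThompson ho))
      rw [← Subgroup.orderOf_coe, ← Subgroup.orderOf_coe] at hc
      refine hW _ hc ?_
      rintro _ ⟨x, hx, rfl⟩
      exact congrArg H.subtype (hcomm hK' hK hne c c.2 x hx)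
    have hlayer : Cfsg.layer H = K :=
      le_antisymm (sSup_le fun K' hK' => (huniq K' hK').le) (le_layer hK)
    have hLH : L ≤ H := Subgroup.map_subtype_le _
    refine ⟨L, hLH, hq.1, ?_, hq, ?_, by rw [EE, hlayer], ?_, hodd, core_eq_center hq hodd, ?_⟩
    · exact fun e => isComponent_ne_bot hK ((Subgroup.map_eq_bot_iff_of_injective _ H.subtype_injective).1 e)
    · rintro x hx _ ⟨y, hy, rfl⟩
      refine ⟨⟨x, hx⟩ * y * ⟨x, hx⟩⁻¹, ?_, rfl⟩
      rw [← huniq _ (isComponent_map_equiv (MulAut.conj (⟨x, hx⟩ : H)) hK)]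
      exact ⟨y, hy, rfl⟩
    · rw [← Nat.not_even_iff_odd, even_iff_two_dvd]
      intro hd
      obtain ⟨c, hc⟩ := exists_prime_orderOf_dvd_card' (G := ↥(H ⊓ Subgroup.centralizer (L : Set G))) 2 hd
      rw [← Subgroup.orderOf_coe] at hc
      exact hW _ hc fun x hx => (Subgroup.mem_centralizer_iff.1 c.2.2 x hx).symm
    · exact h.comp_type (fun e => hH (top_le_iff.1 (e ▸ hLH))) hq hodd

end CfsgLib.RankTwoModel
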