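import Cfsg.Agent.Lib.RankTwoModel.SL2Odd
import Cfsg.Agent.Lib.Homogeneous.SD.SLAut

/-!
Linear facts for the natural module step.

* `eq_one_of_fix_torus`: an `ℓ`-automorphism fixing a torus pointwise is trivial;
* `sq_one_of_two`: commuting with two non-commuting elements;
* `small_torus`: a torus of exponent four forces `q = 5`;
* `exists_coord`: coordinates for a unipotent inverted by a trace zero matrix;
* `gen_up`: a subgroup normalised by the monomial matrices containing a unitriangular matrix is everything.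

Blueprint: `blueprint/RankTwo_P3.md`.
-/

set_option autoImplicit false
set_option linter.unusedSectionVars false
set_option linter.style.haveILetI false
set_option linter.unnecessarySeqFocus false

namespace CfsgLib.RankTwoModel.SL2

open Matrix CfsgLib.PSL2
open scoped MatrixGroups

variable {F : Type} [Field F] [Fintype F]

local notation "M2" => Matrix (Fin 2) (Fin 2) F
local notation "SL" => Matrix.SpecialLinearGroup (Fin 2) F
local notation "q" => Fintype.card F

/-- An element commuting with two non-commuting elements squares to one. -/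
theorem sq_one_of_two {A b e : SL} (hb : ∀ a : F, b.1 ≠ a • (1 : M2)) (hAb : Commute A b) (hAe : Commute A e)
    (hbe : ¬ Commute b e) : A * A = 1 := by
  obtain ⟨x, y, hxy⟩ := SL2Centralizer.exists_of_commute hb (show Commute A.1 b.1 from congrArg Subtype.val hAb.eq)
  have hy : y = 0 := by
    by_contra hy
    refine hbe (Subtype.ext ?_)
    have h : A.1 * e.1 = e.1 * A.1 := congrArg Subtype.val hAe.eq
    rw [hxy, add_mul, mul_add, ((Commute.one_left e.1).smul_left x).eq] at h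
    have h' := add_left_cancel h
    rw [Matrix.smul_mul, Matrix.mul_smul] at h'
    exact smul_right_injective _ hy h'
  rw [hy, zero_smul, add_zero] at hxy
  have hd := A.2
  rw [hxy] at hd
  simp at hd
  refine Subtype.ext ?_
  show A.1 * A.1 = 1
  rcases hd with rfl | rfl <;> simp [hxy]

/-- An automorphism of `ℓ`-power order fixing a torus pointwise is trivial. -/
theorem eq_one_of_fix_torus (ℓ : ℕ) [Fact ℓ.Prime] [CharP F ℓ] (hodd : Odd q) (h3 : 3 < q) {φ : MulAut SL}
    {k : ℕ} (hpow : φ ^ ℓ ^ k = 1) {b : SL} (hb : b.1.trace ^ 2 ≠ 4)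
    (hfix : ∀ A ∈ Subgroup.centralizer ({b} : Set SL), φ A = A) : φ = 1 := by
  classical
  have h2 := GW.Model.two_ne_zero_of_odd hodd
  have hl : ℓ.Prime := Fact.out
  have hl2 : ℓ ≠ 2 := GW.Model.p_ne_two ℓ hodd
  obtain ⟨h, e, he⟩ := exists_semi ℓ h3 φ
  have hns := SL2Centralizer.not_scalar_of_trace hb
  obtain ⟨hcyc, hcard⟩ := SL2Tori.isCyclic_centralizer hb
  have hcancel : ∀ X : M2, (h⁻¹).1 * (h.1 * X * (h⁻¹).1) * h.1 = X := fun X => by simp [Matrix.mul_assoc]
  have herefl : e = RingEquiv.refl F := by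
    by_contra hne
    have hpe : (e : RingAut F) ^ ℓ ^ k = 1 := by
      have h1 := congrArg (fun ψ => PSL2.fieldPart ℓ (toPSL ψ)) hpow
      simp only [toPSL, map_pow, map_one] at h1
      rwa [← toPSL, fieldPart_toPSL ℓ he] at h1
    haveI : Finite (RingAut F) := Finite.of_injective (fun g : RingAut F => (g : F → F)) DFunLike.coe_injective
    set o := orderOf (e : RingAut F) with ho
    have ho3 : 3 ≤ o := by
      obtain ⟨i, -, hi⟩ := (Nat.dvd_prime_pow hl).mp (orderOf_dvd_of_pow_eq_one hpe)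
      rw [← ho] at hi
      rcases i with _ | i
      · exact absurd (orderOf_eq_one_iff.mp (by rw [← ho, hi, pow_zero])) hne
      · rw [hi]
        have h5 := hl.two_le
        have : ℓ ≤ ℓ ^ (i + 1) := Nat.le_self_pow (Nat.succ_ne_zero i) ℓ
        omega
    set n := Nat.card (GW.Model.fixField e) with hn
    have hq := GW.Model.card_fixField (e : RingAut F)
    rw [← ho] at hq
    -- the torus has at most `n²` elements
    have hco : ∀ A : Subgroup.centralizer ({b} : Set SL), ∃ xy : GW.Model.fixField e × GW.Model.fixField e,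
        A.1.1 = (xy.1 : F) • (1 : M2) + (xy.2 : F) • b.1 := by
      intro A
      obtain ⟨x, y, hxy⟩ := SL2Centralizer.exists_of_commute hns
        (show Commute A.1.1 b.1 from congrArg Subtype.val (SL2Tori.mem_centralizer.mp A.2).eq)
      have hbb := congrArg Subtype.val (hfix b (SL2Tori.mem_centralizer.mpr (Commute.refl b)))
      have hAA := congrArg Subtype.val (hfix A.1 A.2)
      rw [he] at hbb hAA
      have hmap : A.1.1.map e = e x • (1 : M2) + e y • b.1.map e := by
        rw [hxy]; ext i j; by_cases hij : i = j <;> simp [hij]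
      have h1 : (e x • (1 : M2) + e y • b.1) = x • (1 : M2) + y • b.1 := by
        rw [← hxy, ← hAA, hmap]
        simp only [mul_add, add_mul, Matrix.mul_smul, Matrix.smul_mul, mul_one, hbb]
        rw [← Units.val_mul, mul_inv_cancel, Units.val_one]
      obtain ⟨hx, hy⟩ := SL2Centralizer.lin_injective hns h1
      exact ⟨(⟨x, hx⟩, ⟨y, hy⟩), hxy⟩
    choose f hf using hco
    have hle : Nat.card (Subgroup.centralizer ({b} : Set SL)) ≤ n * n := by
      rw [← Nat.card_prod]
      exact Nat.card_le_card_of_injective f fun A B hAB => Subtype.ext (Subtype.ext (by rw [hf A, hf B, hAB]))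
    have hle' : q - 1 ≤ n * n := le_trans (by rcases hcard with h | h <;> omega) hle
    have hn1 : 1 < n := by
      by_contra hn1
      rw [not_lt] at hn1
      have : Nat.card (GW.Model.fixField e) ^ o ≤ 1 := pow_le_one₀ (Nat.zero_le _) hn1
      omega
    have h4 : n ^ 3 ≤ q := hq ▸ Nat.pow_le_pow_right (by omega) ho3
    have h5 : n ^ 3 = n * n * n := by ring
    have h6 : 2 * (n * n) ≤ n * n * n := by
      calc 2 * (n * n) = n * n * 2 := by ring
        _ ≤ _ := Nat.mul_le_mul_left _ hn1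
    have h7 : 4 ≤ n * n := by
      calc 4 = 2 * 2 := rfl
        _ ≤ _ := Nat.mul_le_mul hn1 hn1
    omega
  have hφA : ∀ A : SL, (φ A).1 = h.1 * A.1 * (h⁻¹).1 := fun A => by
    rw [he A, herefl, show A.1.map (RingEquiv.refl F) = A.1 from Matrix.ext fun _ _ => rfl]
  have hhb : Commute h.1 b.1 := by
    have hbb := congrArg Subtype.val (hfix b (SL2Tori.mem_centralizer.mpr (Commute.refl b)))
    rw [hφA] at hbb
    show h.1 * b.1 = b.1 * h.1
    conv_rhs => rw [← hbb]
    simp [Matrix.mul_assoc]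
  -- a torus element proportional to `h²`
  set δ := h.1.det with hδ
  have hδ0 : δ ≠ 0 := GW.Model.det_ne h
  obtain ⟨m, hm⟩ : ∃ m : SL, m.1 = δ⁻¹ • (h.1 * h.1) := by
    refine ⟨⟨_, ?_⟩, rfl⟩
    rw [Matrix.det_smul, Matrix.det_mul, ← hδ, Fintype.card_fin]
    field_simp
  have hmb : m ∈ Subgroup.centralizer ({b} : Set SL) := SL2Tori.mem_centralizer.mpr (Subtype.ext (by
    show m.1 * b.1 = b.1 * m.1
    rw [hm, Matrix.smul_mul, Matrix.mul_smul, (hhb.mul_left hhb).eq]))
  have hconj : ∀ A : SL, φ (φ A) = m * A * m⁻¹ := fun A => by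
    rw [eq_mul_inv_iff_mul_eq]
    refine Subtype.ext ?_
    show (φ (φ A)).1 * m.1 = m.1 * A.1
    rw [hφA, hφA, hm]
    simp [Matrix.mul_assoc]
  have hconjn : ∀ (n : ℕ) (A : SL), (φ ^ (2 * n)) A = m ^ n * A * (m ^ n)⁻¹ := fun n => by
    induction n with
    | zero => intro A; simp
    | succ n ih =>
      intro A
      rw [show 2 * (n + 1) = 2 * n + 2 by ring, pow_add, MulAut.mul_apply, pow_two φ, MulAut.mul_apply, hconj, ih,
        pow_succ]
      group
  set N := ℓ ^ k with hN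
  have hmc : m ^ N ∈ Subgroup.center SL := Subgroup.mem_center_iff.mpr fun A => by
    have h1 := hconjn N A
    rw [mul_comm 2 N, pow_mul, hpow, one_pow, MulAut.one_apply] at h1
    exact eq_mul_inv_iff_mul_eq.mp h1
  have hm2 : (m ^ N) * (m ^ N) = 1 := by
    obtain ⟨r, hr, hA⟩ := Matrix.SpecialLinearGroup.mem_center_iff.mp hmc
    rw [Fintype.card_fin] at hr
    refine Subtype.ext ?_
    show (m ^ N).1 * (m ^ N).1 = 1
    rw [← hA, ← map_mul, ← pow_two, hr, map_one]
  have hcop : (orderOf m).Coprime N := by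
    refine Nat.Coprime.pow_right k (Nat.Coprime.symm (hl.coprime_iff_not_dvd.mpr fun hd => ?_))
    have hd' := hd.trans (Subgroup.orderOf_dvd_natCard _ hmb)
    exact SL2Tori.not_dvd_char (F := F) ℓ ℓ hl (by rcases hcard with h' | h' <;> rw [h'] at hd' <;> simp [hd']) rfl
  have hm1 : m * m = 1 := by
    have h1 : orderOf (m * m) ∣ N := orderOf_dvd_of_pow_eq_one (by
      rw [(Commute.refl m).mul_pow]; exact hm2)
    have h3 : orderOf (m * m) ∣ orderOf m := by rw [← pow_two]; exact orderOf_pow_dvd 2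
    exact orderOf_eq_one_iff.mp (Nat.eq_one_of_dvd_coprimes hcop h3 h1)
  have hsq : φ * φ = 1 := by
    refine MulEquiv.ext fun A => ?_
    rw [MulAut.mul_apply, hconj]
    rcases SL2Orders.eq_one_or_neg_one_of_sq h2 m hm1 with rfl | rfl
    · simp
    · rw [mul_inv_eq_iff_eq_mul, neg_one_mul, mul_neg, mul_one]; rfl
  have h8 : orderOf φ ∣ 2 := orderOf_dvd_of_pow_eq_one (by rw [pow_two, hsq])
  exact orderOf_eq_one_iff.mp (Nat.eq_one_of_dvd_coprimes
    (Nat.coprime_two_right.mpr (hl.odd_of_ne_two hl2).pow) (orderOf_dvd_of_pow_eq_one hpow) h8)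

/-- A torus of exponent four. -/
theorem small_torus (hodd : Odd q) (h3 : 3 < q) {b : SL} (hb : b.1.trace ^ 2 ≠ 4)
    (hexp : ∀ A ∈ Subgroup.centralizer ({b} : Set SL), A * A = 1 ∨ A * A = -1) :
    q = 5 ∧ ∃ A ∈ Subgroup.centralizer ({b} : Set SL), A * A = -1 := by
  obtain ⟨hcyc, hcard⟩ := SL2Tori.isCyclic_centralizer hb
  haveI := hcyc
  obtain ⟨A, hA⟩ := IsCyclic.exists_ofOrder_eq_natCard (α := Subgroup.centralizer ({b} : Set SL))
  have h4 : orderOf A ∣ 4 := orderOf_dvd_of_pow_eq_one (Subtype.ext (by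
    show (A.1) ^ 4 = 1
    rw [show 4 = 2 * 2 from rfl, pow_mul, pow_two, pow_two]
    rcases hexp A.1 A.2 with e | e <;> rw [e] <;> simp))
  have hle := Nat.le_of_dvd (by norm_num) h4
  rw [hA] at hle
  obtain ⟨j, hj⟩ := hodd
  have hq5 : q = 5 := by rcases hcard with e | e <;> omega
  refine ⟨hq5, A.1, A.2, (hexp A.1 A.2).resolve_left fun e => ?_⟩
  have h2 : orderOf A ∣ 2 := orderOf_dvd_of_pow_eq_one (Subtype.ext (by rw [pow_two]; exact e))
  have := Nat.le_of_dvd (by norm_num) h2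
  rw [hA] at this
  rcases hcard with e | e <;> omega

/-- The odd elements of a torus for `q = 5`. -/
theorem torus_five (hq5 : q = 5) {p : ℕ} (hp : p.Prime) (hp2 : p ≠ 2) {e : SL} (he : e.1.trace ^ 2 ≠ 4)
    {i : ℕ} (hei : e ^ p ^ i = 1) (he1 : e ≠ 1) {f : SL} (hfc : Commute f e) {j : ℕ} (hfj : f ^ p ^ j = 1) :
    f = 1 ∨ f = e ∨ f = e⁻¹ := by
  classical
  obtain ⟨hcyc, hcard⟩ := SL2Tori.isCyclic_centralizer he
  haveI := hcyc
  set T := Subgroup.centralizer ({e} : Set SL)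
  obtain ⟨i', -, hi'⟩ := (Nat.dvd_prime_pow hp).mp (orderOf_dvd_of_pow_eq_one hei)
  have hpN : p ∣ Nat.card T := by
    rcases i' with _ | i'
    · exact absurd (orderOf_eq_one_iff.mp (hi'.trans (pow_zero p))) he1
    · exact (hi' ▸ dvd_pow_self p (Nat.succ_ne_zero i') : p ∣ orderOf e).trans
        (Subgroup.orderOf_dvd_natCard T (SL2Tori.mem_centralizer.mpr (Commute.refl e)))
  have hN6 : Nat.card T = 6 ∧ p = 3 := by
    rcases hcard with h | h <;> rw [hq5] at h
    · rw [h] at hpN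
      exact absurd ((Nat.prime_dvd_prime_iff_eq hp Nat.prime_two).mp (hp.dvd_of_dvd_pow (show p ∣ 2 ^ 2 from hpN))) hp2
    · rw [h] at hpN
      refine ⟨h, ?_⟩
      rcases hp.dvd_mul.mp (show p ∣ 2 * 3 from hpN) with h' | h'
      · exact absurd ((Nat.prime_dvd_prime_iff_eq hp Nat.prime_two).mp h') hp2
      · exact (Nat.prime_dvd_prime_iff_eq hp Nat.prime_three).mp h'
  have hcube : ∀ g : SL, Commute g e → ∀ n : ℕ, g ^ p ^ n = 1 → g ^ 3 = 1 := fun g hg n hn => by
    have h1 : orderOf g ∣ 6 := hN6.1 ▸ Subgroup.orderOf_dvd_natCard T (SL2Tori.mem_centralizer.mpr hg)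
    have h2 : orderOf g ∣ 3 ^ n := hN6.2 ▸ orderOf_dvd_of_pow_eq_one hn
    exact orderOf_dvd_iff_pow_eq_one.mp
      ((Nat.Coprime.pow_right n (by norm_num : Nat.Coprime 2 3)).coprime_dvd_left dvd_rfl |>.symm.coprime_dvd_left h2
        |>.dvd_of_dvd_mul_left (show orderOf g ∣ 2 * 3 from h1))
  have he3 := hcube e (Commute.refl e) i hei
  have hf3 := hcube f hfc j hfj
  -- a cyclic group has one subgroup of order three
  have heo : orderOf (⟨e, SL2Tori.mem_centralizer.mpr (Commute.refl e)⟩ : T) = 3 := by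
    rw [Subgroup.orderOf_mk]
    exact orderOf_eq_prime he3 he1
  set eT : T := ⟨e, SL2Tori.mem_centralizer.mpr (Commute.refl e)⟩
  set fT : T := ⟨f, SL2Tori.mem_centralizer.mpr hfc⟩
  have hne2 : eT⁻¹ ≠ eT := fun h => by
    have h2 : orderOf eT ∣ 2 := orderOf_dvd_of_pow_eq_one (by rw [pow_two]; exact inv_eq_iff_mul_eq_one.mp h)
    rw [heo] at h2; norm_num at h2
  have he1' : eT ≠ 1 := fun h => he1 (congrArg Subtype.val h)
  have hS : ({1, eT, eT⁻¹} : Finset T).card = 3 := by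
    rw [Finset.card_insert_of_notMem (by simp [eq_comm (a := (1 : T)), he1']),
      Finset.card_pair hne2.symm]
  have hsub : ({1, eT, eT⁻¹} : Finset T) ⊆ (Finset.univ.filter fun x : T => x ^ 3 = 1) := by
    have h3e : eT ^ 3 = 1 := Subtype.ext he3
    intro x hx
    simp only [Finset.mem_insert, Finset.mem_singleton] at hx
    rcases hx with rfl | rfl | rfl <;> simp [inv_pow, h3e]
  have hmem : fT ∈ ({1, eT, eT⁻¹} : Finset T) := by
    rw [Finset.eq_of_subset_of_card_le hsub (by rw [hS]; exact IsCyclic.card_pow_eq_one_le (by norm_num))]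
    simp [fT, Subtype.ext_iff, hf3]
  simp only [Finset.mem_insert, Finset.mem_singleton] at hmem
  rcases hmem with h | h | h
  · exact Or.inl (congrArg Subtype.val h)
  · exact Or.inr (Or.inl (congrArg Subtype.val h))
  · exact Or.inr (Or.inr (congrArg Subtype.val h))

/-- Coordinates for a unipotent inverted by a trace zero matrix. -/
theorem exists_coord (ℓ : ℕ) [Fact ℓ.Prime] [CharP F ℓ] (h2 : (2 : F) ≠ 0) {φ : MulAut SL} {g : GL (Fin 2) F}
    (htr : g.1.trace = 0) (hφ : ∀ A : SL, (φ A).1 = g.1 * A.1 * (g⁻¹).1) {C : SL} {k : ℕ}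
    (hC : C ^ ℓ ^ k = 1) (hC1 : C ≠ 1) (hinv : φ C = C⁻¹) :
    ∃ (P : SL) (x : F), x ≠ 0 ∧ P * C * P⁻¹ = uSL x ∧
      ∀ A : SL, (P * φ (P⁻¹ * A * P) * P⁻¹).1 = !![A.1 0 0, -A.1 0 1; -A.1 1 0, A.1 1 1] := by
  obtain ⟨Q, x, hx, hQ⟩ := exists_up_conj ℓ hC hC1
  set g' : M2 := Q.1 * g.1 * (Q⁻¹).1 with hg'
  have hQQ : (Q⁻¹).1 * Q.1 = 1 := congrArg Subtype.val (inv_mul_cancel Q)
  have hQQ' : Q.1 * (Q⁻¹).1 = 1 := congrArg Subtype.val (mul_inv_cancel Q)
  have htr' : g' 0 0 + g' 1 1 = 0 := by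
    rw [← Matrix.trace_fin_two, hg', Matrix.trace_mul_cycle, hQQ, one_mul, htr]
  have hdet' : g'.det ≠ 0 := by
    rw [hg', Matrix.det_mul, Matrix.det_mul, Q.2, (Q⁻¹).2, one_mul, mul_one]
    exact GW.Model.det_ne g
  have hgu : g' * (uSL x).1 = (uSL (-x)).1 * g' := by
    have h1 : g.1 * C.1 = (C⁻¹).1 * g.1 := by
      rw [← hinv, hφ]; simp [Matrix.mul_assoc]
    have hQx : Q * C⁻¹ * Q⁻¹ = uSL (-x) := by
      rw [← conj_inv, hQ]
      exact inv_eq_of_mul_eq_one_right (by
        rw [Homogeneous.SD.uSL_add, add_neg_cancel]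
        exact Subtype.ext (by rw [coe_uSL]; exact Matrix.one_fin_two.symm))
    rw [← hQ, ← hQx]
    show Q.1 * g.1 * (Q⁻¹).1 * (Q.1 * C.1 * (Q⁻¹).1) = Q.1 * (C⁻¹).1 * (Q⁻¹).1 * (Q.1 * g.1 * (Q⁻¹).1)
    simp only [Matrix.mul_assoc]
    rw [← Matrix.mul_assoc (Q⁻¹).1 Q.1, hQQ, one_mul, ← Matrix.mul_assoc (Q⁻¹).1 Q.1, hQQ, one_mul,
      ← Matrix.mul_assoc g.1, h1, Matrix.mul_assoc]
  have h10 : g' 1 0 = 0 := by
    have e := congrFun (congrFun hgu 0) 0
    simp [coe_uSL, Matrix.mul_apply, Fin.sum_univ_two] at e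
    exact e.resolve_left hx
  set a := g' 0 0 with ha
  have h11 : g' 1 1 = -a := by linear_combination htr'
  have ha0 : a ≠ 0 := fun h => hdet' (by rw [Matrix.det_fin_two, h10, ← ha, h]; ring)
  set t := g' 0 1 / (2 * a) with ht
  set P := uSL t * Q with hP
  have hPg : P.1 * g.1 * (P⁻¹).1 = !![a, 0; 0, -a] := by
    have e1 : (P⁻¹).1 = (Q⁻¹).1 * (uSL (-t)).1 := by
      rw [hP, _root_.mul_inv_rev, show (uSL t : SL)⁻¹ = uSL (-t) from inv_eq_of_mul_eq_one_right (by
        rw [Homogeneous.SD.uSL_add, add_neg_cancel]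
        exact Subtype.ext (by rw [coe_uSL]; exact Matrix.one_fin_two.symm))]
      rfl
    rw [e1, show P.1 = (uSL t).1 * Q.1 from rfl,
      show (uSL t).1 * Q.1 * g.1 * ((Q⁻¹).1 * (uSL (-t)).1) = (uSL t).1 * g' * (uSL (-t)).1 by
        simp only [hg', Matrix.mul_assoc]]
    rw [coe_uSL, coe_uSL, Matrix.eta_fin_two g', h10, ← ha, h11]
    ext r s
    fin_cases r <;> fin_cases s <;> simp [Matrix.mul_apply, Fin.sum_univ_two, t]
    field_simp
    ring
  refine ⟨P, x, hx, ?_, fun A => ?_⟩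
  · rw [hP, show uSL t * Q * C * (uSL t * Q)⁻¹ = uSL t * (Q * C * Q⁻¹) * (uSL t)⁻¹ by group, hQ,
      Homogeneous.SD.uSL_add, mul_inv_eq_iff_eq_mul, Homogeneous.SD.uSL_add, add_comm]
  · set M : M2 := P.1 * g.1 * (P⁻¹).1 with hM
    have hPP : (P⁻¹).1 * P.1 = 1 := congrArg Subtype.val (inv_mul_cancel P)
    have hPP' : P.1 * (P⁻¹).1 = 1 := congrArg Subtype.val (mul_inv_cancel P)
    have hM2 : M * (P.1 * (g⁻¹).1 * (P⁻¹).1) = 1 := by
      simp only [hM, Matrix.mul_assoc]
      rw [← Matrix.mul_assoc (P⁻¹).1 P.1, hPP, one_mul, ← Matrix.mul_assoc g.1, ← Units.val_mul, mul_inv_cancel,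
        Units.val_one, one_mul, hPP']
    have hM3 : (P * φ (P⁻¹ * A * P) * P⁻¹).1 * M = M * A.1 := by
      show P.1 * (φ (P⁻¹ * A * P)).1 * (P⁻¹).1 * M = M * A.1
      rw [hφ]
      show P.1 * (g.1 * ((P⁻¹).1 * A.1 * P.1) * (g⁻¹).1) * (P⁻¹).1 * M = M * A.1
      simp only [hM, Matrix.mul_assoc]
      rw [← Matrix.mul_assoc (P⁻¹).1 P.1, hPP, one_mul, ← Matrix.mul_assoc (g⁻¹).1, ← Units.val_mul,
        inv_mul_cancel, Units.val_one, one_mul, hPP', mul_one]
    rw [hPg] at hM3
    set X := (P * φ (P⁻¹ * A * P) * P⁻¹).1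
    ext r s
    have e := congrFun (congrFun hM3 r) s
    fin_cases r <;> fin_cases s <;> simp [Matrix.mul_apply, Fin.sum_univ_two] at e ⊢ <;>
      apply mul_right_cancel₀ ha0 <;> first | linear_combination e | linear_combination -e

/-- A subgroup normalised by the monomial matrices containing a unitriangular one. -/
theorem gen_up (h2 : (2 : F) ≠ 0) (K : Subgroup SL) {x : F} (hx : x ≠ 0) (hK : uSL x ∈ K)
    (hT : ∀ a : Fˣ, ∀ A ∈ K, SL2Tori.diagHom a * A * (SL2Tori.diagHom a)⁻¹ ∈ K)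
    {W : SL} (hW : W.1 = !![0, 1; -1, 0]) (hWK : ∀ A ∈ K, W * A * W⁻¹ ∈ K) : K = ⊤ := by
  have hsq : ∀ a : F, uSL (a * a * x) ∈ K := fun a => by
    by_cases ha : a = 0
    · rw [ha, zero_mul, zero_mul, show uSL (0 : F) = 1 from Subtype.ext (by rw [coe_uSL]; exact Matrix.one_fin_two.symm)]
      exact one_mem K
    · have := hT (Units.mk0 a ha) _ hK
      rwa [show SL2Tori.diagHom (Units.mk0 a ha) * uSL x * (SL2Tori.diagHom (Units.mk0 a ha))⁻¹ = uSL (a * a * x)
        from by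
          rw [mul_inv_eq_iff_eq_mul]
          refine Subtype.ext ?_
          show (SL2Tori.diagHom (Units.mk0 a ha)).1 * (uSL x).1 = (uSL (a * a * x)).1 * (SL2Tori.diagHom _).1
          ext r s
          fin_cases r <;> fin_cases s <;>
            simp [SL2Tori.diagHom, coe_uSL, Matrix.mul_apply, Fin.sum_univ_two] <;> field_simp] at this
  have hu : ∀ y : F, uSL y ∈ K := fun y => by
    have h1 := mul_mem (hsq ((y / x + 1) / 2)) (inv_mem (hsq ((y / x - 1) / 2)))
    rwa [show uSL ((y / x + 1) / 2 * ((y / x + 1) / 2) * x) * (uSL ((y / x - 1) / 2 * ((y / x - 1) / 2) * x))⁻¹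
      = uSL y from by
        rw [mul_inv_eq_iff_eq_mul, Homogeneous.SD.uSL_add]
        congr 1
        field_simp
        ring] at h1
  refine Homogeneous.SD.sl_gen K hu fun y => ?_
  have h1 := hWK _ (hu (-y))
  rwa [show W * uSL (-y) * W⁻¹ = vSL y from by
    rw [mul_inv_eq_iff_eq_mul]
    refine Subtype.ext ?_
    show W.1 * (uSL (-y)).1 = (vSL y).1 * W.1
    rw [hW, coe_uSL, coe_vSL]
    ext r s
    fin_cases r <;> fin_cases s <;> simp [Matrix.mul_apply, Fin.sum_univ_two]] at h1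

end CfsgLib.RankTwoModel.SL2
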