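import Cfsg.Agent.Lib.RankTwoModel.Hyp
import Cfsg.Agent.Lib.SL2Orders

/-!
For `q > 3`: the last derived subgroup `D` of the centraliser is perfect, covers `SL₂(q)` and has the involution in
`D O`.

Blueprint: `blueprint/RankTwo.md`.
-/

set_option autoImplicit false
set_option linter.unusedSectionVars false

namespace CfsgLib.RankTwoModel

open Cfsg
open scoped Pointwise

universe u

variable {G : Type u} [Group G] [Finite G]

/-- The last derived subgroup of the centraliser: a chosen perfect term of the derived series, in `G`. -/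
noncomputable def Frame.D (d : Frame G) : Subgroup G :=
  (derivedSeries ↥d.C (CfsgLib.GW.exists_perfect_derived ↥d.C).choose).map d.C.subtype

theorem Frame.D_le (d : Frame G) : d.D ≤ d.C := Subgroup.map_subtype_le _

theorem Frame.O_le (d : Frame G) : d.O ≤ d.C := Subgroup.map_subtype_le _

theorem Frame.D_perfect (d : Frame G) : Group.IsPerfect d.D := by
  haveI := (CfsgLib.GW.exists_perfect_derived ↥d.C).choose_spec
  exact Group.IsPerfect.ofSurjective
    (f := d.C.subtype.subgroupMap (derivedSeries ↥d.C (CfsgLib.GW.exists_perfect_derived ↥d.C).choose))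
    (MonoidHom.subgroupMap_surjective _ _)

theorem Frame.D_conj (d : Frame G) {c x : G} (hc : c ∈ d.C) (hx : x ∈ d.D) : c * x * c⁻¹ ∈ d.D := by
  obtain ⟨y, hy, rfl⟩ := hx
  exact ⟨⟨c, hc⟩ * y * ⟨c, hc⟩⁻¹, (derivedSeries_normal _ _).conj_mem y hy ⟨c, hc⟩, rfl⟩

/-- Perfect subgroups of the centraliser lie in `D`. -/
theorem Frame.le_D (d : Frame G) {P : Subgroup G} (hP : P ≤ d.C) [Group.IsPerfect P] : P ≤ d.D := by
  intro x hx
  haveI : Group.IsPerfect (P.subgroupOf d.C) :=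
    Group.IsPerfect.ofSurjective (f := (Subgroup.subgroupOfEquivOfLe hP).symm.toMonoidHom)
      (Subgroup.subgroupOfEquivOfLe hP).symm.surjective
  exact ⟨⟨x, hP hx⟩, CfsgLib.GW.perfect_le_derived (P.subgroupOf d.C) _ hx, rfl⟩

theorem Frame.Spec.O_conj {d : Frame G} {c x : G} (hc : c ∈ d.C) (hx : x ∈ d.O) : c * x * c⁻¹ ∈ d.O := by
  obtain ⟨y, hy, rfl⟩ := hx
  exact ⟨⟨c, hc⟩ * y * ⟨c, hc⟩⁻¹, (inferInstance : (oddCore ↥(Subgroup.centralizer ({d.z} : Set G))).Normal).conj_mem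
    y hy ⟨c, hc⟩, rfl⟩

theorem Frame.O_odd (d : Frame G) : Odd (Nat.card d.O) := by
  rw [Frame.O, CfsgLib.GW.coreC, Subgroup.card_map_of_injective (Subgroup.subtype_injective _)]
  exact CfsgLib.odd_card_oddCore

variable {d : Frame G}

theorem Frame.Spec.q_ne_zero (hd : d.Spec) : 3 ≤ d.q := by
  have h2 := hd.prime.two_le
  have h3 : 3 ≤ d.p := by have := hd.podd; omega
  exact h3.trans (Nat.le_self_pow (by have := hd.npos; omega) _)

/-- The centraliser modulo its core has `D` above its derived group. -/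
theorem Frame.Spec.D_cover (hd : d.Spec) (hq : 3 < d.q) :
    (derivedSeries ↥d.C (CfsgLib.GW.exists_perfect_derived ↥d.C).choose).map (QuotientGroup.mk' (oddCore ↥d.C)) =
      commutator (↥d.C ⧸ oddCore ↥d.C) := by
  set k := (CfsgLib.GW.exists_perfect_derived ↥d.C).choose with hk
  set L := commutator (↥d.C ⧸ oddCore ↥d.C)
  haveI hLp : Group.IsPerfect L := by
    obtain ⟨e⟩ := hd.sl
    haveI : Group.IsPerfect (Matrix.SpecialLinearGroup (Fin 2) d.F) :=
      ⟨CfsgLib.StSL.perfect_SL2 (by rw [hd.card]; show 3 < d.q; exact hq)⟩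
    exact Group.IsPerfect.ofSurjective (f := e.symm.toMonoidHom) e.symm.surjective
  rw [map_derivedSeries_eq (QuotientGroup.mk'_surjective _)]
  refine le_antisymm ?_ (CfsgLib.GW.perfect_le_derived L k)
  rcases Nat.eq_zero_or_pos k with hk0 | hk0
  · intro x _
    have hp := (CfsgLib.GW.exists_perfect_derived ↥d.C).choose_spec
    rw [← hk, hk0, derivedSeries_zero] at hp
    haveI := hp
    haveI : Group.IsPerfect ↥d.C :=
      Group.IsPerfect.ofSurjective (f := (Subgroup.topEquiv : (⊤ : Subgroup ↥d.C) ≃* ↥d.C).toMonoidHom)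
        Subgroup.topEquiv.surjective
    haveI : Group.IsPerfect (↥d.C ⧸ oddCore ↥d.C) :=
      Group.IsPerfect.ofSurjective (f := QuotientGroup.mk' (oddCore ↥d.C)) (QuotientGroup.mk'_surjective _)
    show x ∈ commutator (↥d.C ⧸ oddCore ↥d.C)
    rw [Group.IsPerfect.commutator_eq_top]
    exact Subgroup.mem_top x
  · exact (derivedSeries_antitone _ hk0).trans (le_of_eq (derivedSeries_one _))

theorem Frame.Spec.z_mem_C : d.z ∈ d.C := Subgroup.mem_centralizer_singleton_iff.mpr rfl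

theorem Frame.Spec.z_central {c : G} (hc : c ∈ d.C) : c * d.z = d.z * c :=
  Subgroup.mem_centralizer_singleton_iff.mp hc

/-- The only involution of `Z(S)`. -/
theorem Frame.Spec.center_invol (hd : d.Spec) {s : G} (hs : s ∈ (d.S : Subgroup G)) (hs2 : orderOf s = 2)
    (hc : ∀ r ∈ (d.S : Subgroup G), r * s = s * r) : s = d.z :=
  congrArg Subtype.val ((CfsgLib.QDWNoTwo.center_facts hd.qw).1 ⟨s, hs⟩
    (Subgroup.mem_center_iff.mpr fun r => Subtype.ext (hc r r.2)) ⟨d.z, hd.zS⟩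
    (Subgroup.mem_center_iff.mpr fun r => Subtype.ext (hd.zc r r.2))
    ((Subgroup.orderOf_mk s hs).trans hs2) ((Subgroup.orderOf_mk d.z hd.zS).trans hd.zord))

/-- The image of the involution is the involution of `SL₂(q)`. -/
theorem Frame.Spec.z_mem_commutator (hd : d.Spec) :
    QuotientGroup.mk' (oddCore ↥d.C) ⟨d.z, Frame.Spec.z_mem_C⟩ ∈ commutator (↥d.C ⧸ oddCore ↥d.C) := by
  haveI : Fact (Nat.Prime 2) := ⟨Nat.prime_two⟩
  set f := QuotientGroup.mk' (oddCore ↥d.C) with hf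
  set L := commutator (↥d.C ⧸ oddCore ↥d.C)
  obtain ⟨e⟩ : Nonempty (↥L ≃* Matrix.SpecialLinearGroup (Fin 2) d.F) := hd.sl
  have h2 : (2 : d.F) ≠ 0 := SL2Orders.two_ne_zero_of_odd (by
    rw [hd.card]; exact (hd.prime.odd_of_ne_two hd.podd).pow)
  let m : Matrix.SpecialLinearGroup (Fin 2) d.F := -1
  have hmm : m * m = 1 := by simp [m]
  have hm1 : m ≠ 1 := fun he => h2 (by
    have := congrFun (congrFun (congrArg Subtype.val he) 0) 0
    simp [m] at this
    linear_combination -this)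
  set y : L := e.symm m with hy
  have hy1 : y ≠ 1 := fun he => hm1 (e.symm.injective (by rw [← hy, he, map_one]))
  have hy2 : y * y = 1 := by rw [hy, ← map_mul, hmm, map_one]
  have huniq : ∀ w : L, w * w = 1 → w ≠ 1 → w = y := fun w hw hw1 => by
    rcases SL2Orders.eq_one_or_neg_one_of_sq h2 (e w) (by rw [← map_mul, hw, map_one]) with h | h
    · exact absurd (e.injective (h.trans (map_one e).symm)) hw1
    · refine e.injective ?_
      rw [h, hy, e.apply_symm_apply]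
  have hcen : ∀ g : ↥d.C ⧸ oddCore ↥d.C, g * y * g⁻¹ = y := fun g => by
    have hm : g * (y : ↥d.C ⧸ oddCore ↥d.C) * g⁻¹ ∈ L := (inferInstance : L.Normal).conj_mem _ y.2 g
    exact congrArg Subtype.val (huniq ⟨_, hm⟩ (Subtype.ext (by
      show g * (y : ↥d.C ⧸ oddCore ↥d.C) * g⁻¹ * (g * y * g⁻¹) = 1
      rw [show g * (y : ↥d.C ⧸ oddCore ↥d.C) * g⁻¹ * (g * y * g⁻¹) = g * ((y : ↥d.C ⧸ oddCore ↥d.C) * y) * g⁻¹ by
        group, show ((y : ↥d.C ⧸ oddCore ↥d.C)) * y = 1 from congrArg Subtype.val hy2, mul_one, mul_inv_cancel]))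
      fun e1 => hy1 (Subtype.ext (conj_eq_one_iff.mp (congrArg Subtype.val e1 :))))
  have hSC : (d.S : Subgroup G) ≤ d.C := fun s hs => Subgroup.mem_centralizer_singleton_iff.mpr (hd.zc s hs)
  set R : Sylow 2 ↥d.C := d.S.subtype hSC
  -- it lies in the image of every Sylow subgroup
  have hyP : IsPGroup 2 (Subgroup.zpowers (y : ↥d.C ⧸ oddCore ↥d.C)) := by
    refine IsPGroup.of_card (n := 1) ?_
    rw [Nat.card_zpowers, pow_one]
    exact orderOf_eq_prime (by rw [sq]; exact congrArg Subtype.val hy2) fun e1 => hy1 (Subtype.ext e1)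
  obtain ⟨T, hT⟩ := hyP.exists_le_sylow
  obtain ⟨g, hg⟩ := MulAction.exists_smul_eq (↥d.C ⧸ oddCore ↥d.C) T (R.mapSurjective (QuotientGroup.mk'_surjective _))
  have hyR : (y : ↥d.C ⧸ oddCore ↥d.C) ∈ (R : Subgroup ↥d.C).map f := by
    rw [← Sylow.coe_mapSurjective (QuotientGroup.mk'_surjective _) R, ← hg, ← hcen g]
    exact Subgroup.smul_mem_pointwise_smul _ (MulAut.conj g) _ (hT (Subgroup.mem_zpowers _))
  obtain ⟨s, hs, hsy⟩ := hyR
  have hsO : ∀ r : ↥d.C, r ∈ (R : Subgroup ↥d.C) → f r = 1 → r = 1 := fun r hr h1 => by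
    have hrO : r ∈ oddCore ↥d.C := (QuotientGroup.eq_one_iff r).mp h1
    obtain ⟨k, hk⟩ := R.2.exists_card_eq
    have hcop : (Nat.card (R : Subgroup ↥d.C)).Coprime (Nat.card (oddCore ↥d.C)) := by
      rw [hk]; exact Nat.Coprime.pow_left k (Nat.coprime_two_left.mpr CfsgLib.odd_card_oddCore)
    exact Subgroup.mem_bot.mp ((Subgroup.inf_eq_bot_of_coprime hcop) ▸ ⟨hr, hrO⟩)
  have hs2 : s * s = 1 := hsO _ (mul_mem hs hs) (by rw [map_mul, hsy]; exact congrArg Subtype.val hy2)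
  have hs1 : s ≠ 1 := fun e1 => hy1 (Subtype.ext (by rw [← hsy, e1, map_one]; rfl))
  have hsz : (s : G) = d.z := by
    refine hd.center_invol hs (orderOf_eq_prime (by rw [sq]; exact congrArg Subtype.val hs2)
      fun e1 => hs1 (Subtype.ext e1)) fun r hr => ?_
    have h3 := hsO (⟨r, hSC hr⟩ * s * ⟨r, hSC hr⟩⁻¹ * s⁻¹)
      (mul_mem (mul_mem (mul_mem (show (⟨r, hSC hr⟩ : ↥d.C) ∈ (R : Subgroup ↥d.C) from hr) hs)
        (inv_mem (show (⟨r, hSC hr⟩ : ↥d.C) ∈ (R : Subgroup ↥d.C) from hr))) (inv_mem hs))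
      (by rw [map_mul, map_mul, map_mul, map_inv, map_inv, hsy, hcen, mul_inv_cancel])
    exact mul_inv_eq_iff_eq_mul.mp (congrArg Subtype.val (mul_inv_eq_one.mp h3))
  rw [show (⟨d.z, Frame.Spec.z_mem_C⟩ : ↥d.C) = s from Subtype.ext hsz.symm, hsy]
  exact y.2

/-- **The involution lies in `D O`.** -/
theorem Frame.Spec.z_mem_DO (hd : d.Spec) (hq : 3 < d.q) : ∃ x ∈ d.D, ∃ o ∈ d.O, d.z = x * o := by
  have h1 := hd.z_mem_commutator
  rw [← hd.D_cover hq] at h1
  obtain ⟨x, hx, hxz⟩ := h1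
  have hw : x⁻¹ * ⟨d.z, Frame.Spec.z_mem_C⟩ ∈ oddCore ↥d.C := (QuotientGroup.eq_one_iff _).mp (by
    show QuotientGroup.mk' (oddCore ↥d.C) (x⁻¹ * ⟨d.z, Frame.Spec.z_mem_C⟩) = 1
    rw [map_mul, map_inv, hxz, inv_mul_cancel])
  refine ⟨x, ⟨x, hx, rfl⟩, ((x⁻¹ * ⟨d.z, Frame.Spec.z_mem_C⟩ : ↥d.C) : G),
    by exact Subgroup.mem_map_of_mem d.C.subtype hw, ?_⟩
  rw [Subgroup.coe_mul, Subgroup.coe_inv, mul_inv_cancel_left]

/-- The second involution of the four group. -/
theorem Frame.Spec.exists_u (hd : d.Spec) :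
    ∃ u ∈ d.U, orderOf u = 2 ∧ u ≠ d.z ∧ u * d.z = d.z * u ∧
      ∀ x ∈ d.U, x = 1 ∨ x = d.z ∨ x = u ∨ x = u * d.z := by
  haveI := hd.klein
  haveI : Fintype d.U := Fintype.ofFinite _
  obtain ⟨u, hu, hu1, huz⟩ : ∃ u ∈ d.U, u ≠ 1 ∧ u ≠ d.z := by
    by_contra hc
    push Not at hc
    have hle : Nat.card (d.U : Set G) ≤ Nat.card ({1, d.z} : Set G) := Nat.card_mono (Set.toFinite _) fun x hx => by
      by_cases h1 : x = 1
      · exact Or.inl h1
      · exact Or.inr (hc x hx h1)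
    rw [show Nat.card (d.U : Set G) = Nat.card d.U from rfl, hd.klein.card_four, Nat.card_coe_set_eq] at hle
    have := (Set.ncard_insert_le (1 : G) {d.z}).trans (by simp : ({d.z} : Set G).ncard + 1 ≤ 2)
    omega
  have ho : orderOf u = 2 := orderOf_eq_prime (by
    rw [sq]; exact congrArg Subtype.val (IsKleinFour.mul_self (⟨u, hu⟩ : d.U))) hu1
  haveI := IsKleinFour.isMulCommutative (G := d.U)
  have hcu : u * d.z = d.z * u := setLike_mul_comm hu hd.zU
  refine ⟨u, hu, ho, huz, hcu, fun x hx => ?_⟩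
  by_contra hne
  push Not at hne
  obtain ⟨hx1, hxz, hxu, hxuz⟩ := hne
  have hz1 : d.z ≠ 1 := fun e1 => by have := hd.zord; rw [e1, orderOf_one] at this; omega
  exact hxuz (congrArg Subtype.val (IsKleinFour.eq_mul_of_ne_all (x := (⟨u, hu⟩ : d.U)) (y := ⟨d.z, hd.zU⟩)
    (z := ⟨x, hx⟩) (fun e1 => hu1 (congrArg Subtype.val e1)) (fun e1 => hz1 (congrArg Subtype.val e1))
    (fun e1 => huz (congrArg Subtype.val e1)) (fun e1 => hx1 (congrArg Subtype.val e1))
    (fun e1 => hxu (congrArg Subtype.val e1)) (fun e1 => hxz (congrArg Subtype.val e1))))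

end CfsgLib.RankTwoModel
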