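import Mathlib

/-!
A group normalised by an involution `v`, generated by its commutators with `v` and centralising the fixed points
of `v` on an odd `p`-group centralises that group if it is perfect or of order prime to `p`.

Blueprint: `blueprint/RankTwo_P3.md`, section 4.
-/

set_option autoImplicit false
set_option linter.unusedSectionVars false

namespace CfsgLib.RankTwoModel

open Subgroup
open scoped commutatorElement

variable {G : Type*} [Group G] [Finite G]

/-- An element of an odd group inverted modulo the fixed points: `w = c r`. -/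
theorem exists_fixed_mul_inverted {W : Subgroup G} (hodd : Odd (Nat.card W)) {v : G}
    (hv : v ∈ normalizer (W : Set G)) (hvv : v * v = 1) {w : G} (hw : w ∈ W) :
    ∃ c ∈ W, ∃ r ∈ W, v * c * v⁻¹ = c ∧ v * r * v⁻¹ = r⁻¹ ∧ w = c * r := by
  set d := w⁻¹ * (v * w * v⁻¹) with hd
  have hdW : d ∈ W := mul_mem (inv_mem hw) ((mem_normalizer_iff.1 hv w).1 hw)
  have hinv : v * d * v⁻¹ = d⁻¹ := by
    rw [hd, show v * (w⁻¹ * (v * w * v⁻¹)) * v⁻¹ = (v * w * v⁻¹)⁻¹ * ((v * v) * w * (v * v)⁻¹) by group, hvv]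
    group
  obtain ⟨j, hj⟩ := hodd.of_dvd_nat (Subgroup.orderOf_dvd_natCard W hdW)
  set t := d ^ (j + 1) with ht
  have htt : t * t = d := by
    rw [ht, ← pow_add, show j + 1 + (j + 1) = orderOf d + 1 by omega, pow_succ, pow_orderOf_eq_one, one_mul]
  have htv : v * t * v⁻¹ = t⁻¹ := by rw [ht, ← conj_pow, hinv, inv_pow]
  refine ⟨w * t, mul_mem hw (pow_mem hdW _), t⁻¹, inv_mem (pow_mem hdW _), ?_, ?_, by group⟩
  · calc v * (w * t) * v⁻¹ = w * d * (v * t * v⁻¹) := by rw [hd]; group
      _ = w * t := by rw [htv, ← htt]; group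
  · rw [show v * t⁻¹ * v⁻¹ = (v * t * v⁻¹)⁻¹ by group, htv]

variable {p : ℕ} [Fact p.Prime]

/-- **The action is trivial.** -/
theorem fixed_action {W : Subgroup G} (hW : IsPGroup p W) (hp : p ≠ 2) {Y : Subgroup G} {v : G}
    (hvv : v * v = 1) (hvW : v ∈ normalizer (W : Set G)) (hvY : v ∈ normalizer (Y : Set G))
    (hYW : Y ≤ normalizer (W : Set G)) (hgen : Y ≤ closure {x | ∃ y ∈ Y, x = (v * y * v⁻¹)⁻¹ * y})
    (hfix : ∀ y ∈ Y, ∀ w ∈ W, v * w = w * v → y * w = w * y)
    (hY : Group.IsPerfect Y ∨ (Nat.card Y).Coprime p) : ∀ y ∈ Y, ∀ w ∈ W, y * w = w * y := by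
  induction hn : Nat.card W using Nat.strong_induction_on generalizing W with
  | _ n ih =>
    by_cases hbot : W = ⊥
    · intro y _ w hw; rw [hbot, mem_bot] at hw; simp [hw]
    have hp' : Fact p.Prime := inferInstance
    haveI : Group.IsNilpotent ↥W := hW.isNilpotent
    set D := ⁅W, W⁆ with hD
    have hDW : D ≤ W := commutator_le.2 fun a ha b hb => by
      rw [commutatorElement_def]; exact mul_mem (mul_mem (mul_mem ha hb) (inv_mem ha)) (inv_mem hb)
    have hDlt : D < W := by
      refine lt_of_le_of_ne hDW fun e => hbot ?_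
      obtain ⟨m, hm⟩ := (Subgroup.isNilpotent_iff_lowerCentralSeries (S := W)).1 inferInstance
      have : ∀ i, W ≤ W.lowerCentralSeries i := by
        intro i
        induction i with
        | zero => simp
        | succ i ih' =>
          rw [Subgroup.lowerCentralSeries_succ]
          calc W = ⁅W, W⁆ := e.symm
            _ ≤ _ := Subgroup.commutator_mono ih' le_rfl
      exact le_bot_iff.1 (hm ▸ this m)
    have hnD : normalizer (W : Set G) ≤ normalizer (D : Set G) := by
      intro g hg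
      haveI : Finite (D : Set G) := Finite.of_injective (fun x : (D : Set G) => (x : G)) Subtype.val_injective
      refine mem_normalizer_fintype fun x hx => ?_
      have hle : D.map (MulAut.conj g).toMonoidHom ≤ D := by
        rw [hD, Subgroup.map_commutator]
        refine Subgroup.commutator_mono ?_ ?_ <;> rintro _ ⟨y, hy, rfl⟩ <;>
          exact (mem_normalizer_iff.1 hg y).1 hy
      exact hle ⟨x, hx, rfl⟩
    have hcard : Nat.card D < n := hn ▸ (card_le_of_le hDW).lt_of_ne fun h =>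
      hDlt.ne (eq_of_le_of_card_ge hDW h.ge)
    have hD0 := ih _ hcard (hW.to_le hDW) (hnD hvW) (hYW.trans hnD) (fun y hy w hw => hfix y hy w (hDW hw)) rfl
    -- the subgroup `B = C_W(v) W'`
    set B := closure ({c | c ∈ W ∧ v * c = c * v} ∪ (D : Set G)) with hB
    have hBW : B ≤ W := (closure_le _).2 (Set.union_subset (fun c hc => hc.1) hDW)
    have hBfix : ∀ y ∈ Y, ∀ b ∈ B, y * b = b * y := fun y hy b hb => by
      refine ((closure_le (K := centralizer ({y} : Set G))).2 ?_ hb) y rfl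
      rintro c (hc | hc) x rfl
      exacts [hfix x hy c hc.1 hc.2, hD0 x hy c hc]
    have hBn : ∀ w ∈ W, ∀ b ∈ B, w * b * w⁻¹ ∈ B := fun w hw b hb => by
      have h : w * b * w⁻¹ * b⁻¹ ∈ D := commutator_mem_commutator hw (hBW hb)
      have := mul_mem (show w * b * w⁻¹ * b⁻¹ ∈ B from subset_closure (Or.inr h)) hb
      rwa [inv_mul_cancel_right] at this
    have hodd : Odd (Nat.card W) := by
      obtain ⟨k, hk⟩ := IsPGroup.iff_card.1 hW
      rw [hk]; exact ((Fact.out : p.Prime).odd_of_ne_two hp).pow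
    -- the generators move `W` inside `B`
    have hgenW : ∀ y ∈ Y, ∀ w ∈ W, y * w * y⁻¹ * w⁻¹ ∈ B := by
      intro y hy
      refine closure_induction (p := fun y _ => ∀ w ∈ W, y * w * y⁻¹ * w⁻¹ ∈ B) ?_ ?_ ?_ ?_ (hgen hy)
      · rintro _ ⟨y, hy, rfl⟩ w hw
        set y' := v * y * v⁻¹ with hy'
        have hy'Y : y' ∈ Y := (mem_normalizer_iff.1 hvY y).1 hy
        obtain ⟨c0, hc0, r, hr, hvc0, hvr, rfl⟩ := exists_fixed_mul_inverted hodd hvW hvv hw
        obtain ⟨c, hc, r', hr', hvc, hvr', he⟩ :=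
          exists_fixed_mul_inverted hodd hvW hvv ((mem_normalizer_iff.1 (hYW hy) r).1 hr)
        have hcB : ∀ {c : G}, c ∈ W → v * c * v⁻¹ = c → c ∈ B := fun hc h =>
          subset_closure (Or.inl ⟨hc, mul_inv_eq_iff_eq_mul.1 h⟩)
        have h1 : y' * r * y'⁻¹ = r' * c⁻¹ := by
          have hvi : v⁻¹ * r * v = r⁻¹ := by
            rw [show v⁻¹ = v from inv_eq_of_mul_eq_one_left hvv]
            conv_lhs => arg 2; rw [← inv_eq_of_mul_eq_one_left hvv]
            exact hvr
          calc y' * r * y'⁻¹ = v * (y * (v⁻¹ * r * v) * y⁻¹) * v⁻¹ := by rw [hy']; group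
            _ = (v * (c * r') * v⁻¹)⁻¹ := by rw [hvi, ← he]; group
            _ = r' * c⁻¹ := by
              rw [show v * (c * r') * v⁻¹ = (v * c * v⁻¹) * (v * r' * v⁻¹) by group, hvc, hvr']; group
        have h2 : y'⁻¹ * r' * y' = r * c := by
          have hc' : c * y' = y' * c := (hBfix y' hy'Y c (hcB hc hvc)).symm
          calc y'⁻¹ * r' * y' = y'⁻¹ * (y' * r * y'⁻¹ * c) * y' := by rw [h1]; group
            _ = r * y'⁻¹ * (c * y') := by group
            _ = r * c := by rw [hc']; group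
        have h3 : y'⁻¹ * y * r * (y'⁻¹ * y)⁻¹ = c * (r * c) := by
          have hc' : y'⁻¹ * c = c * y'⁻¹ := hBfix _ (inv_mem hy'Y) c (hcB hc hvc)
          calc y'⁻¹ * y * r * (y'⁻¹ * y)⁻¹ = y'⁻¹ * (y * r * y⁻¹) * y' := by group
            _ = (y'⁻¹ * c) * r' * y' := by rw [he]; group
            _ = c * (y'⁻¹ * r' * y') := by rw [hc']; group
            _ = _ := by rw [h2]
        set k := y'⁻¹ * y with hk
        have hkc : k * c0 = c0 * k := hBfix k (mul_mem (inv_mem hy'Y) hy) c0 (hcB hc0 hvc0)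
        have e : k * (c0 * r) * k⁻¹ * (c0 * r)⁻¹ = c0 * (c * (r * c * r⁻¹)) * c0⁻¹ := by
          calc k * (c0 * r) * k⁻¹ * (c0 * r)⁻¹ = (k * c0) * r * k⁻¹ * r⁻¹ * c0⁻¹ := by group
            _ = c0 * (k * r * k⁻¹) * r⁻¹ * c0⁻¹ := by rw [hkc]; group
            _ = _ := by rw [h3]; group
        rw [e]
        exact hBn c0 hc0 _ (mul_mem (hcB hc hvc) (hBn r hr c (hcB hc hvc)))
      · intro w _; simp
      · intro a b ha hb iha ihb w hw
        have hbY : ∀ g ∈ closure {x | ∃ y ∈ Y, x = (v * y * v⁻¹)⁻¹ * y}, g ∈ Y := fun g hg => by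
          refine (closure_le (K := Y)).2 ?_ hg
          rintro _ ⟨y, hy, rfl⟩
          exact mul_mem (inv_mem ((mem_normalizer_iff.1 hvY y).1 hy)) hy
        have h2 := ihb w hw
        have hfix2 := hBfix a (hbY a ha) _ h2
        rw [show a * b * w * (a * b)⁻¹ * w⁻¹ = a * (b * w * b⁻¹ * w⁻¹) * (w * a⁻¹ * w⁻¹) by group, hfix2,
          show b * w * b⁻¹ * w⁻¹ * a * (w * a⁻¹ * w⁻¹) = b * w * b⁻¹ * w⁻¹ * (a * w * a⁻¹ * w⁻¹) by group]
        exact mul_mem h2 (iha w hw)
      · intro a ha iha w hw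
        have haY : a ∈ Y := (closure_le (K := Y)).2 (by
          rintro _ ⟨y, hy, rfl⟩
          exact mul_mem (inv_mem ((mem_normalizer_iff.1 hvY y).1 hy)) hy) ha
        have hw' : a⁻¹ * w * a ∈ W := by
          have := (mem_normalizer_iff.1 (hYW (inv_mem haY)) w).1 hw; rwa [inv_inv] at this
        have h := inv_mem (iha _ hw')
        convert h using 1
        group
    -- the displacement is central in `B`
    have hcenB : ∀ y ∈ Y, ∀ w ∈ W, ∀ b ∈ B, (y * w * y⁻¹ * w⁻¹) * b = b * (y * w * y⁻¹ * w⁻¹) := by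
      intro y hy w hw b hb
      have hb' : w⁻¹ * b * w ∈ B := by
        have := hBn w⁻¹ (inv_mem hw) b hb; rwa [inv_inv] at this
      have h1 := hBfix y hy _ hb'
      have h2 := hBfix y hy b hb
      calc y * w * y⁻¹ * w⁻¹ * b = y * w * y⁻¹ * (w⁻¹ * b * w) * w⁻¹ := by group
        _ = y * w * y⁻¹ * (y * (w⁻¹ * b * w) * y⁻¹) * w⁻¹ := by rw [h1, mul_inv_cancel_right]
        _ = y * b * w * y⁻¹ * w⁻¹ := by group
        _ = b * (y * w * y⁻¹ * w⁻¹) := by rw [h2]; group
    rcases hY with hperf | hcop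
    · intro y hy w hw
      haveI := hperf
      have hmem : (⟨y, hy⟩ : ↥Y) ∈ (centralizer ({w} : Set G)).subgroupOf Y := by
        have htop : (⊤ : Subgroup ↥Y) ≤ (centralizer ({w} : Set G)).subgroupOf Y := by
          rw [← Group.IsPerfect.commutator_eq_top (G := ↥Y), _root_.commutator_def, commutator_le]
          rintro ⟨a, ha⟩ - ⟨b, hb⟩ -
          rw [mem_subgroupOf, mem_centralizer_singleton_iff]
          show a * b * a⁻¹ * b⁻¹ * w = w * (a * b * a⁻¹ * b⁻¹)
          have key : ∀ a b, a ∈ Y → b ∈ Y → ∀ w ∈ W,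
              a * b * w * (a * b)⁻¹ = (b * w * b⁻¹ * w⁻¹) * (a * w * a⁻¹ * w⁻¹) * w := fun a b ha hb w hw => by
            have h := hBfix a ha _ (hgenW b hb w hw)
            calc a * b * w * (a * b)⁻¹ = a * (b * w * b⁻¹ * w⁻¹) * (w * a⁻¹) := by group
              _ = _ := by rw [h]; group
          have hwb : ∀ {w}, w ∈ W → a * b * w * (a * b)⁻¹ = b * a * w * (b * a)⁻¹ := fun {w} hw => by
            rw [key a b ha hb w hw, key b a hb ha w hw, hcenB b hb w hw _ (hgenW a ha w hw)]
          have hw' : (b * a)⁻¹ * w * (b * a) ∈ W := by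
            have := (mem_normalizer_iff.1 (hYW (inv_mem (mul_mem hb ha))) w).1 hw
            rwa [inv_inv] at this
          have h := hwb hw'
          rw [show b * a * ((b * a)⁻¹ * w * (b * a)) * (b * a)⁻¹ = w by group] at h
          calc a * b * a⁻¹ * b⁻¹ * w
              = a * b * ((b * a)⁻¹ * w * (b * a)) * (a * b)⁻¹ * (a * b * a⁻¹ * b⁻¹) := by group
            _ = w * (a * b * a⁻¹ * b⁻¹) := by rw [h]
        exact htop trivial
      exact mem_centralizer_singleton_iff.1 hmem
    · intro y hy w hw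
      set f := y * w * y⁻¹ * w⁻¹ with hf
      have hfB := hgenW y hy w hw
      have hpow : ∀ m : ℕ, y ^ m * w * (y ^ m)⁻¹ = f ^ m * w := by
        intro m
        induction m with
        | zero => simp
        | succ m ihm =>
          have h := hBfix y hy _ (pow_mem hfB m)
          calc y ^ (m + 1) * w * (y ^ (m + 1))⁻¹ = y * (y ^ m * w * (y ^ m)⁻¹) * y⁻¹ := by rw [pow_succ']; group
            _ = y * f ^ m * (w * y⁻¹) := by rw [ihm]; group
            _ = f ^ m * (y * w * y⁻¹) := by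
              rw [show y * f ^ m = f ^ m * y from h]; group
            _ = f ^ (m + 1) * w := by rw [pow_succ, hf]; group
      have h1 : f ^ orderOf y = 1 := by
        have := hpow (orderOf y)
        rw [pow_orderOf_eq_one, one_mul, inv_one, mul_one] at this
        exact right_eq_mul.1 this
      obtain ⟨k, hk⟩ := IsPGroup.iff_card.1 (hW.to_le hBW)
      have hcop2 : (orderOf y).Coprime (p ^ k) :=
        (Nat.Coprime.coprime_dvd_left (Subgroup.orderOf_dvd_natCard Y hy) hcop).pow_right k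
      have hf1 : orderOf f = 1 := Nat.eq_one_of_dvd_coprimes hcop2 (orderOf_dvd_of_pow_eq_one h1)
        (hk ▸ Subgroup.orderOf_dvd_natCard B hfB)
      rw [orderOf_eq_one_iff, hf] at hf1
      exact mul_inv_eq_iff_eq_mul.1 (mul_inv_eq_one.1 hf1)

end CfsgLib.RankTwoModel
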