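import Cfsg.Agent.Lib.RankTwoModel.Rep

/-!
An involution of the centraliser other than the central one acts as a trace zero matrix.

Blueprint: `blueprint/RankTwo_P3.md`.
-/

set_option autoImplicit false
set_option linter.unusedSectionVars false
set_option linter.style.haveILetI false

namespace CfsgLib.RankTwoModel

open Cfsg CfsgLib.GW
open scoped MatrixGroups

universe u

variable {G : Type u} [Group G] [Finite G]

/-- A 2-subgroup centralising two commuting involutions is abelian. -/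
theorem Hyp.comm_two (h : Hyp G) {t v : G} (ht : orderOf t = 2) (hv : orderOf v = 2) (hc : t * v = v * t)
    (hne : v ≠ t) {P : Subgroup G} (hP : IsPGroup 2 P) (hPt : ∀ x ∈ P, x * t = t * x)
    (hPv : ∀ x ∈ P, x * v = v * x) : ∀ x ∈ P, ∀ y ∈ P, x * y = y * x := by
  haveI : Fact (Nat.Prime 2) := ⟨Nat.prime_two⟩
  set V := Subgroup.zpowers v
  have hV : IsPGroup 2 V := IsPGroup.of_card (n := 1) (by rw [Nat.card_zpowers, hv, pow_one])
  have hnorm : P ≤ Subgroup.normalizer (V : Set G) := fun x hx => Subgroup.mem_normalizer_fintype fun y hy => by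
    obtain ⟨k, rfl⟩ := Subgroup.mem_zpowers_iff.mp hy
    rw [((show Commute x v from hPv x hx).zpow_right k).eq, mul_inv_cancel_right]
    exact Subgroup.zpow_mem_zpowers v k
  have hPV : IsPGroup 2 (P ⊔ V : Subgroup G) := hP.to_sup_of_normal_right' hV hnorm
  obtain ⟨S, c, -, htS, hSc, hS, hcP, hvS, hvn⟩ := h.exists_sylow_pair ht hv hc hne hPV
    (fun x hx => by
      have hle : P ⊔ V ≤ Subgroup.centralizer ({t} : Set G) := sup_le
        (fun y hy => Subgroup.mem_centralizer_singleton_iff.mpr (hPt y hy))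
        (Subgroup.zpowers_le.mpr (Subgroup.mem_centralizer_singleton_iff.mpr hc.symm))
      exact Subgroup.mem_centralizer_singleton_iff.mp (hle hx))
    (Subgroup.mem_sup_right (Subgroup.mem_zpowers v))
  intro x hx y hy
  have hb : orderOf (⟨c * v * c⁻¹, hvS⟩ : (S : Subgroup G)) = 2 := by
    rw [← Subgroup.orderOf_coe]; exact (orderOf_cj c v).trans hv
  have key := cent_comm hS hb hvn
    (a := ⟨c * x * c⁻¹, hcP x (Subgroup.mem_sup_left hx)⟩) (c := ⟨c * y * c⁻¹, hcP y (Subgroup.mem_sup_left hy)⟩)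
    (Subtype.ext ((Commute.conj_iff c).2 (hPv x hx)).eq) (Subtype.ext ((Commute.conj_iff c).2 (hPv y hy)).eq)
  exact ((Commute.conj_iff c).1 (congrArg Subtype.val key.eq :)).eq

variable {d : Frame G} (R : Rep d) (hd : d.Spec) (hq : 3 < d.q)

include hd hq in
theorem Rep.sigma_ne_one (h : Hyp G) {i : G} (hiC : i ∈ d.C) (hi : orderOf i = 2) (hiz : i ≠ d.z) :
    R.σ ⟨i, hiC⟩ ≠ 1 := by
  intro h1
  have hcen := R.central_of_sigma hd hq h hiC h1
  haveI : Fact (Nat.Prime 2) := ⟨Nat.prime_two⟩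
  have hSC : (d.S : Subgroup G) ≤ d.C := fun s hs => Subgroup.mem_centralizer_singleton_iff.mpr (hd.zc s hs)
  have hp : IsPGroup 2 (Subgroup.zpowers (⟨i, hiC⟩ : ↥d.C)) :=
    IsPGroup.of_card (n := 1) (by rw [Nat.card_zpowers, Subgroup.orderOf_mk, hi, pow_one])
  obtain ⟨c, hc⟩ := CfsgLib.DihedralFusion.exists_conj_le (S := d.S.subtype hSC) hp
  have hjS : (c : G) * i * (c : G)⁻¹ ∈ (d.S : Subgroup G) :=
    Subgroup.mem_subgroupOf.mp (hc ⟨_, Subgroup.mem_zpowers _, rfl⟩)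
  have hjz : (c : G) * i * (c : G)⁻¹ = d.z := by
    refine hd.center_invol hjS ((orderOf_cj _ _).trans hi) fun r hr => ?_
    set j : ↥d.C := c * ⟨i, hiC⟩ * c⁻¹
    have hj : QuotientGroup.mk' (oddCore ↥d.C) j ∈ Subgroup.center (↥d.C ⧸ oddCore ↥d.C) := by
      rw [map_mul, map_mul, map_inv, Subgroup.mem_center_iff.mp hcen, mul_inv_cancel_right]
      exact hcen
    set w : ↥d.C := ⟨r, hSC hr⟩ * j * ⟨r, hSC hr⟩⁻¹ * j⁻¹
    have hw : w ∈ oddCore ↥d.C := (QuotientGroup.eq_one_iff w).mp (by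
      show QuotientGroup.mk' (oddCore ↥d.C) w = 1
      rw [map_mul, map_mul, map_mul, map_inv, map_inv, Subgroup.mem_center_iff.mp hj, mul_inv_cancel_right,
        mul_inv_cancel])
    have hwS : w ∈ (d.S.subtype hSC : Subgroup ↥d.C) :=
      Subgroup.mem_subgroupOf.mpr (mul_mem (mul_mem (mul_mem hr hjS) (inv_mem hr)) (inv_mem hjS))
    have hcop : (Nat.card (d.S.subtype hSC : Subgroup ↥d.C)).Coprime (Nat.card (oddCore ↥d.C)) := by
      obtain ⟨k, hk⟩ := (d.S.subtype hSC).2.exists_card_eq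
      rw [hk]
      exact Nat.Coprime.pow_left k (Nat.coprime_two_left.mpr CfsgLib.odd_card_oddCore)
    have h2 : w = 1 := Subgroup.mem_bot.mp ((Subgroup.inf_eq_bot_of_coprime hcop) ▸ ⟨hwS, hw⟩)
    exact mul_inv_eq_iff_eq_mul.mp (mul_inv_eq_one.mp (congrArg Subtype.val h2))
  refine hiz ?_
  have h4 : (c : G) * i * (c : G)⁻¹ = (c : G) * d.z * (c : G)⁻¹ := by
    rw [hjz, Frame.Spec.z_central c.2, mul_inv_cancel_right]
  exact mul_left_cancel (mul_right_cancel h4)

include hd hq in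
/-- An involution other than `z` has no field part. -/
theorem Rep.invol (h : Hyp G) {i : G} (hiC : i ∈ d.C) (hi : orderOf i = 2) (hiz : i ≠ d.z) :
    ∃ g : GL (Fin 2) d.F, g.1.trace = 0 ∧ (∀ a : d.F, g.1 ≠ a • (1 : Matrix (Fin 2) (Fin 2) d.F)) ∧
      ∀ A : Matrix.SpecialLinearGroup (Fin 2) d.F, (R.σ ⟨i, hiC⟩ A).1 = g.1 * A.1 * (g⁻¹).1 := by
  haveI : Fact d.p.Prime := ⟨hd.prime⟩
  haveI := hd.charP
  haveI : Fact (Nat.Prime 2) := ⟨Nat.prime_two⟩
  have hii : i * i = 1 := by rw [← pow_two, ← hi, pow_orderOf_eq_one]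
  set φ := R.σ ⟨i, hiC⟩ with hφdef
  have hφ : φ * φ = 1 := by
    rw [hφdef, ← map_mul, show (⟨i, hiC⟩ : ↥d.C) * ⟨i, hiC⟩ = 1 from Subtype.ext hii, map_one]
  obtain ⟨g, e, hge⟩ := SL2.exists_semi d.p (hd.three_lt hq) φ
  have he : e = RingEquiv.refl d.F := by
    by_contra he
    obtain ⟨A, B, hA, hB, hAA, hBB, hAB, hBA⟩ :=
      SL2.field_quaternion d.p hd.odd_card (hd.three_lt hq) hφ hge he
    -- the elements of `L` commuting with `i` cover the quaternion group
    set H : Subgroup ↥d.L := (Subgroup.centralizer ({i} : Set G)).subgroupOf d.L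
    set f := R.π.comp H.subtype
    set K := Subgroup.zpowers A ⊔ Subgroup.zpowers B
    have hcyc : ∀ X : Matrix.SpecialLinearGroup (Fin 2) d.F, X * X = -1 → IsPGroup 2 (Subgroup.zpowers X) :=
      fun X hX => by
        have h4 : X ^ 2 ^ 2 = 1 := by rw [pow_two 2, pow_mul, pow_two, pow_two, hX, neg_mul_neg, one_mul]
        obtain ⟨m, -, hm⟩ := (Nat.dvd_prime_pow Nat.prime_two).mp (orderOf_dvd_of_pow_eq_one h4)
        exact IsPGroup.of_card (n := m) (by rw [Nat.card_zpowers, hm])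
    have hK : IsPGroup 2 K := by
      refine (hcyc A hAA).to_sup_of_normal_left' (hcyc B hBB) ?_
      rw [Subgroup.zpowers_le]
      refine Subgroup.mem_normalizer_fintype fun y hy => ?_
      obtain ⟨k, rfl⟩ := Subgroup.mem_zpowers_iff.mp hy
      rw [← conj_zpow, hBA]
      exact Subgroup.zpow_mem _ (inv_mem (Subgroup.mem_zpowers A)) k
    have hlift : ∀ X : Matrix.SpecialLinearGroup (Fin 2) d.F, φ X = X → ∃ y : H, f y = X := fun X hX => by
      obtain ⟨y, hy, hyX, hyi⟩ := R.lift_fixed hd hq hiC hii hX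
      exact ⟨⟨⟨y, hy⟩, Subgroup.mem_centralizer_singleton_iff.mpr hyi⟩, hyX⟩
    obtain ⟨a, ha⟩ := hlift A hA
    obtain ⟨b, hb⟩ := hlift B hB
    set Y := K.comap f
    let fY : Y →* K := f.subgroupComap K
    have hsurj : Function.Surjective fY := by
      rintro ⟨X, hX⟩
      have hle : K ≤ f.range := sup_le (Subgroup.zpowers_le.mpr ⟨a, ha⟩) (Subgroup.zpowers_le.mpr ⟨b, hb⟩)
      obtain ⟨y, hy⟩ := hle hX
      exact ⟨⟨y, show f y ∈ K from hy ▸ hX⟩, Subtype.ext hy⟩
    obtain ⟨T⟩ : Nonempty (Sylow 2 Y) := inferInstance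
    have hTK : (T : Subgroup Y).map fY = ⊤ := by
      rw [← Sylow.coe_mapSurjective hsurj T]
      obtain ⟨n, hn⟩ := hK.exists_card_eq
      refine Subgroup.eq_top_of_card_eq _ ?_
      rw [(T.mapSurjective hsurj).card_eq_multiplicity, hn, Nat.prime_two.factorization_pow,
        Finsupp.single_eq_same]
    set P : Subgroup G := ((((T : Subgroup Y).map Y.subtype).map H.subtype).map d.L.subtype)
    have hcomm := h.comm_two hd.zord hi (Frame.Spec.z_central hiC).symm hiz (P := P)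
      (((T.2.map _).map _).map _) (fun x hx => by
        obtain ⟨y, -, rfl⟩ := hx
        exact Frame.Spec.z_central (d.L_le y.2))
      (fun x hx => by
        obtain ⟨_, ⟨y, -, rfl⟩, rfl⟩ := hx
        exact Subgroup.mem_centralizer_singleton_iff.mp y.2)
    obtain ⟨a', ha', ea⟩ := hTK.ge (Subgroup.mem_top (⟨A, Subgroup.mem_sup_left (Subgroup.mem_zpowers A)⟩ : K))
    obtain ⟨b', hb', eb⟩ := hTK.ge (Subgroup.mem_top (⟨B, Subgroup.mem_sup_right (Subgroup.mem_zpowers B)⟩ : K))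
    refine hAB ?_
    have h1 : a' * b' = b' * a' := Subtype.ext (Subtype.ext (Subtype.ext
      (hcomm _ ⟨_, ⟨_, ⟨a', ha', rfl⟩, rfl⟩, rfl⟩ _ ⟨_, ⟨_, ⟨b', hb', rfl⟩, rfl⟩, rfl⟩)))
    have h2 := congrArg (fun z => ((fY z : K) : Matrix.SpecialLinearGroup (Fin 2) d.F)) h1
    simpa [ea, eb] using h2
  have hφA : ∀ A : Matrix.SpecialLinearGroup (Fin 2) d.F, (φ A).1 = g.1 * A.1 * (g⁻¹).1 := fun A => by
    rw [hge A, he, show A.1.map (RingEquiv.refl d.F) = A.1 from Matrix.ext fun _ _ => rfl]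
  have hns : ∀ a : d.F, g.1 ≠ a • (1 : Matrix (Fin 2) (Fin 2) d.F) := by
    intro a ha
    refine R.sigma_ne_one hd hq h hiC hi hiz (MulEquiv.ext fun A => Subtype.ext ?_)
    rw [hφA]
    have hgA : g.1 * A.1 = A.1 * g.1 := by rw [ha, Matrix.smul_mul, Matrix.mul_smul, one_mul, mul_one]
    rw [hgA, Matrix.mul_assoc, ← Units.val_mul, mul_inv_cancel, Units.val_one, mul_one]
    rfl
  refine ⟨g, ?_, hns, hφA⟩
  have hsq : ∀ A : Matrix.SpecialLinearGroup (Fin 2) d.F, g.1 * g.1 * A.1 = A.1 * (g.1 * g.1) := fun A => by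
    have h1 : (φ (φ A)).1 = A.1 := congrArg Subtype.val (MulEquiv.congr_fun hφ A)
    rw [hφA, hφA] at h1
    have h2 := congrArg (fun M => M * (g.1 * g.1)) h1
    simpa [Matrix.mul_assoc] using h2
  have e1 := hsq (PSL2.uSL 1)
  have e2 := hsq (PSL2.vSL 1)
  have a1 := congrFun (congrFun e1 0) 0
  have a2 := congrFun (congrFun e2 0) 0
  simp [PSL2.coe_uSL, PSL2.coe_vSL, Matrix.mul_apply, Fin.sum_univ_two] at a1 a2
  have a3 := congrFun (congrFun e1 0) 1
  simp [PSL2.coe_uSL, Matrix.mul_apply, Fin.sum_univ_two] at a3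
  have hm := hns (g.1 0 0)
  rw [Matrix.trace_fin_two]
  by_contra htr
  refine hm ?_
  have h01 : g.1 0 1 = 0 := (mul_eq_zero.mp (show g.1 0 1 * (g.1 0 0 + g.1 1 1) = 0 by
    linear_combination a2)).resolve_right htr
  have h10 : g.1 1 0 = 0 := (mul_eq_zero.mp (show g.1 1 0 * (g.1 0 0 + g.1 1 1) = 0 by
    linear_combination a1)).resolve_right htr
  have h11 : g.1 1 1 = g.1 0 0 := by
    have : (g.1 0 0 - g.1 1 1) * (g.1 0 0 + g.1 1 1) = 0 := by linear_combination a3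
    exact (sub_eq_zero.mp ((mul_eq_zero.mp this).resolve_right htr)).symm
  ext r s
  fin_cases r <;> fin_cases s <;> simp [h01, h10, h11]

include hd in
/-- An involution other than `z` lies outside `L`. -/
theorem Frame.Spec.invol_not_mem {i : G} (hi : orderOf i = 2) (hiz : i ≠ d.z) : i ∉ d.L := by
  obtain ⟨R⟩ := hd.exists_rep
  intro hiL
  have hii : i * i = 1 := by rw [← pow_two, ← hi, pow_orderOf_eq_one]
  rcases SL2Orders.eq_one_or_neg_one_of_sq (SL2Orders.two_ne_zero_of_odd hd.odd_card) (R.π ⟨i, hiL⟩)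
    (by rw [← map_mul, show (⟨i, hiL⟩ : ↥d.L) * ⟨i, hiL⟩ = 1 from Subtype.ext hii, map_one]) with h | h
  · exact BG.not_mem_of_odd d.O_odd hi ((R.ker _).mp h)
  · rw [← R.pi_z hd, ← inv_mul_eq_one, ← map_inv, ← map_mul] at h
    have hO := (R.ker _).mp h
    have hc : Commute i d.z := Frame.Spec.z_central (d.L_le hiL)
    have h2 : (i⁻¹ * d.z) * (i⁻¹ * d.z) = 1 := by
      rw [hc.inv_left.symm.mul_mul_mul_comm, ← mul_inv_rev, hii, inv_one, one_mul, ← pow_two, ← hd.zord,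
        pow_orderOf_eq_one]
    by_cases h3 : i⁻¹ * d.z = 1
    · exact hiz (inv_mul_eq_one.mp h3)
    · exact BG.not_mem_of_odd d.O_odd (orderOf_eq_prime (by rw [pow_two, h2]) h3) hO

end CfsgLib.RankTwoModel
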