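import Cfsg.Agent.Lib.RankTwoModel.Cover
import Cfsg.Agent.Lib.GW.Conseq.QDCentre.Base

/-!
An odd subgroup of the centraliser normalised, modulo the core, by `D` lies in the core.

Blueprint: `blueprint/RankTwo_L5.md` (P1, `odd_le_O`).
-/

set_option autoImplicit false
set_option linter.unusedSectionVars false
set_option linter.style.haveILetI false

namespace CfsgLib.RankTwoModel

open Cfsg

universe u

variable {G : Type u} [Group G] [Finite G] {d : Frame G}

/-- A central odd element of a group with trivial odd core is trivial. -/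
theorem eq_one_of_central_odd {Q : Type u} [Group Q] [Finite Q] (hQ : oddCore Q = ⊥) {c : Q}
    (hc : ∀ y, y * c = c * y) (ho : Odd (orderOf c)) : c = 1 := by
  haveI : (Subgroup.zpowers c).Normal := ⟨fun x hx g => by
    obtain ⟨k, rfl⟩ := Subgroup.mem_zpowers_iff.1 hx
    have : Commute g (c ^ k) := (show Commute g c from hc g).zpow_right k
    rw [this.eq, mul_inv_cancel_right]
    exact Subgroup.zpow_mem_zpowers c k⟩
  exact Subgroup.mem_bot.1 (hQ ▸ CfsgLib.le_oddCore (by rwa [Nat.card_zpowers]) (Subgroup.mem_zpowers c))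

/-- In the centraliser modulo its core an odd subgroup normalised by the derived group is trivial. -/
theorem eq_one_of_normalized {Q : Type u} [Group Q] [Finite Q] (hQ : oddCore Q = ⊥) (Y : Subgroup Q)
    (hY : Odd (Nat.card Y)) (hn : ∀ l ∈ commutator Q, ∀ y ∈ Y, l * y * l⁻¹ ∈ Y) {y : Q} (hy : y ∈ Y) : y = 1 := by
  set L := commutator Q with hL
  have hLo : oddCore L = ⊥ := CfsgLib.GWConseq.QDCentre.oddCore_normal_eq_bot hQ L
  haveI : ((Y ⊓ L).subgroupOf L).Normal := ⟨fun x hx g => show ((g : Q) * x * (g : Q)⁻¹) ∈ Y ⊓ L from ⟨hn g g.2 x hx.1, L.mul_mem (L.mul_mem g.2 x.2) (L.inv_mem g.2)⟩⟩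
  have hA : ∀ x ∈ Y, x ∈ L → x = 1 := fun x hxY hxL => by
    have hodd : Odd (Nat.card ((Y ⊓ L).subgroupOf L)) := by
      refine hY.of_dvd_nat ?_
      rw [Nat.card_congr (Subgroup.subgroupOfEquivOfLe (inf_le_right : Y ⊓ L ≤ L)).toEquiv]
      exact Subgroup.card_dvd_of_le inf_le_left
    have h1 : (⟨x, hxL⟩ : L) ∈ oddCore L :=
      CfsgLib.le_oddCore hodd (show (⟨x, hxL⟩ : L) ∈ (Y ⊓ L).subgroupOf L from ⟨hxY, hxL⟩)
    rw [hLo, Subgroup.mem_bot] at h1
    exact congrArg Subtype.val h1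
  have hord : Odd (orderOf y) := hY.of_dvd_nat (Subgroup.orderOf_dvd_natCard Y hy)
  have hmem : ∀ a b : Q, a * b * a⁻¹ * b⁻¹ ∈ L := fun a b =>
    Subgroup.commutator_mem_commutator (Subgroup.mem_top a) (Subgroup.mem_top b)
  have hcen : ∀ l ∈ L, l * y = y * l := fun l hl => by
    have h1 := hA (l * y * l⁻¹ * y⁻¹) (mul_mem (hn l hl y hy) (inv_mem hy)) (hmem l y)
    exact mul_inv_eq_iff_eq_mul.1 (mul_inv_eq_one.1 h1)
  refine eq_one_of_central_odd hQ (fun g => ?_) hord
  set c := y * g * y⁻¹ * g⁻¹ with hc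
  have hcL : c ∈ L := hmem y g
  have hyc : Commute y c := (hcen c hcL).symm
  have hpow : ∀ k : ℕ, y ^ k * g = c ^ k * g * y ^ k := by
    intro k
    induction k with
    | zero => simp
    | succ k ih =>
      calc y ^ (k + 1) * g = y * (y ^ k * g) := by rw [pow_succ', mul_assoc]
        _ = y * c ^ k * g * y ^ k := by rw [ih]; group
        _ = c ^ k * y * g * y ^ k := by rw [(hyc.pow_right k).eq]
        _ = c ^ k * (c * g * y) * y ^ k := by rw [hc]; group
        _ = _ := by rw [pow_succ' y, pow_succ c]; simp only [mul_assoc]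
  have hc1 : c = 1 := by
    have hcn : c ^ orderOf y = 1 := by
      have h1 := hpow (orderOf y)
      rw [pow_orderOf_eq_one, one_mul, mul_one] at h1
      exact mul_right_cancel (b := g) (by rw [one_mul]; exact h1.symm)
    have hcen' : ∀ l : L, l * ⟨c, hcL⟩ = ⟨c, hcL⟩ * l := fun l => Subtype.ext (by
      show (l : Q) * c = c * l
      have h2 : g⁻¹ * (l : Q) * g ∈ L := by
        simpa using (inferInstance : L.Normal).conj_mem _ l.2 g⁻¹
      have h3 : Commute ((l : Q)) (g * y * g⁻¹) := by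
        have := hcen _ h2
        show (l : Q) * (g * y * g⁻¹) = g * y * g⁻¹ * l
        calc (l : Q) * (g * y * g⁻¹) = g * ((g⁻¹ * l * g) * y) * g⁻¹ := by group
          _ = g * (y * (g⁻¹ * l * g)) * g⁻¹ := by rw [this]
          _ = _ := by group
      have h4 : Commute (l : Q) y := hcen l l.2
      have e : c = y * (g * y * g⁻¹)⁻¹ := by rw [hc]; group
      rw [e]
      exact (h4.mul_right h3.inv_right).eq)
    exact congrArg Subtype.val (eq_one_of_central_odd hLo hcen'
      (hord.of_dvd_nat (by rw [Subgroup.orderOf_mk]; exact orderOf_dvd_of_pow_eq_one hcn)))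
  rw [hc, mul_inv_eq_one] at hc1
  exact (mul_inv_eq_iff_eq_mul.1 hc1).symm

/-- **An odd subgroup of `C` normalised modulo `O` by `D` lies in `O`.** -/
theorem Frame.Spec.odd_le_O (hd : d.Spec) (hq : 3 < d.q) {Y : Subgroup G} (hY : Y ≤ d.C) (hodd : Odd (Nat.card Y))
    (hn : ∀ x ∈ d.D, ∃ o ∈ d.O, x * o ∈ Subgroup.normalizer (Y : Set G)) : Y ≤ d.O := by
  intro y hy
  set f := QuotientGroup.mk' (oddCore ↥d.C) with hf
  have hYodd : Odd (Nat.card ((Y.subgroupOf d.C).map f)) := by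
    refine hodd.of_dvd_nat ((Subgroup.card_map_dvd _ f).trans ?_)
    rw [Nat.card_congr (Subgroup.subgroupOfEquivOfLe hY).toEquiv]
  have key := eq_one_of_normalized (CfsgLib.pPrimeCore_quotient_eq_bot 2) ((Y.subgroupOf d.C).map f) hYodd
    (fun l hl a ha => by
      rw [← hd.D_cover hq] at hl
      obtain ⟨x, hx, rfl⟩ := hl
      obtain ⟨b, hb, rfl⟩ := ha
      obtain ⟨_, ⟨o', ho', rfl⟩, hxo⟩ := hn (x : G) ⟨x, hx, rfl⟩
      let o : ↥d.C := o'
      have ho : o ∈ oddCore ↥d.C := ho'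
      have h1 : ((x : G) * (o : G)) * (b : G) * ((x : G) * (o : G))⁻¹ ∈ Y :=
        (Subgroup.mem_normalizer_iff.1 hxo (b : G)).1 hb
      refine ⟨(x * o) * b * (x * o)⁻¹, h1, ?_⟩
      have ho1 : f o = 1 := (QuotientGroup.eq_one_iff o).2 ho
      simp only [map_mul, map_inv, ho1, mul_one]; rfl)
    (y := f ⟨y, hY hy⟩) ⟨⟨y, hY hy⟩, hy, rfl⟩
  exact ⟨⟨y, hY hy⟩, (QuotientGroup.eq_one_iff _).1 key, rfl⟩

end CfsgLib.RankTwoModel
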