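import Cfsg.Agent.Lib.RankTwoModel.Glue.FieldPair
import Cfsg.Agent.Lib.RankTwoModel.Glue.CoreCentral
import Cfsg.Agent.Lib.RankTwoModel.CMax.Main
import Cfsg.Agent.Lib.RankTwoModel.Rows.Main
import Cfsg.Agent.Lib.QThree.Model

/-!
The assembly of the classification of the smallest groups with semidihedral or wreathed Sylow 2-subgroups from its
parcels.

* `NotBelow`: without `[O, D] = 1` the involution centraliser is maximal (P4);
* `CoreInvol`: with `[O, D] = 1` the involutions of the centraliser centralise the core (P8);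
* `NoField`: then the centraliser has no field part (P9);
* `Extension`: a central core and trivial field part give a model (P9).

Blueprint: `blueprint/RankTwo.md`.
-/

set_option autoImplicit false
set_option linter.unusedSectionVars false

namespace CfsgLib.RankTwoModel

open Cfsg
open scoped MatrixGroups

universe u

/-- P4. -/
def NotBelow : Prop :=
  ∀ (G : Type u) [Group G] [Finite G] (d : Frame G), Hyp G → d.Spec → 3 < d.q →
    ¬ (∀ x ∈ d.O, ∀ y ∈ d.D, x * y = y * x) → IsCoatom d.C

/-- P8. -/
def CoreInvol : Prop :=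
  ∀ (G : Type u) [Group G] [Finite G] (d : Frame G), Hyp G → d.Spec → 3 < d.q →
    (∀ x ∈ d.O, ∀ y ∈ d.D, x * y = y * x) → ∀ x ∈ d.O, ∀ v ∈ d.C, orderOf v = 2 → v * x = x * v

/-- P9, field part. -/
def NoField : Prop :=
  ∀ (G : Type u) [Group G] [Finite G] (d : Frame G) (R : Rep d), Hyp G → ∀ hd : d.Spec, 3 < d.q →
    (∀ x ∈ d.O, ∀ y ∈ d.D, x * y = y * x) → (∀ x ∈ d.O, ∀ v ∈ d.C, orderOf v = 2 → v * x = x * v) →
      ∀ c : ↥d.C, R.field hd c = 1

/-- P9, extension. -/
def Extension : Prop :=
  ∀ (G : Type u) [Group G] [Finite G] (d : Frame G) (R : Rep d), Hyp G → d.Spec → 3 < d.q →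
    (∀ o ∈ d.O, ∀ c ∈ d.C, o * c = c * o) → R.Inner → Model G

/-- **The main theorem from the parcels.** -/
theorem main_of (p4 : NotBelow.{u}) (p8 : CoreInvol.{u}) (p9 : NoField.{u}) (ext : Extension.{u}) :
    Rows.Main.{u} := by
  intro G _ _ h
  obtain ⟨d, hd⟩ := h.exists_frame
  by_cases h3 : d.q = 3
  · exact CfsgLib.QThree.q_three_model h hd h3
  have hq : 3 < d.q := by
    have h1 : 3 ≤ d.p := by
      have := hd.prime.two_le
      have := hd.podd
      omega
    have h2 : d.p ≤ d.q := Nat.le_self_pow (by have := hd.npos; omega) d.p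
    omega
  have hOD : ∀ x ∈ d.O, ∀ y ∈ d.D, x * y = y * x := by
    by_contra hOD
    exact c_max_false h d hd hq (p4 G d h hd hq hOD) hOD
  obtain ⟨R⟩ := hd.exists_rep
  have hOu := p8 G d h hd hq hOD
  have hin : R.Inner := fun c => R.exists_conj_of_field hd hq (p9 G d R h hd hq hOD hOu c)
  exact ext G d R h hd hq (h.core_central R hd hq hOD hOu hin) hin

end CfsgLib.RankTwoModel
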