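import Cfsg.Agent.Lib.Wreathed
import Cfsg.Agent.Lib.QuasiDihedral
import Cfsg.Agent.Lib.QDWreathedNoIndexTwo.Main

/-!
Centralisers of non-central involutions of semidihedral and wreathed groups.
-/

set_option autoImplicit false
set_option linter.unusedSectionVars false

namespace CfsgLib.RankTwoModel

open Cfsg

variable {S : Type*} [Group S] [Finite S]

theorem involution_sq {x : S} (hx : orderOf x = 2) : x * x = 1 := by
  rw [← pow_two, ← hx, pow_orderOf_eq_one]

/-- The centraliser of a non-central involution is abelian. -/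
theorem cent_comm (hS : IsQuasiDihedral S ∨ IsWreathed S) {b a c : S} (hb : orderOf b = 2)
    (hbn : b ∉ Subgroup.center S) (ha : Commute a b) (hc : Commute c b) : Commute a c := by
  rcases hS with hS | hS
  · obtain ⟨-, -, -, d, -⟩ := CfsgLib.QD.exists_data hS
    obtain rfl | ⟨j, rfl⟩ := CfsgLib.QD.involution_cases d hb
    · exact absurd (CfsgLib.QD.z_central d) hbn
    -- an element centralising the involution is `z`-power times a power of the involution
    have key : ∀ g : S, Commute g (d.x ^ (2 * j) * d.y) →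
        ∃ k : ℤ, g = d.x ^ k ∧ Commute (d.x ^ k) (d.x ^ (2 * j) * d.y) ∨
          g = d.x ^ k * (d.x ^ (2 * j) * d.y) ∧ Commute (d.x ^ k) (d.x ^ (2 * j) * d.y) := by
      intro g hg
      obtain ⟨i, rfl | rfl⟩ := CfsgLib.QD.cases_elem d g
      · exact ⟨i, Or.inl ⟨rfl, hg⟩⟩
      · refine ⟨i - 2 * j, Or.inr ⟨by rw [← mul_assoc, ← zpow_add, sub_add_cancel], ?_⟩⟩
        have e : d.x ^ (i - 2 * j) = d.x ^ i * d.y * (d.x ^ (2 * j) * d.y)⁻¹ := by
          rw [mul_inv_rev, mul_assoc (d.x ^ i), ← mul_assoc d.y, mul_inv_cancel, one_mul, ← zpow_neg, ← zpow_add,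
            sub_eq_add_neg]
        rw [e]
        exact hg.mul_left (Commute.refl _).inv_left
    obtain ⟨k, hk⟩ := key a ha
    obtain ⟨l, hl⟩ := key c hc
    have hkl : Commute (d.x ^ k) (d.x ^ l) := Commute.zpow_zpow (Commute.refl _) _ _
    rcases hk with ⟨rfl, hk⟩ | ⟨rfl, hk⟩ <;> rcases hl with ⟨rfl, hl⟩ | ⟨rfl, hl⟩
    · exact hkl
    · exact hkl.mul_right hk
    · exact hkl.mul_left hl.symm
    · exact (hkl.mul_right hk).mul_left ((hl.symm).mul_right (Commute.refl _))
  · obtain ⟨-, -, -, d, -⟩ := CfsgLib.Wr.exists_data hS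
    obtain ⟨p, q, rfl | rfl⟩ := CfsgLib.Wr.cases_elem d b
    · have key : ∀ g : S, Commute g (d.u p q) → ∃ i k : ℤ, g = d.u i k := by
        intro g hg
        obtain ⟨i, k, rfl | rfl⟩ := CfsgLib.Wr.cases_elem d g
        · exact ⟨i, k, rfl⟩
        · exact absurd ((CfsgLib.Wr.u_central_iff d).mpr ((CfsgLib.Wr.commute_u_v_iff d).mp hg.symm)) hbn
      obtain ⟨i, k, rfl⟩ := key a ha
      obtain ⟨i', k', rfl⟩ := key c hc
      show _ * _ = _ * _
      rw [CfsgLib.Wr.u_mul_u, CfsgLib.Wr.u_mul_u, add_comm i, add_comm k]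
    · have key : ∀ g : S, Commute g (d.v p q) → g ∈ Subgroup.center S ∨ g * (d.v p q)⁻¹ ∈ Subgroup.center S := by
        intro g hg
        obtain ⟨i, k, rfl | rfl⟩ := CfsgLib.Wr.cases_elem d g
        · exact Or.inl ((CfsgLib.Wr.u_central_iff d).mpr ((CfsgLib.Wr.commute_u_v_iff d).mp hg))
        · right
          have h2 : d.v i k * (d.v p q)⁻¹ = d.u (i - p) (k - q) := by
            rw [mul_inv_eq_iff_eq_mul, CfsgLib.Wr.u_mul_v, sub_add_cancel, sub_add_cancel]
          have h3 : Commute (d.u (i - p) (k - q)) (d.v p q) := by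
            rw [← h2]
            exact hg.mul_left (Commute.refl _).inv_left
          rw [h2]
          exact (CfsgLib.Wr.u_central_iff d).mpr ((CfsgLib.Wr.commute_u_v_iff d).mp h3)
      rcases key a ha with h | h
      · exact (Subgroup.mem_center_iff.mp h c).symm
      rcases key c hc with h' | h'
      · exact Subgroup.mem_center_iff.mp h' a
      have e : ∀ g : S, g = g * (d.v p q)⁻¹ * d.v p q := fun g => by group
      have hcz : ∀ x : S, x ∈ Subgroup.center S → ∀ y, Commute x y := fun x hx y => (Subgroup.mem_center_iff.mp hx y).symm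
      rw [e a, e c]
      exact ((hcz _ h _).mul_right (hcz _ h _)).mul_left ((hcz _ h' _).symm.mul_right (Commute.refl _))

/-- The involutions centralising a non-central involution `b`: `b`, the central one and their product. -/
theorem cent_invol (hS : IsQuasiDihedral S ∨ IsWreathed S) {z b a : S} (hz : orderOf z = 2)
    (hzc : z ∈ Subgroup.center S) (hb : orderOf b = 2) (hbn : b ∉ Subgroup.center S) (ha : orderOf a = 2)
    (hab : Commute a b) : a = z ∨ a = b ∨ a = z * b := by
  obtain ⟨huniq, -⟩ := CfsgLib.QDWNoTwo.center_facts hS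
  by_cases hac : a ∈ Subgroup.center S
  · exact Or.inl (huniq a hac z hzc ha hz)
  -- `a b` is central
  by_cases hab1 : a * b = 1
  · exact Or.inr (Or.inl ((mul_eq_one_iff_eq_inv.mp hab1).trans
      (inv_eq_of_mul_eq_one_right (involution_sq hb))))
  suffices hc : a * b ∈ Subgroup.center S by
    have h2 : orderOf (a * b) = 2 := orderOf_eq_prime
      (by rw [hab.mul_pow, pow_two, pow_two, involution_sq ha, involution_sq hb, one_mul]) hab1
    refine Or.inr (Or.inr ?_)
    rw [← huniq _ hc z hzc h2 hz, mul_assoc, involution_sq hb, mul_one]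
  rcases hS with hS | hS
  · obtain ⟨-, -, -, d, -⟩ := CfsgLib.QD.exists_data hS
    obtain rfl | ⟨j, rfl⟩ := CfsgLib.QD.involution_cases d hb
    · exact absurd (CfsgLib.QD.z_central d) hbn
    obtain rfl | ⟨i, rfl⟩ := CfsgLib.QD.involution_cases d ha
    · exact absurd (CfsgLib.QD.z_central d) hac
    have hc : Commute (d.x ^ (2 * i + (4 * (d.M : ℤ) - 1) * (2 * j))) (d.x ^ (2 * j) * d.y) := by
      rw [← CfsgLib.QD.xy_mul_xy]
      exact hab.mul_left (Commute.refl _)
    rw [CfsgLib.QD.xy_mul_xy]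
    rcases CfsgLib.QD.zpow_sq_eq_one_cases d ((CfsgLib.QD.commute_xy_iff d).mp hc) with e | e <;> rw [e]
    · exact one_mem _
    · exact CfsgLib.QD.z_central d
  · obtain ⟨-, -, -, d, -⟩ := CfsgLib.Wr.exists_data hS
    obtain ⟨p, q, rfl | rfl⟩ := CfsgLib.Wr.cases_elem d b <;> obtain ⟨i, k, rfl | rfl⟩ := CfsgLib.Wr.cases_elem d a
    · rw [CfsgLib.Wr.u_mul_u, CfsgLib.Wr.u_central_iff]
      have hnd : ∀ {i k : ℤ}, d.u i k * d.u i k = 1 → d.u i k ∉ Subgroup.center S →
          2 * (d.h : ℤ) ∣ k - i + d.h := by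
        intro i k h hn
        rw [CfsgLib.Wr.u_central_iff] at hn
        obtain ⟨hi, hk⟩ := CfsgLib.Wr.u_mul_self_eq_one d h
        rcases CfsgLib.Wr.dvd_half_cases d (dvd_sub hk hi) with e | e
        · exact absurd e hn
        · exact (dvd_add e (dvd_refl _)).trans (dvd_of_eq (by ring))
      have h1 := hnd (involution_sq ha) hac
      have h2 := hnd (involution_sq hb) hbn
      obtain ⟨r, hr⟩ := dvd_add h1 h2
      exact ⟨r - 1, by linear_combination hr⟩
    · exact absurd ((CfsgLib.Wr.u_central_iff d).mpr ((CfsgLib.Wr.commute_u_v_iff d).mp hab.symm)) hbn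
    · exact absurd ((CfsgLib.Wr.u_central_iff d).mpr ((CfsgLib.Wr.commute_u_v_iff d).mp hab)) hac
    · have hc : Commute (d.v i k * d.v p q) (d.v p q) := hab.mul_left (Commute.refl _)
      rw [CfsgLib.Wr.v_mul_v] at hc ⊢
      exact (CfsgLib.Wr.u_central_iff d).mpr ((CfsgLib.Wr.commute_u_v_iff d).mp hc)

/-- A subgroup with two involutions, each involution central in it, is abelian. -/
theorem comm_of_central_invol (hS : IsQuasiDihedral S ∨ IsWreathed S) {X : Subgroup S} {a b : S}
    (ha : a ∈ X) (hb : b ∈ X) (ha2 : orderOf a = 2) (hb2 : orderOf b = 2) (hab : a ≠ b)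
    (hc : ∀ x ∈ X, orderOf x = 2 → ∀ g ∈ X, Commute g x) {g g' : S} (hg : g ∈ X) (hg' : g' ∈ X) :
    Commute g g' := by
  obtain ⟨huniq, -⟩ := CfsgLib.QDWNoTwo.center_facts hS
  by_cases han : a ∈ Subgroup.center S
  · by_cases hbn : b ∈ Subgroup.center S
    · exact absurd (huniq a han b hbn ha2 hb2) hab
    · exact cent_comm hS hb2 hbn (hc b hb hb2 g hg) (hc b hb hb2 g' hg')
  · exact cent_comm hS ha2 han (hc a ha ha2 g hg) (hc a ha ha2 g' hg')

end CfsgLib.RankTwoModel
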