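import Cfsg.Agent.Lib.RankTwoModel.Hyp
import Cfsg.Agent.Lib.RankTwoModel.TwoGroup
import Cfsg.Agent.Lib.RankTwoSylow.Main
import Cfsg.Agent.Lib.ZStar.Main
import Cfsg.Agent.Lib.BG.Bad

/-!
Involutions and four groups of a `Hyp` group, and subgroups in which the central involution is isolated.
-/

set_option autoImplicit false
set_option linter.unusedSectionVars false

namespace CfsgLib.RankTwoModel

open Cfsg CfsgLib.BG CfsgLib.GW CfsgLib.DihedralFusion CfsgLib.BenderMax
open scoped commutatorElement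

universe u

variable {G : Type u} [Group G] [Finite G]

theorem orderOf_cj (g x : G) : orderOf (g * x * g⁻¹) = orderOf x := MulEquiv.orderOf_eq (MulAut.conj g) x

variable (h : Hyp G)
include h

theorem Hyp.exists_conj (a b : G) (ha : orderOf a = 2) (hb : orderOf b = 2) : ∃ g : G, g * a * g⁻¹ = b :=
  isConj_iff.1 (h.all_conj a b ha hb)

/-- A Sylow 2-subgroup with a given involution in its centre. -/
theorem Hyp.exists_sylow {t : G} (ht : orderOf t = 2) :
    ∃ S : Sylow 2 G, t ∈ (S : Subgroup G) ∧ (∀ s ∈ (S : Subgroup G), s * t = t * s) ∧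
      (IsQuasiDihedral (S : Subgroup G) ∨ IsWreathed (S : Subgroup G)) := by
  haveI : Fact (Nat.Prime 2) := ⟨Nat.prime_two⟩
  obtain ⟨S, hS⟩ := h.qw
  have hne : (S : Subgroup G) ≠ ⊥ := fun e => (CfsgLib.QDWNoTwo.center_facts hS).2 ⟨⟨fun a b => Subtype.ext (by
    have ha : (a : G) = 1 := Subgroup.mem_bot.mp (e ▸ a.2)
    have hb : (b : G) = 1 := Subgroup.mem_bot.mp (e ▸ b.2)
    simp [ha, hb])⟩⟩
  obtain ⟨z, hzS, hz, hzc⟩ := CfsgLib.Comp.exists_central_in_normal (p := 2) S.2 le_rfl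
    Subgroup.le_normalizer hne
  obtain ⟨g, hg⟩ := h.exists_conj z t hz ht
  refine ⟨g • S, ?_, fun s hs => ?_, ?_⟩
  · rw [Sylow.coe_subgroup_smul, ← hg]
    exact Subgroup.smul_mem_pointwise_smul _ (MulAut.conj g) _ hzS
  · rw [Sylow.coe_subgroup_smul, Subgroup.mem_pointwise_smul_iff_inv_smul_mem] at hs
    have h1 := hzc _ hs
    simp only [MulAut.smul_def, MulAut.inv_def, MulAut.conj_symm_apply] at h1
    rw [← hg]
    calc s * (g * z * g⁻¹) = g * (g⁻¹ * s * g * z) * g⁻¹ := by group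
      _ = g * (z * (g⁻¹ * s * g)) * g⁻¹ := by rw [h1]
      _ = g * z * g⁻¹ * s := by group
  · exact CfsgLib.QDWNoTwo.shape_equiv (S.equiv (g • S)) hS

/-- A central involution of a Sylow 2-subgroup is the only one. -/
theorem Hyp.central_unique {S : Sylow 2 G} {t w : G} (htS : t ∈ (S : Subgroup G))
    (hc : ∀ s ∈ (S : Subgroup G), s * t = t * s) (ht : orderOf t = 2) (hwS : w ∈ (S : Subgroup G))
    (hwc : ∀ s ∈ (S : Subgroup G), s * w = w * s) (hw : orderOf w = 2) : w = t := by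
  obtain ⟨S₀, hS₀⟩ := h.qw
  haveI : Fact (Nat.Prime 2) := ⟨Nat.prime_two⟩
  refine congrArg Subtype.val ((CfsgLib.QDWNoTwo.center_facts (CfsgLib.QDWNoTwo.shape_equiv (S₀.equiv S) hS₀)).1
    ⟨w, hwS⟩ (Subgroup.mem_center_iff.mpr fun g => Subtype.ext (hwc g g.2)) ⟨t, htS⟩
    (Subgroup.mem_center_iff.mpr fun g => Subtype.ext (hc g g.2)) ?_ ?_)
  · rw [← Subgroup.orderOf_coe]; exact hw
  · rw [← Subgroup.orderOf_coe]; exact ht

/-- Commuting involutions inside a Sylow subgroup centralized by the first one. -/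
theorem Hyp.exists_sylow_pair {t v : G} (ht : orderOf t = 2) (hv : orderOf v = 2) (hc : t * v = v * t)
    (hne : v ≠ t) {P : Subgroup G} (hP : IsPGroup 2 P) (hPt : ∀ x ∈ P, x * t = t * x) (hvP : v ∈ P) :
    ∃ (S : Sylow 2 G) (c : G), c * t * c⁻¹ = t ∧ t ∈ (S : Subgroup G) ∧
      (∀ s ∈ (S : Subgroup G), s * t = t * s) ∧ (IsQuasiDihedral (S : Subgroup G) ∨ IsWreathed (S : Subgroup G)) ∧
      (∀ x ∈ P, c * x * c⁻¹ ∈ (S : Subgroup G)) ∧ ∃ hv' : c * v * c⁻¹ ∈ (S : Subgroup G),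
        (⟨c * v * c⁻¹, hv'⟩ : (S : Subgroup G)) ∉ Subgroup.center (S : Subgroup G) := by
  obtain ⟨S, htS, hSc, hS⟩ := h.exists_sylow ht
  obtain ⟨c, hct, hcP⟩ := CfsgLib.RankTwoSylow.exists_conj_into S hSc hP hPt
  refine ⟨S, c, hct, htS, hSc, hS, hcP, hcP v hvP, fun hcen => hne ?_⟩
  have e := h.central_unique htS hSc ht (hcP v hvP)
    (fun s hs => congrArg Subtype.val (Subgroup.mem_center_iff.mp hcen ⟨s, hs⟩)) ((orderOf_cj c v).trans hv)
  rw [← hct] at e
  exact mul_left_cancel (mul_right_cancel e)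

/-- Commuting involutions lie in the four group. -/
theorem Hyp.invol_cases {t v z : G} (ht : orderOf t = 2) (hv : orderOf v = 2) (hc : t * v = v * t)
    (hne : v ≠ t) (hz : orderOf z = 2) (hzt : z * t = t * z) (hzv : z * v = v * z) :
    z = t ∨ z = v ∨ z = t * v := by
  set P := Subgroup.closure ({t, v, z} : Set G) with hP
  have hmem : ∀ {x : G}, x ∈ ({t, v, z} : Set G) → x ∈ P := fun hx => Subgroup.subset_closure hx
  have hPc : ∀ x ∈ P, ∀ y ∈ P, x * y = y * x := by
    intro x hx y hy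
    refine Subgroup.closure_induction₂ (p := fun a b _ _ => a * b = b * a) ?_ (fun a _ => by simp)
      (fun a _ => by simp) (fun a b c _ _ _ h1 h2 => (Commute.mul_left (h1 : Commute a c) h2).eq)
      (fun a b c _ _ _ h1 h2 => (Commute.mul_right (h1 : Commute c a) h2).eq) (fun a b _ _ h1 => (Commute.inv_left (h1 : Commute a b)).eq)
      (fun a b _ _ h1 => (Commute.inv_right (h1 : Commute a b)).eq) hx hy
    intro a b ha hb
    simp only [Set.mem_insert_iff, Set.mem_singleton_iff] at ha hb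
    rcases ha with rfl | rfl | rfl <;> rcases hb with rfl | rfl | rfl <;>
      first | rfl | exact hc | exact hc.symm | exact hzt | exact hzt.symm | exact hzv | exact hzv.symm
  have hPp : IsPGroup 2 P := fun x => ⟨1, Subtype.ext (by
    rw [Subgroup.coe_pow, pow_one]
    refine Subgroup.closure_induction (p := fun a _ => a ^ 2 = 1) ?_ (one_pow _) ?_ (fun a _ ha => by rw [inv_pow, ha, inv_one]) x.2
    · intro a ha
      simp only [Set.mem_insert_iff, Set.mem_singleton_iff] at ha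
      rcases ha with rfl | rfl | rfl <;>
        first | (rw [← ht, pow_orderOf_eq_one]) | (rw [← hv, pow_orderOf_eq_one]) | (rw [← hz, pow_orderOf_eq_one])
    · intro a b ha hb h1 h2
      rw [(show Commute a b from hPc a ha b hb).mul_pow, h1, h2, one_mul])⟩
  obtain ⟨S, c, hct, htS, hSc, hS, hcP, hvS, hvn⟩ := h.exists_sylow_pair ht hv hc hne hPp
    (fun x hx => hPc x hx t (hmem (by simp))) (hmem (by simp))
  have hvz : Commute (c * z * c⁻¹) (c * v * c⁻¹) := (Commute.conj_iff c).2 hzv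
  rcases cent_invol hS (z := (⟨t, htS⟩ : (S : Subgroup G))) (by rw [← Subgroup.orderOf_coe]; exact ht)
      (Subgroup.mem_center_iff.mpr fun g => Subtype.ext (hSc g g.2)) (b := ⟨c * v * c⁻¹, hvS⟩)
      (by rw [← Subgroup.orderOf_coe]; exact (orderOf_cj c v).trans hv) hvn
      (a := ⟨c * z * c⁻¹, hcP z (hmem (by simp))⟩) (by rw [← Subgroup.orderOf_coe]; exact (orderOf_cj c z).trans hz)
      (Subtype.ext hvz.eq) with e | e | e
  · refine Or.inl ?_
    have e' : c * z * c⁻¹ = c * t * c⁻¹ := by rw [hct]; exact congrArg Subtype.val e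
    exact mul_left_cancel (mul_right_cancel e')
  · exact Or.inr (Or.inl (mul_left_cancel (mul_right_cancel (congrArg Subtype.val e))))
  · refine Or.inr (Or.inr (mul_left_cancel (mul_right_cancel (b := c⁻¹) (a := c * z) (c := c * (t * v)) ?_)))
    rw [show c * z * c⁻¹ = t * (c * v * c⁻¹) from congrArg Subtype.val e]
    conv_lhs => rw [← hct]
    group

/-- The centralizer of an involution swaps the others of each four group through it. -/
theorem Hyp.swap {t v : G} (ht : orderOf t = 2) (hv : orderOf v = 2) (hc : t * v = v * t) (hne : v ≠ t) :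
    ∃ s ∈ Subgroup.centralizer ({t} : Set G), s * v * s⁻¹ = t * v := by
  haveI : Fact (Nat.Prime 2) := ⟨Nat.prime_two⟩
  obtain ⟨S, c, hct, htS, hSc, hS, -, hvS, hvn⟩ := h.exists_sylow_pair ht hv hc hne
    (P := four t v) (isPGroup_klein (isKleinFour_four ht hv hc hne))
    (fun x hx => four_comm ht hv hc hne hx (left_mem_four _ _)) (right_mem_four _ _)
  set b : (S : Subgroup G) := ⟨c * v * c⁻¹, hvS⟩ with hb
  set C := Subgroup.centralizer ({b} : Set (S : Subgroup G))
  haveI : Group.IsNilpotent (S : Subgroup G) := S.2.isNilpotent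
  have hlt : C < Subgroup.normalizer (C : Set (S : Subgroup G)) := by
    refine Group.normalizerCondition_of_isNilpotent C (lt_top_iff_ne_top.2 fun e => hvn ?_)
    exact Subgroup.mem_center_iff.mpr fun g =>
      Subgroup.mem_centralizer_singleton_iff.mp (show g ∈ C from e.symm ▸ Subgroup.mem_top g)
  obtain ⟨s, hsN, hsC⟩ := SetLike.exists_of_lt hlt
  have hbC : b ∈ C := Subgroup.mem_centralizer_singleton_iff.mpr rfl
  have hbs := Subgroup.mem_centralizer_singleton_iff.mp ((Subgroup.mem_normalizer_iff.1 hsN b).1 hbC)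
  have hbv : orderOf (c * v * c⁻¹) = 2 := (orderOf_cj c v).trans hv
  have hbt : t * (c * v * c⁻¹) = c * v * c⁻¹ * t := (hSc _ hvS).symm
  have hbne : c * v * c⁻¹ ≠ t := fun e => hne (by rw [← hct] at e; exact mul_left_cancel (mul_right_cancel e))
  have hst : (s : G) * t * (s : G)⁻¹ = t := mul_inv_eq_iff_eq_mul.2 (hSc s s.2)
  rcases h.invol_cases (z := (s : G) * (c * v * c⁻¹) * (s : G)⁻¹) ht hbv hbt hbne ((orderOf_cj _ _).trans hbv)
      (hSc _ (mul_mem (mul_mem s.2 hvS) (inv_mem s.2))) (congrArg Subtype.val hbs) with e | e | e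
  · exact absurd (mul_left_cancel (mul_right_cancel (e.trans hst.symm))) hbne
  · exact absurd (Subgroup.mem_centralizer_singleton_iff.mpr (Subtype.ext (mul_inv_eq_iff_eq_mul.1 e))) hsC
  refine ⟨c⁻¹ * s * c, mem_cent.2 ?_, ?_⟩
  · refine mul_inv_eq_iff_eq_mul.1 ?_
    calc c⁻¹ * s * c * t * (c⁻¹ * s * c)⁻¹ = c⁻¹ * ((s : G) * (c * t * c⁻¹) * (s : G)⁻¹) * c := by group
      _ = c⁻¹ * (c * t * c⁻¹) * c := by rw [hct, hst]
      _ = t := by group
  · calc c⁻¹ * s * c * v * (c⁻¹ * s * c)⁻¹ = c⁻¹ * ((s : G) * (c * v * c⁻¹) * (s : G)⁻¹) * c := by group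
      _ = c⁻¹ * ((c * t * c⁻¹) * (c * v * c⁻¹)) * c := by rw [hct, e]
      _ = t * v := by group

/-- The three-cycle of a four group. -/
theorem Hyp.three {t v : G} (ht : orderOf t = 2) (hv : orderOf v = 2) (hc : t * v = v * t) (hne : v ≠ t) :
    ∃ g : G, g * t * g⁻¹ = v ∧ g * v * g⁻¹ = t * v ∧ g * (t * v) * g⁻¹ = t := by
  obtain ⟨s, hs, hsv⟩ := h.swap ht hv hc hne
  obtain ⟨r, hr, hrt⟩ := h.swap hv ht hc.symm hne.symm
  have hst : s * t * s⁻¹ = t := mul_inv_eq_iff_eq_mul.2 (mem_cent.1 hs)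
  have hrv : r * v * r⁻¹ = v := mul_inv_eq_iff_eq_mul.2 (mem_cent.1 hr)
  have hvv : v * v = 1 := invol_mul_self hv
  have hsp : s * (v * t) * s⁻¹ = v := by
    rw [show s * (v * t) * s⁻¹ = (s * v * s⁻¹) * (s * t * s⁻¹) by group, hsv, hst, hc, mul_assoc,
      invol_mul_self ht, mul_one]
  have e1 : s * r * t * (s * r)⁻¹ = v := by
    rw [show s * r * t * (s * r)⁻¹ = s * (r * t * r⁻¹) * s⁻¹ by group, hrt, hsp]
  have e2 : s * r * v * (s * r)⁻¹ = t * v := by
    rw [show s * r * v * (s * r)⁻¹ = s * (r * v * r⁻¹) * s⁻¹ by group, hrv, hsv]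
  exact ⟨s * r, e1, e2, by
    rw [show s * r * (t * v) * (s * r)⁻¹ = (s * r * t * (s * r)⁻¹) * (s * r * v * (s * r)⁻¹) by group, e1, e2, hc,
      ← mul_assoc, hvv, one_mul]⟩

/-- The 2-rank is two. -/
theorem Hyp.rank_two : Cfsg.PRankLE 2 2 G := by
  classical
  intro E hE hE2
  by_contra hlt
  haveI := hE
  haveI : Fintype E := Fintype.ofFinite _
  have hinv : ∀ a : E, a ≠ 1 → orderOf (a : G) = 2 := fun a ha =>
    orderOf_eq_prime (hE2 a a.2) fun e => ha (Subtype.ext e)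
  have hcard : 4 < Fintype.card E := by
    rw [← Nat.card_eq_fintype_card]
    simpa using hlt
  obtain ⟨t, -, ht⟩ := Finset.exists_mem_notMem_of_card_lt_card (s := ({1} : Finset E)) (t := Finset.univ)
    (by simp; omega)
  obtain ⟨v, -, hv⟩ := Finset.exists_mem_notMem_of_card_lt_card (s := ({1, t} : Finset E)) (t := Finset.univ)
    (lt_of_le_of_lt Finset.card_le_two (by simp; omega))
  obtain ⟨z, -, hz⟩ := Finset.exists_mem_notMem_of_card_lt_card (s := ({1, t, v, t * v} : Finset E)) (t := Finset.univ)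
    (lt_of_le_of_lt Finset.card_le_four (by simp; omega))
  simp only [Finset.mem_insert, Finset.mem_singleton, not_or] at ht hv hz
  have hcm : ∀ a b : E, (a : G) * b = b * a := fun a b => congrArg Subtype.val (hE.is_comm.comm a b)
  rcases h.invol_cases (hinv t ht) (hinv v hv.1) (hcm t v) (fun e => hv.2 (Subtype.ext e)) (hinv z hz.1)
      (hcm z t) (hcm z v) with e | e | e
  · exact hz.2.1 (Subtype.ext e)
  · exact hz.2.2.1 (Subtype.ext e)
  · exact hz.2.2.2 (Subtype.ext e)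

theorem Hyp.not_odd : ¬ Odd (Nat.card G) := fun ho => by
  haveI := h.simple
  haveI : Group.IsSolvable G := CfsgLib.OddOrder.feitThompson ho
  exact h.noncomm ⟨⟨fun a b => IsSimpleGroup.comm_iff_isSolvable.mpr inferInstance a b⟩⟩

theorem Hyp.normalizer_ne_top {R : Subgroup G} (hne : R ≠ ⊥) (hodd : Odd (Nat.card R)) :
    Subgroup.normalizer (R : Set G) ≠ ⊤ := fun e => by
  haveI : R.Normal := Subgroup.normalizer_eq_top_iff.1 e
  rcases h.simple.eq_bot_or_eq_top_of_normal R inferInstance with e' | e'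
  · exact hne e'
  · rw [e', Subgroup.card_top] at hodd
    exact h.not_odd hodd

/-- A subgroup of even order normalized by a four group contains one of its involutions. -/
theorem Hyp.meets_normal {t v : G} (ht : orderOf t = 2) (hv : orderOf v = 2) (hc : t * v = v * t)
    (hne : v ≠ t) {Y N : Subgroup G} (htY : t ∈ Y) (hvY : v ∈ Y) (hNY : N ≤ Y)
    (hn : ∀ y ∈ Y, ∀ x ∈ N, y * x * y⁻¹ ∈ N) (heven : ¬ Odd (Nat.card N)) :
    t ∈ N ∨ v ∈ N ∨ t * v ∈ N := by
  haveI : Fact (Nat.Prime 2) := ⟨Nat.prime_two⟩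
  have hV : IsPGroup 2 ((four t v).subgroupOf Y) :=
    (isPGroup_klein (isKleinFour_four ht hv hc hne)).comap_of_injective _ Y.subtype_injective
  obtain ⟨P, hP⟩ := hV.exists_le_sylow
  set N' : Subgroup Y := N.subgroupOf Y
  haveI hn' : N'.Normal := ⟨fun x hx y => hn y y.2 x hx⟩
  have hM : N' ⊓ (P : Subgroup Y) ≠ ⊥ := by
    intro e
    rw [Nat.not_odd_iff_even, even_iff_two_dvd] at heven
    rw [← Nat.card_congr (Subgroup.subgroupOfEquivOfLe hNY).toEquiv] at heven
    obtain ⟨z, hz⟩ := exists_prime_orderOf_dvd_card' (G := N') 2 heven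
    rw [← Subgroup.orderOf_coe] at hz
    obtain ⟨g, hg⟩ := exists_conj_le (S := P) (T := Subgroup.zpowers (z : Y))
      (IsPGroup.of_card (n := 1) (by rw [Nat.card_zpowers, hz]; rfl))
    have hmem : g * (z : Y) * g⁻¹ ∈ N' ⊓ (P : Subgroup Y) :=
      ⟨hn'.conj_mem _ z.2 g, hg ⟨z, Subgroup.mem_zpowers _, rfl⟩⟩
    rw [e, Subgroup.mem_bot, conj_eq_one_iff] at hmem
    rw [hmem, orderOf_one] at hz
    omega
  obtain ⟨z, hzM, hz, hzc⟩ := CfsgLib.Comp.exists_central_in_normal (p := 2) P.2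
    (inf_le_right : N' ⊓ (P : Subgroup Y) ≤ P)
    (fun q hq => Subgroup.mem_normalizer_fintype fun x hx =>
      ⟨hn'.conj_mem x hx.1 q, (P : Subgroup Y).mul_mem ((P : Subgroup Y).mul_mem hq hx.2) ((P : Subgroup Y).inv_mem hq)⟩) hM
  have h1 := hzc ⟨t, htY⟩ (hP (left_mem_four t v))
  have h2 := hzc ⟨v, hvY⟩ (hP (right_mem_four t v))
  rw [← Subgroup.orderOf_coe] at hz
  have hzN : (z : G) ∈ N := hzM.1
  rcases h.invol_cases ht hv hc hne hz (congrArg Subtype.val h1).symm (congrArg Subtype.val h2).symm with e | e | e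
  · exact Or.inl (e ▸ hzN)
  · exact Or.inr (Or.inl (e ▸ hzN))
  · exact Or.inr (Or.inr (e ▸ hzN))

omit h in
theorem two_group_even {N : Subgroup G} (hN : IsPGroup 2 N) (hne : N ≠ ⊥) : ¬ Odd (Nat.card N) := fun ho => by
  haveI : Fact (Nat.Prime 2) := ⟨Nat.prime_two⟩
  obtain ⟨k, hk⟩ := hN.exists_card_eq
  rcases k with _ | k
  · exact hne (Subgroup.eq_bot_of_card_eq _ (by rw [hk, pow_zero]))
  · rw [hk] at ho
    exact absurd ho (Nat.not_odd_iff_even.2 ((Nat.even_pow).2 ⟨even_two, Nat.succ_ne_zero k⟩))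

omit h in
/-- An involution of a perfect subgroup with central core that is isolated in it is central. -/
theorem comm_of_isolated {L : Subgroup G} [Group.IsPerfect L] (hcore : oddCore L ≤ Subgroup.center L) {w : G}
    (hw : orderOf w = 2) (hwL : w ∈ L)
    (hiso : ∀ g ∈ L, Commute (g * w * g⁻¹) w → g * w * g⁻¹ = w) : ∀ x ∈ L, x * w = w * x := by
  set ww : L := ⟨w, hwL⟩
  have hww : orderOf ww = 2 := by rw [← hw]; exact Subgroup.orderOf_mk w hwL
  have hcm : ∀ x : L, x * ww * x⁻¹ * ww⁻¹ ∈ Subgroup.center L := fun x => by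
    refine hcore ?_
    have hc := CfsgLib.ZStar.commutator_mem hww
      (fun g hg => Subtype.ext (hiso g g.2 (congrArg Subtype.val hg.symm.eq :))) x
    have hO : ww * x * ww⁻¹ * x⁻¹ ∈ oddCore L := hc
    rw [show x * ww * x⁻¹ * ww⁻¹ = (ww * x * ww⁻¹ * x⁻¹)⁻¹ by group]
    exact inv_mem hO
  let f : L →* Subgroup.center L :=
    MonoidHom.mk' (fun x => ⟨x * ww * x⁻¹ * ww⁻¹, hcm x⟩) fun a b => Subtype.ext (by
      show a * b * ww * (a * b)⁻¹ * ww⁻¹ = a * ww * a⁻¹ * ww⁻¹ * (b * ww * b⁻¹ * ww⁻¹)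
      rw [show a * b * ww * (a * b)⁻¹ * ww⁻¹ = a * (b * ww * b⁻¹ * ww⁻¹) * (ww * a⁻¹ * ww⁻¹) by group,
        show a * (b * ww * b⁻¹ * ww⁻¹) = (b * ww * b⁻¹ * ww⁻¹) * a from Subgroup.mem_center_iff.mp (hcm b) a,
        mul_assoc (b * ww * b⁻¹ * ww⁻¹) a, show a * (ww * a⁻¹ * ww⁻¹) = a * ww * a⁻¹ * ww⁻¹ by group,
        Subgroup.mem_center_iff.mp (hcm b) (a * ww * a⁻¹ * ww⁻¹)])
  intro x hx
  have hcomm : (⊤ : Subgroup L) ≤ f.ker := by
    have hp : commutator L = ⊤ := Group.IsPerfect.commutator_eq_top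
    rw [← hp, commutator_def, Subgroup.commutator_le]
    intro a _ b _
    have : f ⁅a, b⁆ = 1 := by
      rw [map_commutatorElement, commutatorElement_def]
      have hab : f a * f b = f b * f a :=
        Subtype.ext (Subgroup.mem_center_iff.mp (f b).2 (f a).1)
      rw [hab]; group
    exact this
  have h2 := congrArg Subtype.val (hcomm (Subgroup.mem_top (⟨x, hx⟩ : L)) : f ⟨x, hx⟩ = 1)
  have h3 := congrArg Subtype.val h2
  exact mul_inv_eq_iff_eq_mul.1 (mul_inv_eq_one.1 h3)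

end CfsgLib.RankTwoModel
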