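import Cfsg.Agent.Lib.OddLocal.Stable
import Cfsg.Agent.Lib.Quadratic.Section

/-!
Quadratic automorphisms of `p`-groups.

* `mem_pCore_of_quad`: without a section `SL₂(p)` a quadratic element lies in `O_p`;
* `mem_pCore_of_quad_odd`: so in groups of odd order;
* `Stab p M`: stability of `M` for abelian and self-centralising normal `p`-subgroups.

Blueprint: `blueprint/RankTwo_P3.md`.
-/

set_option autoImplicit false
set_option linter.unusedSectionVars false
set_option linter.style.haveILetI false

namespace CfsgLib.RankTwoModel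

open Subgroup Cfsg
open scoped commutatorElement

universe u

/-- An automorphism is quadratic. -/
def IsQuad {V : Type*} [Group V] (φ : MulAut V) : Prop := ∀ v : V, φ (φ v * v⁻¹) = φ v * v⁻¹

/-- Stability for the abelian and the self-centralising normal `p`-subgroups. -/
def Stab (p : ℕ) (M : Type u) [Group M] : Prop :=
  ∀ (V : Subgroup M) [V.Normal], IsPGroup p V → (IsMulCommutative V ∨ centralizer (V : Set M) ≤ V) →
    ∀ a : M, (∃ k : ℕ, a ^ p ^ k = 1) → ⁅⁅V, zpowers a⁆, zpowers a⁆ = ⊥ →
      (QuotientGroup.mk a : M ⧸ centralizer (V : Set M)) ∈ pCore p (M ⧸ centralizer (V : Set M))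

variable {p : ℕ} [Fact p.Prime] {V : Type u} [Group V] [Finite V]

/-- **A quadratic element lies in `O_p` if there is no section `SL₂(p)`.** -/
theorem mem_pCore_of_quad (hp : p ≠ 2) (hV : IsPGroup p V) (X : Subgroup (MulAut V))
    (hno : ∀ (K : Subgroup X) (f : K →* Matrix.SpecialLinearGroup (Fin 2) (ZMod p)), ¬ Function.Surjective f)
    {a : MulAut V} (ha : a ∈ X) (hq : IsQuad a) : (⟨a, ha⟩ : X) ∈ pCore p X := by
  classical
  by_contra hout
  haveI : Finite (MulAut V) := Finite.of_injective (fun e : MulAut V => (e : V → V)) DFunLike.coe_injective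
  let P := SemidirectProduct V X X.subtype
  haveI : Finite P := Finite.of_equiv _ (SemidirectProduct.equivProd (φ := X.subtype)).symm
  set W : Subgroup P := (SemidirectProduct.inl : V →* P).range with hW
  set H : Subgroup P := (SemidirectProduct.inr : X →* P).range with hH
  have hconj : ∀ (x : X) (v : V), (SemidirectProduct.inr x : P) * SemidirectProduct.inl v * (SemidirectProduct.inr x)⁻¹
      = SemidirectProduct.inl ((x : MulAut V) v) := fun x v => by
    rw [← map_inv, ← SemidirectProduct.inl_aut]; rfl
  haveI : W.Normal := by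
    rw [hW, SemidirectProduct.range_inl_eq_ker_rightHom]; exact MonoidHom.normal_ker _
  have hHn : H ≤ normalizer (W : Set P) := by rw [Subgroup.normalizer_eq_top]; exact le_top
  have hbot : (centralizer (W : Set P)).subgroupOf H = ⊥ := by
    rw [eq_bot_iff]
    rintro ⟨_, x, rfl⟩ hx
    refine Subgroup.mem_bot.mpr (Subtype.ext ?_)
    have h1 : x = 1 := Subtype.ext (MulEquiv.ext fun v => by
      have h2 := Subgroup.mem_centralizer_iff.mp (Subgroup.mem_subgroupOf.mp hx) (SemidirectProduct.inl v)
        ⟨v, rfl⟩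
      refine SemidirectProduct.inl_injective (φ := X.subtype) ?_
      rw [← hconj, ← h2, mul_inv_cancel_right]
      rfl)
    show (SemidirectProduct.inr x : P) = 1
    rw [h1, map_one]
  haveI : ((centralizer (W : Set P)).subgroupOf H).Normal := by rw [hbot]; infer_instance
  have hWp : IsPGroup p W := by
    rw [hW, MonoidHom.range_eq_map]
    exact (hV.to_subgroup ⊤).map _
  let e : X ≃* H := MonoidHom.ofInjective SemidirectProduct.inr_injective
  have hout' : (QuotientGroup.mk (⟨SemidirectProduct.inr ⟨a, ha⟩, ⟨⟨a, ha⟩, rfl⟩⟩ : H) :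
      H ⧸ (centralizer (W : Set P)).subgroupOf H) ∉ pCore p (H ⧸ (centralizer (W : Set P)).subgroupOf H) := by
    intro hin
    let ψ : X →* H ⧸ (centralizer (W : Set P)).subgroupOf H :=
      (QuotientGroup.mk' ((centralizer (W : Set P)).subgroupOf H)).comp e.toMonoidHom
    have hψ : Function.Bijective ψ :=
      ⟨fun x y hxy => e.injective (by
        have h1 := QuotientGroup.eq.mp hxy
        rw [hbot, Subgroup.mem_bot, inv_mul_eq_one] at h1
        exact h1),
        (QuotientGroup.mk'_surjective _).comp e.surjective⟩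
    let ψe := MulEquiv.ofBijective ψ hψ
    refine hout ?_
    obtain ⟨x, hx, hxe⟩ : (QuotientGroup.mk _ : H ⧸ (centralizer (W : Set P)).subgroupOf H) ∈
        (pCore p X).map ψe.toMonoidHom := by
      rw [CfsgLib.pCore_map_equiv p ψe]; exact hin
    rwa [show x = (⟨a, ha⟩ : X) from ψe.injective hxe] at hx
  obtain ⟨K, hKH, f, hf⟩ := CfsgLib.Quadratic.exists_sl2_section hp hWp hHn
    (a := SemidirectProduct.inr ⟨a, ha⟩) ⟨⟨a, ha⟩, rfl⟩ (by
    rintro _ ⟨v, rfl⟩
    rw [hconj, ← map_inv, ← map_mul, hconj]
    exact congrArg _ (hq v)) hout'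
  let g : K →* X := (SemidirectProduct.rightHom (φ := X.subtype)).comp K.subtype
  have hg : Function.Injective g := fun k k' h => by
    obtain ⟨x, hx⟩ := hKH k.2
    obtain ⟨y, hy⟩ := hKH k'.2
    refine Subtype.ext ?_
    have h' : x = y := by
      have h1 : SemidirectProduct.rightHom (k : P) = SemidirectProduct.rightHom (k' : P) := h
      rw [← hx, ← hy] at h1
      simpa using h1
    rw [← hx, ← hy, h']
  let e' := MonoidHom.ofInjective hg
  exact hno g.range (f.comp e'.symm.toMonoidHom) (hf.comp e'.symm.surjective)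

/-- In a group of odd order a quadratic element lies in `O_p`. -/
theorem mem_pCore_of_quad_odd (hp : p ≠ 2) (hV : IsPGroup p V) (X : Subgroup (MulAut V))
    (hodd : Odd (Nat.card X)) {a : MulAut V} (ha : a ∈ X) (hq : IsQuad a) : (⟨a, ha⟩ : X) ∈ pCore p X :=
  mem_pCore_of_quad hp hV X (fun K f hf => hodd.not_two_dvd_nat
    ((OddStable.two_dvd_card_sl2 hp).trans ((Subgroup.card_dvd_of_surjective f hf).trans
      (card_subgroup_dvd_card K)))) ha hq

end CfsgLib.RankTwoModel
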