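import Cfsg.Agent.Lib.OddLocal.PuigTheorem
import Cfsg.Agent.Lib.CoprimeSeries
import Cfsg.Agent.Lib.RankTwoModel.Quad

/-!
Puig's theorem from stability on abelian and on self-centralising normal subgroups of `O_p`.

Blueprint: `blueprint/RankTwo_P3.md`, section 4.
-/

set_option autoImplicit false

namespace CfsgLib.PuigStable

open Subgroup Cfsg CfsgLib.Puig
open scoped commutatorElement

universe u

variable {p : ℕ} [Fact p.Prime]

/-- The two properties of a group used by Puig's proof. -/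
structure Stable (p : ℕ) (G : Type u) [Group G] : Prop where
  cent : centralizer (pCore p G : Set G) ≤ pCore p G
  quad : RankTwoModel.Stab p G

variable {G : Type u} [Group G] [Finite G]

/-- The centraliser of a normal subgroup of `O_p` containing its centraliser there is a `p`-group. -/
theorem centralizer_isPGroup (h : Stable p G) {V : Subgroup G} [V.Normal]
    (hV : pCore p G ⊓ centralizer (V : Set G) ≤ V) (hVp : IsPGroup p V) :
    IsPGroup p (centralizer (V : Set G)) := by
  have hp := (Fact.out : p.Prime)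
  intro x
  obtain ⟨k, m, hm, hkm⟩ := Nat.exists_eq_pow_mul_and_not_dvd (orderOf_pos x).ne' p hp.one_lt.ne'
  refine ⟨k, ?_⟩
  set y := x ^ p ^ k with hy
  have hym : y ^ m = 1 := by rw [hy, ← pow_mul, ← hkm, pow_orderOf_eq_one]
  have hym' : (y : G) ^ m = 1 := congrArg Subtype.val hym
  have hcop : (orderOf (y : G)).Coprime p :=
    Nat.Coprime.coprime_dvd_left (orderOf_dvd_of_pow_eq_one hym') ((hp.coprime_iff_not_dvd.2 hm).symm)
  have hnT : ∀ g : G, g ∈ normalizer (pCore p G : Set G) := fun g => by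
    rw [Subgroup.normalizer_eq_top]; trivial
  have hcomm : ∀ r ∈ pCore p G, (y : G) * r = r * y :=
    CfsgLib.Stabilizer.thompson_axb (CfsgLib.isPGroup_pCore p) hVp (fun g _ => hnT g) hcop (hnT _)
      (fun v hv => (y.2 v hv).symm) fun r hr => (y.2 r (hV hr)).symm
  obtain ⟨j, hj⟩ := CfsgLib.isPGroup_pCore (G := G) p ⟨(y : G), h.cent fun r hr => (hcomm r hr).symm⟩
  have hj' : (y : G) ^ p ^ j = 1 := congrArg Subtype.val hj
  have h1 : orderOf (y : G) = 1 :=
    Nat.eq_one_of_dvd_coprimes (Nat.Coprime.pow_right j hcop) dvd_rfl (orderOf_dvd_of_pow_eq_one hj')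
  exact Subtype.ext (orderOf_eq_one_iff.1 h1)

/-- An abelian `p`-subgroup normalised by an odd term of the series of `O_p` lies in `O_p`. -/
theorem le_pCore_of_normalized (h : Stable p G) (n : ℕ)
    {A : Subgroup G} (hA : IsPGroup p A) (hAc : IsMulCommutative A)
    (hn : seqIn (pCore p G) (2 * n + 1) ≤ normalizer (A : Set G)) : A ≤ pCore p G := by
  set V := seqIn (pCore p G) (2 * n + 1) with hV
  haveI : V.Normal := Subgroup.normalizer_eq_top_iff.mp (top_le_iff.mp
    (le_trans (by rw [Subgroup.normalizer_eq_top]) (normalizer_le_seqIn (pCore p G) (2 * n + 1))))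
  have hVp : IsPGroup p V := (CfsgLib.isPGroup_pCore p).to_le (seqIn_le _ _)
  have hVc := inf_centralizer_seqIn_le (CfsgLib.isPGroup_pCore (G := G) p) (Nat.succ_pos (2 * n))
  have hCp := centralizer_isPGroup h (V := V) hVc hVp
  intro a ha
  obtain ⟨k, hk⟩ := hA ⟨a, ha⟩
  have h1 : ⁅V, zpowers a⁆ ≤ A := by
    refine (Subgroup.commutator_mono le_rfl (zpowers_le.mpr ha)).trans ?_
    rw [Subgroup.commutator_le]
    intro x hx y hy
    rw [commutatorElement_def]
    exact A.mul_mem ((Subgroup.mem_normalizer_iff.mp (hn hx) y).mp hy) (A.inv_mem hy)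
  have hq : ⁅⁅V, zpowers a⁆, zpowers a⁆ = ⊥ := by
    rw [eq_bot_iff, Subgroup.commutator_le]
    intro x hx y hy
    rw [Subgroup.mem_bot, commutatorElement_eq_one_iff_mul_comm]
    exact congrArg Subtype.val (hAc.is_comm.comm ⟨x, h1 hx⟩ ⟨y, zpowers_le.mpr ha hy⟩)
  have h2 := h.quad V hVp (Or.inr fun x hx => hVc ⟨CfsgLib.le_pCore hCp hx, hx⟩) a ⟨k, by simpa using congrArg Subtype.val hk⟩ hq
  exact CfsgLib.le_pCore (N := (pCore p (G ⧸ centralizer (V : Set G))).comap (QuotientGroup.mk' _))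
    ((CfsgLib.isPGroup_pCore (G := G ⧸ centralizer (V : Set G)) p).comap_of_ker_isPGroup _
      (by rw [QuotientGroup.ker_mk']; exact hCp)) h2

theorem low_up_comparison (h : Stable p G) (S : Sylow p G) :
    low (S : Subgroup G) ≤ low (pCore p G) ∧ up (pCore p G) ≤ up (S : Subgroup G) := by
  set T := pCore p G with hT
  have hTS : T ≤ (S : Subgroup G) := CfsgLib.pCore_le_sylow S
  have h1 : ∀ n, seqIn (S : Subgroup G) (2 * n) ≤ seqIn T (2 * n) ∧
      seqIn T (2 * n + 1) ≤ seqIn (S : Subgroup G) (2 * n + 1) := by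
    intro n
    induction n with
    | zero => exact ⟨by rw [seqIn_zero]; exact bot_le, by rw [seqIn_one, seqIn_one]; exact hTS⟩
    | succ n ih =>
      have he : seqIn (S : Subgroup G) (2 * n + 2) ≤ seqIn T (2 * n + 2) := by
        rw [seqIn_succ, seqIn_succ T]
        refine sSup_le fun A hA => le_stepIn ?_ hA.2.1 (ih.2.trans hA.2.2)
        exact le_pCore_of_normalized h n (S.2.to_le hA.1) hA.2.1 (ih.2.trans hA.2.2)
      refine ⟨he, ?_⟩
      show seqIn T (2 * n + 2 + 1) ≤ seqIn (S : Subgroup G) (2 * n + 2 + 1)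
      rw [seqIn_succ, seqIn_succ (S : Subgroup G)]
      exact sSup_le fun A hA => le_stepIn (hA.1.trans hTS) hA.2.1 (he.trans hA.2.2)
  obtain ⟨kS, hkS⟩ := stabilizes (S : Subgroup G)
  obtain ⟨kT, hkT⟩ := stabilizes T
  constructor
  · rw [← (hkS _ (le_max_left kS kT)).1, ← (hkT _ (le_max_right kS kT)).1]
    exact (h1 _).1
  · rw [← (hkS _ (le_max_left kS kT)).2, ← (hkT _ (le_max_right kS kT)).2]
    exact (h1 _).2

/-- Puig's theorem: the centre of `L(S)` is normal. -/
theorem center_up_normal (h : Stable p G) (S : Sylow p G) :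
    (up (S : Subgroup G) ⊓ centralizer (up (S : Subgroup G) : Set G)).Normal := by
  set T := pCore p G with hT
  have hTS : T ≤ (S : Subgroup G) := CfsgLib.pCore_le_sylow S
  obtain ⟨-, hup⟩ := low_up_comparison h S
  set Z := up (S : Subgroup G) ⊓ centralizer (up (S : Subgroup G) : Set G) with hZ
  haveI hUT : (up T).Normal := Subgroup.normalizer_eq_top_iff.mp (top_le_iff.mp
    (le_trans (by rw [Subgroup.normalizer_eq_top]) (normalizer_le_up T)))
  haveI : (centralizer (up T : Set G)).Normal := Subgroup.normal_centralizer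
  set Y := up T ⊓ centralizer (up T : Set G) with hY
  haveI hYn : Y.Normal := inferInstance
  have hYc : IsMulCommutative Y :=
    ⟨⟨fun a b => Subtype.ext ((Subgroup.mem_inf.mp b.2).2 _ (Subgroup.mem_inf.mp a.2).1)⟩⟩
  have hupT : up T ≤ T := Subgroup.map_subtype_le _
  have hYS : Y ≤ (S : Subgroup G) := (inf_le_left.trans hupT).trans hTS
  have hZY : Z ≤ Y := by
    intro z hz
    obtain ⟨-, hzC⟩ := Subgroup.mem_inf.mp hz
    have hzT : z ∈ centralizer (up T : Set G) := fun y hy => hzC y (hup hy)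
    have hCp := centralizer_isPGroup h (V := up T) (inf_centralizer_up_le (CfsgLib.isPGroup_pCore p))
      ((CfsgLib.isPGroup_pCore p).to_le hupT)
    have hzT' : z ∈ T := CfsgLib.le_pCore hCp hzT
    exact Subgroup.mem_inf.mpr
      ⟨inf_centralizer_up_le (CfsgLib.isPGroup_pCore p) (Subgroup.mem_inf.mpr ⟨hzT', hzT⟩), hzT⟩
  have hYlow : Y ≤ low (S : Subgroup G) := (le_seqIn hYc hYS (by omega : 0 < 2 * 1)).trans (seqIn_le_low _ 1)
  set C := centralizer (Y : Set G) with hC
  haveI : C.Normal := Subgroup.normal_centralizer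
  set π := QuotientGroup.mk' C with hπ
  have hπs : Function.Surjective π := QuotientGroup.mk'_surjective C
  set K := (pCore p (G ⧸ C)).comap π with hK
  haveI hKn : K.Normal := Subgroup.normal_comap π
  have hupK : up (S : Subgroup G) ≤ K := by
    rw [← stepIn_low]
    refine sSup_le fun A hA a ha => ?_
    obtain ⟨hAS, hAc, hAN⟩ := hA
    obtain ⟨k, hk⟩ := (S.2.to_le hAS) ⟨a, ha⟩
    have h1 : ⁅Y, zpowers a⁆ ≤ A := by
      refine (Subgroup.commutator_mono le_rfl (zpowers_le.mpr ha)).trans ?_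
      rw [Subgroup.commutator_le]
      intro x hx y hy
      rw [commutatorElement_def]
      exact A.mul_mem ((Subgroup.mem_normalizer_iff.mp (hAN (hYlow hx)) y).mp hy) (A.inv_mem hy)
    have hq : ⁅⁅Y, zpowers a⁆, zpowers a⁆ = ⊥ := by
      rw [eq_bot_iff, Subgroup.commutator_le]
      intro x hx y hy
      rw [Subgroup.mem_bot, commutatorElement_eq_one_iff_mul_comm]
      exact congrArg Subtype.val (hAc.is_comm.comm ⟨x, h1 hx⟩ ⟨y, zpowers_le.mpr ha hy⟩)
    exact h.quad Y (S.2.to_le hYS) (Or.inl hYc) a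
      ⟨k, by simpa using congrArg Subtype.val hk⟩ hq
  set R := (S : Subgroup G) ⊓ K with hR
  have hLR : up R = up (S : Subgroup G) :=
    up_eq_of_le inf_le_left (le_inf (Subgroup.map_subtype_le _) hupK)
  obtain ⟨P, hP⟩ : ∃ P : Sylow p K, (P : Subgroup K) = (S : Subgroup G).subgroupOf K := by
    obtain ⟨P, hle⟩ := (S.2.comap_subtype (K := K)).exists_le_sylow
    refine ⟨P, (Subgroup.eq_of_le_of_card_ge hle ?_).symm⟩
    obtain ⟨Q, hQ⟩ := P.exists_comap_subtype_eq
    obtain ⟨g, hg⟩ := MulAction.exists_smul_eq G S Q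
    have e1 : ((Q : Subgroup G) ⊓ K) = R.map (MulAut.conj g).toMonoidHom := by
      rw [← hg, hR, Subgroup.map_inf _ _ _ (MulAut.conj g).injective]
      congr 1
      refine le_antisymm (fun x hx => ?_) ?_
      · refine ⟨g⁻¹ * x * g, by simpa [mul_assoc] using hKn.conj_mem x hx g⁻¹, ?_⟩
        show g * (g⁻¹ * x * g) * g⁻¹ = x
        group
      · rintro _ ⟨x, hx, rfl⟩
        exact hKn.conj_mem x hx g
    rw [← hQ]
    show Nat.card ((Q : Subgroup G).subgroupOf K) ≤ Nat.card ((S : Subgroup G).subgroupOf K)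
    have hc : ∀ X : Subgroup G, Nat.card (X.subgroupOf K) = Nat.card ↥(X ⊓ K) := fun X => by
      rw [← Subgroup.subgroupOf_map_subtype, Subgroup.card_map_of_injective K.subtype_injective]
    rw [hc, hc, e1, Subgroup.card_map_of_injective (MulAut.conj g).injective]
  have hfr : normalizer (R : Set G) ⊔ K = ⊤ := by
    have h := Sylow.normalizer_sup_eq_top P
    rw [hP, Subgroup.subgroupOf_map_subtype] at h
    exact h
  have hKC : K ≤ C ⊔ R := by
    intro k hk
    have h1 : π k ∈ (S : Subgroup G).map π := (CfsgLib.pCore_le_sylow (S.mapSurjective hπs)) hk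
    obtain ⟨s, hs, hsk⟩ := h1
    have hsK : s ∈ K := show π s ∈ pCore p (G ⧸ C) by rw [hsk]; exact hk
    have hc : k * s⁻¹ ∈ C := (QuotientGroup.eq_one_iff _).mp (by
      show π (k * s⁻¹) = 1
      rw [map_mul, map_inv, hsk, mul_inv_cancel])
    have := Subgroup.mul_mem_sup hc (Subgroup.mem_inf.mpr ⟨hs, hsK⟩ : s ∈ R)
    rwa [inv_mul_cancel_right] at this
  rw [← Subgroup.normalizer_eq_top_iff, ← top_le_iff, ← hfr]
  have hNR : normalizer (R : Set G) ≤ normalizer (Z : Set G) := by
    intro g hg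
    have hgL : g ∈ normalizer (up (S : Subgroup G) : Set G) := hLR ▸ normalizer_le_up R hg
    have key : ∀ g ∈ normalizer (up (S : Subgroup G) : Set G), ∀ a ∈ Z, g * a * g⁻¹ ∈ Z := by
      intro g hg a ha
      obtain ⟨ha1, ha2⟩ := Subgroup.mem_inf.mp ha
      refine Subgroup.mem_inf.mpr ⟨(Subgroup.mem_normalizer_iff.mp hg a).mp ha1, fun y hy => ?_⟩
      have h1 : g⁻¹ * y * g * a = a * (g⁻¹ * y * g) :=
        ha2 _ ((Subgroup.mem_normalizer_iff.mp hg _).mpr (by simpa [mul_assoc] using hy))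
      calc y * (g * a * g⁻¹) = g * (g⁻¹ * y * g * a) * g⁻¹ := by group
        _ = g * a * g⁻¹ * y := by rw [h1]; group
    rw [Subgroup.mem_normalizer_iff]
    refine fun a => ⟨key g hgL a, fun ha => ?_⟩
    simpa [mul_assoc] using key g⁻¹ (inv_mem hgL) _ ha
  refine sup_le hNR (hKC.trans (sup_le ?_ (Subgroup.le_normalizer.trans hNR)))
  intro c hc
  rw [Subgroup.mem_normalizer_iff]
  intro a
  constructor <;> intro ha
  · have h1 : a * c = c * a := hc a (hZY ha)
    rwa [← h1, mul_inv_cancel_right]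
  · have h1 := hc _ (hZY ha)
    have h2 : a = c * a * c⁻¹ := by
      have := congrArg (fun w => c⁻¹ * w) h1
      simpa [mul_assoc] using this
    rwa [h2]

end CfsgLib.PuigStable

namespace CfsgLib.RankTwoModel

open Subgroup Cfsg CfsgLib.Puig

universe u

/-- **Puig's theorem from stability.** -/
theorem center_up_normal_of_stable {M : Type u} [Group M] [Finite M] {p : ℕ} [Fact p.Prime]
    (hC : centralizer (pCore p M : Set M) ≤ pCore p M) (hst : Stab p M) (S : Sylow p M) :
    (up (S : Subgroup M) ⊓ centralizer (up (S : Subgroup M) : Set M)).Normal :=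
  CfsgLib.PuigStable.center_up_normal ⟨hC, hst⟩ S

end CfsgLib.RankTwoModel
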