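import Cfsg.Agent.Lib.RankTwoModel.Basic
import Cfsg.Agent.Lib.RankTwoModel.Puig
import Cfsg.Agent.Lib.RankTwoModel.Cover
import Cfsg.Agent.Lib.BG.Coprime

/-!
Maximal subgroups over the centraliser of the involution are normalisers of `Z(L(P))`, and unique.

* `seqIn_map`, `up_map`: the Puig subgroups are natural for injective maps;
* `Central p M`: `M = N(Z(L(P)))` for a Sylow `p`-subgroup `P` of `G` in `M`;
* `central_of_stable`: a `Bad` subgroup with `F(M)` a `p`-group and stability is `Central`;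
* `unique_over`: such a subgroup is unique.

Blueprint: `blueprint/RankTwo_P3.md`, section 4.
-/

set_option autoImplicit false
set_option linter.unusedSectionVars false
set_option linter.style.haveILetI false

namespace CfsgLib.RankTwoModel

open Subgroup Cfsg CfsgLib.GW CfsgLib.Puig CfsgLib.BenderMax
open scoped Pointwise

universe u

section Map

variable {G H : Type u} [Group G] [Group H]

theorem stepIn_map (f : G →* H) (hf : Function.Injective f) (S X : Subgroup G) :
    stepIn (S.map f) (X.map f) = (stepIn S X).map f := by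
  refine le_antisymm (sSup_le ?_) (Subgroup.map_le_iff_le_comap.mpr (sSup_le ?_))
  · rintro A ⟨hAS, hAc, hXA⟩
    have hA : (A.comap f).map f = A :=
      Subgroup.map_comap_eq_self (hAS.trans (Subgroup.map_le_range f S))
    rw [← hA]
    refine Subgroup.map_mono (le_stepIn ?_ ?_ ?_)
    · intro a ha
      obtain ⟨b, hb, hba⟩ := hAS (show f a ∈ A from ha)
      rwa [← hf hba]
    · exact ⟨⟨fun a b => Subtype.ext (hf (by
        rw [Subgroup.coe_mul, Subgroup.coe_mul, map_mul, map_mul]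
        exact congrArg Subtype.val (hAc.is_comm.comm (⟨f a, a.2⟩ : A) ⟨f b, b.2⟩)))⟩⟩
    · intro x hx
      have h1 := Subgroup.mem_normalizer_iff.mp (hXA ⟨x, hx, rfl⟩)
      rw [Subgroup.mem_normalizer_iff]
      intro a
      rw [Subgroup.mem_comap, Subgroup.mem_comap, map_mul, map_mul, map_inv]
      exact h1 (f a)
  · rintro A ⟨hAS, hAc, hXA⟩
    rw [← Subgroup.map_le_iff_le_comap]
    exact le_stepIn (Subgroup.map_mono hAS) inferInstance
      ((Subgroup.map_mono hXA).trans (Subgroup.le_normalizer_map f))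

theorem seqIn_map (f : G →* H) (hf : Function.Injective f) (S : Subgroup G) (n : ℕ) :
    seqIn (S.map f) n = (seqIn S n).map f := by
  induction n with
  | zero => rw [seqIn_zero, seqIn_zero, Subgroup.map_bot]
  | succ n ih => rw [seqIn_succ, seqIn_succ, ih, stepIn_map f hf]

variable [Finite G] [Finite H]

theorem up_map (f : G →* H) (hf : Function.Injective f) (S : Subgroup G) : up (S.map f) = (up S).map f := by
  obtain ⟨k, hk⟩ := stabilizes (S.map f)
  obtain ⟨k', hk'⟩ := stabilizes S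
  rw [← (hk (max k k') (le_max_left _ _)).2, ← (hk' (max k k') (le_max_right _ _)).2, seqIn_map f hf]

theorem center_up_map (f : G →* H) (hf : Function.Injective f) (S : Subgroup G) :
    up (S.map f) ⊓ centralizer (up (S.map f) : Set H) = (up S ⊓ centralizer (up S : Set G)).map f := by
  rw [up_map f hf]
  ext x
  constructor
  · rintro ⟨⟨y, hy, rfl⟩, hc⟩
    refine ⟨y, ⟨hy, fun a ha => hf ?_⟩, rfl⟩
    rw [map_mul, map_mul]
    exact hc (f a) ⟨a, ha, rfl⟩
  · rintro ⟨y, ⟨hy, hc⟩, rfl⟩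
    refine ⟨⟨y, hy, rfl⟩, ?_⟩
    rintro _ ⟨a, ha, rfl⟩
    show f a * f y = f y * f a
    rw [← map_mul, ← map_mul, hc a ha]

end Map

variable {G : Type u} [Group G] [Finite G]

/-- `M = N(Z(L(P)))` for a Sylow `p`-subgroup `P` of `G` in `M`. -/
def Central (p : ℕ) (M : Subgroup G) : Prop :=
  ∃ P : Sylow p G, (P : Subgroup G) ≤ M ∧
    M = normalizer ((up (P : Subgroup G) ⊓ centralizer (up (P : Subgroup G) : Set G) : Subgroup G) : Set G)

theorem FF_eq_OO {p : ℕ} (hp : p.Prime) {M : Subgroup G} (hF : IsPGroup p (FF M)) : FF M = OO p M := by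
  refine le_antisymm (Subgroup.map_mono ?_) (BG.OO_le_FF hp M)
  refine CfsgLib.le_pCore fun x => ?_
  obtain ⟨k, hk⟩ := hF ⟨((x : M) : G), ⟨x, x.2, rfl⟩⟩
  exact ⟨k, Subtype.ext (Subtype.ext (by simpa using congrArg Subtype.val hk))⟩

theorem mem_normalizer_center_up {P : Subgroup G} {x : G} (hx : x ∈ normalizer (P : Set G)) :
    x ∈ normalizer ((up P ⊓ centralizer (up P : Set G) : Subgroup G) : Set G) := by
  have hxup : x ∈ normalizer (up P : Set G) := normalizer_le_up P hx
  refine Subgroup.mem_normalizer_fintype fun a ha => ?_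
  refine ⟨(Subgroup.mem_normalizer_iff.mp hxup a).mp ha.1, fun y hy => ?_⟩
  have h1 : x⁻¹ * y * x * a = a * (x⁻¹ * y * x) :=
    ha.2 _ ((Subgroup.mem_normalizer_iff.mp hxup _).mpr (by simpa [mul_assoc] using hy))
  calc y * (x * a * x⁻¹) = x * (x⁻¹ * y * x * a) * x⁻¹ := by group
    _ = x * a * x⁻¹ * y := by rw [h1]; group

theorem center_up_ne_bot {p : ℕ} [Fact p.Prime] {P : Subgroup G} (hP : IsPGroup p P) (hne : P ≠ ⊥) :
    up P ⊓ centralizer (up P : Set G) ≠ ⊥ := by
  intro e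
  haveI : Nontrivial P := (Subgroup.nontrivial_iff_ne_bot _).mpr hne
  haveI := hP.center_nontrivial
  obtain ⟨⟨c, hc⟩, hc1⟩ := exists_ne (1 : Subgroup.center P)
  have hcup : (c : G) ∈ up P := by
    obtain ⟨k, hk⟩ := stabilizes P
    rw [← (hk k le_rfl).2, seqIn_succ]
    refine le_stepIn (A := Subgroup.zpowers (c : G)) (Subgroup.zpowers_le.mpr c.2) inferInstance ?_
      (Subgroup.mem_zpowers _)
    intro x hx
    refine Subgroup.mem_normalizer_fintype fun a ha => ?_
    obtain ⟨i, rfl⟩ := Subgroup.mem_zpowers_iff.mp ha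
    have hcx : Commute (⟨x, seqIn_le _ _ hx⟩ : P) c := Subgroup.mem_center_iff.mp hc _
    have hcx' : Commute x (c : G) := congrArg Subtype.val hcx.eq
    rw [(hcx'.zpow_right i).eq, mul_inv_cancel_right]
    exact Subgroup.zpow_mem_zpowers _ i
  have hcm : (c : G) ∈ up P ⊓ centralizer (up P : Set G) :=
    ⟨hcup, fun y hy => congrArg Subtype.val (Subgroup.mem_center_iff.mp hc ⟨y, Subgroup.map_subtype_le _ hy⟩)⟩
  rw [e, Subgroup.mem_bot] at hcm
  exact hc1 (Subtype.ext (Subtype.ext hcm))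

/-- A subgroup with self-centralising `O_p` and stability: its `Z(L(P))` is normal, and if it is maximal in a simple
group, `P` is a Sylow subgroup of the group. -/
theorem central_of_coatom [IsSimpleGroup G] {p : ℕ} [Fact p.Prime] {M : Subgroup G} (hco : IsCoatom M)
    (hpb : pCore p M ≠ ⊥) (hcent : centralizer (pCore p M : Set M) ≤ pCore p M) (hst : Stab p M) :
    Central p M := by
  classical
  obtain ⟨S⟩ : Nonempty (Sylow p M) := inferInstance
  haveI hZn := center_up_normal_of_stable hcent hst S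
  set P₀ : Subgroup G := (S : Subgroup M).map M.subtype with hP₀
  set Z : Subgroup G := up P₀ ⊓ centralizer (up P₀ : Set G) with hZ
  have hZM : Z = (up (S : Subgroup M) ⊓ centralizer (up (S : Subgroup M) : Set M)).map M.subtype :=
    center_up_map M.subtype M.subtype_injective (S : Subgroup M)
  have hZle : Z ≤ P₀ := inf_le_left.trans (Subgroup.map_subtype_le _)
  have hP₀p : IsPGroup p P₀ := S.2.map _
  have hP₀M : P₀ ≤ M := Subgroup.map_subtype_le _
  have hMN : M ≤ normalizer (Z : Set G) := fun m hm => Subgroup.mem_normalizer_fintype fun z hz => by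
    rw [hZM] at hz ⊢
    obtain ⟨z, hz', rfl⟩ := hz
    exact ⟨⟨m, hm⟩ * z * ⟨m, hm⟩⁻¹, hZn.conj_mem _ hz' _, rfl⟩
  have hSne : (S : Subgroup M) ≠ ⊥ := fun e => hpb (le_bot_iff.mp (e ▸ CfsgLib.pCore_le_sylow S))
  have hZne : Z ≠ ⊥ := center_up_ne_bot hP₀p (by
    rwa [hP₀, Ne, Subgroup.map_eq_bot_iff_of_injective _ M.subtype_injective])
  have hNtop : normalizer (Z : Set G) ≠ ⊤ := fun e => by
    haveI : Z.Normal := Subgroup.normalizer_eq_top_iff.1 e
    rcases IsSimpleGroup.eq_bot_or_eq_top_of_normal Z inferInstance with hb | ht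
    · exact hZne hb
    · exact hco.1 (top_le_iff.mp (ht ▸ hZle.trans hP₀M))
  have hMeq : M = normalizer (Z : Set G) := by
    by_contra hne
    exact hNtop (hco.2 _ (lt_of_le_of_ne hMN hne))
  -- a Sylow subgroup of `M` is one of `G`
  obtain ⟨P, hP⟩ := hP₀p.exists_le_sylow
  have hPP : (P : Subgroup G) = P₀ := by
    by_contra hne
    haveI : Group.IsNilpotent (P : Subgroup G) := P.2.isNilpotent
    have hlt : P₀.subgroupOf (P : Subgroup G) < ⊤ := by
      rw [lt_top_iff_ne_top, Ne, Subgroup.subgroupOf_eq_top]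
      exact fun hle => hne (le_antisymm hle hP)
    obtain ⟨⟨x, hxP⟩, hxN, hxnot⟩ := SetLike.exists_of_lt (Group.normalizerCondition_of_isNilpotent _ hlt)
    rw [Subgroup.mem_subgroupOf] at hxnot
    have hxn : x ∈ normalizer (P₀ : Set G) := Subgroup.mem_normalizer_fintype fun a ha =>
      Subgroup.mem_subgroupOf.mp
        ((Subgroup.mem_normalizer_iff.mp hxN ⟨a, hP ha⟩).mp (Subgroup.mem_subgroupOf.mpr ha))
    have hxZ : x ∈ M := hMeq.ge (mem_normalizer_center_up hxn)
    have hPM : IsPGroup p ((P : Subgroup G).subgroupOf M) := P.2.comap_subtype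
    have hSle : (S : Subgroup M) ≤ (P : Subgroup G).subgroupOf M := fun s hs => hP ⟨s, hs, rfl⟩
    have hxS : (⟨x, hxZ⟩ : M) ∈ (S : Subgroup M) := (S.3 hPM hSle).le hxP
    exact hxnot ⟨_, hxS, rfl⟩
  exact ⟨P, hPP ▸ hP₀M, by rw [hPP]; exact hMeq⟩

theorem self_cent_pCore {p : ℕ} [Fact p.Prime] {M : Subgroup G} (hE : EE M = ⊥) (hF : IsPGroup p (FF M)) :
    centralizer (pCore p M : Set M) ≤ pCore p M := by
  have hOO := FF_eq_OO Fact.out hF
  intro x hx
  have hxF : (x : G) ∈ FF M := BG.self_cent hE x.2 fun y hy => by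
    rw [hOO] at hy
    obtain ⟨y', hy', rfl⟩ := hy
    exact (congrArg Subtype.val (hx y' hy')).symm
  rw [hOO] at hxF
  obtain ⟨x', hx', he⟩ := hxF
  rwa [← Subtype.ext he]

/-- **A `Bad` subgroup with `F(M)` a `p`-group and stability is the normaliser of `Z(L(P))`.** -/
theorem central_of_stable (h : Hyp G) {d : Frame G} (hd : d.Spec) (hq : 3 < d.q) {p : ℕ} [Fact p.Prime]
    {M : Subgroup G} (hM : BG.Bad d.z M) (hF : IsPGroup p (FF M)) (hst : Stab p M) : Central p M := by
  haveI : IsSimpleGroup G := h.simple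
  refine central_of_coatom hM.coatom (fun e => hM.moved ?_) (self_cent_pCore hM.layer hF) hst
  rw [FF_eq_OO Fact.out hF, OO, e, Subgroup.map_bot]
  exact bot_le

/-- **The maximal subgroup over the centraliser is unique.** -/
theorem unique_over (h : Hyp G) {d : Frame G} (hd : d.Spec) (hq : 3 < d.q)
    (hiso : ∀ N : Subgroup G, N ≠ ⊤ → d.C ≤ N → ∀ g ∈ N, Commute (g * d.z * g⁻¹) d.z → g * d.z * g⁻¹ = d.z)
    {M M₂ : Subgroup G} (hM : BG.Bad d.z M) (hM₂ : BG.Bad d.z M₂) {p r : ℕ} (hp : p.Prime) (hr : r.Prime)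
    (hFp : IsPGroup p (FF M)) (hFr : IsPGroup r (FF M₂)) (hC₁ : Central p M) (hC₂ : Central r M₂) : M₂ = M := by
  classical
  haveI := Fact.mk hp
  haveI := Fact.mk hr
  haveI : Fact (Nat.Prime 2) := ⟨Nat.prime_two⟩
  have hz : orderOf d.z = 2 := hM.invol
  have hCM : d.C ≤ M := hM.cent
  have hzz : d.z * d.z = 1 := BG.invol_mul_self hz
  by_cases hpr : p = r
  · -- conjugate, hence equal as `z` is isolated
    subst hpr
    obtain ⟨P, -, hPe⟩ := hC₁
    obtain ⟨P₂, -, hP₂e⟩ := hC₂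
    obtain ⟨g, hg⟩ := MulAction.exists_smul_eq G P P₂
    have hP₂ : (P₂ : Subgroup G) = (P : Subgroup G).map (MulAut.conj g).toMonoidHom := by
      rw [← hg, Sylow.coe_subgroup_smul]; rfl
    have hM₂cj : M₂ = BG.cj g M := by
      rw [hP₂e, hPe, hP₂, center_up_map _ (MulAut.conj g).injective, BG.cj]
      exact (Subgroup.map_equiv_normalizer_eq _ (MulAut.conj g)).symm
    set z₁ := g⁻¹ * d.z * g with hz₁
    have hz₁M : z₁ ∈ M := BG.mem_cj.mp (hM₂cj ▸ hM₂.mem)
    have hz₁o : orderOf z₁ = 2 := by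
      have h1 := orderOf_cj g⁻¹ d.z
      rw [inv_inv] at h1
      exact h1.trans hz
    have hz₁C : ∀ x, x * z₁ = z₁ * x → x ∈ M := fun x hx => by
      have h1 : g * x * g⁻¹ ∈ M₂ := hM₂.cent (Subgroup.mem_centralizer_singleton_iff.mpr (by
        calc g * x * g⁻¹ * d.z = g * (x * z₁) * g⁻¹ := by rw [hz₁]; group
          _ = d.z * (g * x * g⁻¹) := by rw [hx, hz₁]; group))
      rw [hM₂cj, BG.mem_cj] at h1
      simpa [mul_assoc] using h1
    -- move `z₁` into a Sylow 2-subgroup centralised by `z`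
    have hSM : (d.S : Subgroup G) ≤ M := fun s hs =>
      hCM (Subgroup.mem_centralizer_singleton_iff.mpr (hd.zc s hs))
    obtain ⟨m, hm⟩ := CfsgLib.DihedralFusion.exists_conj_le (S := d.S.subtype hSM)
      (T := Subgroup.zpowers (⟨z₁, hz₁M⟩ : M))
      (IsPGroup.of_card (n := 1) (by rw [Nat.card_zpowers, Subgroup.orderOf_mk, hz₁o, pow_one]))
    set v := (m : G) * z₁ * (m : G)⁻¹ with hv
    have hvS : v ∈ (d.S : Subgroup G) := by
      have := hm ⟨⟨z₁, hz₁M⟩, Subgroup.mem_zpowers _, rfl⟩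
      rw [Sylow.coe_subtype, Subgroup.mem_subgroupOf] at this
      exact this
    have hvo : orderOf v = 2 := (orderOf_cj _ _).trans hz₁o
    have hvz : v * d.z = d.z * v := hd.zc v hvS
    have hvM : ∀ x, x * v = v * x → x ∈ M := fun x hx => by
      have h1 := hz₁C ((m : G)⁻¹ * x * m) (by
        calc (m : G)⁻¹ * x * m * z₁ = (m : G)⁻¹ * (x * v) * m := by rw [hv]; group
          _ = z₁ * ((m : G)⁻¹ * x * m) := by rw [hx, hv]; group)
      simpa [mul_assoc] using mul_mem (mul_mem m.2 h1) (inv_mem m.2)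
    have hvzeq : v = d.z := by
      by_contra hne
      obtain ⟨s, hs, hsz⟩ := h.swap hvo hz hvz (fun e => hne e.symm)
      have hsM : s ∈ M := hvM s (Subgroup.mem_centralizer_singleton_iff.mp hs)
      have e := hiso M hM.coatom.1 hCM s hsM (by
        rw [hsz]
        show v * d.z * d.z = d.z * (v * d.z)
        rw [← mul_assoc d.z, ← hvz])
      rw [hsz, mul_eq_right] at e
      rw [e, orderOf_one] at hvo
      exact absurd hvo (by norm_num)
    have hgM : g ∈ M := by
      have hc : (m : G) * g⁻¹ ∈ d.C := Subgroup.mem_centralizer_singleton_iff.mpr (by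
        calc (m : G) * g⁻¹ * d.z = v * ((m : G) * g⁻¹) := by rw [hv, hz₁]; group
          _ = d.z * ((m : G) * g⁻¹) := by rw [hvzeq])
      simpa [mul_assoc] using inv_mem (mul_mem (inv_mem m.2) (hCM hc))
    rw [hM₂cj, BG.cj_eq_self hgM]
  · -- two primes: impossible
    exfalso
    have hr2 : r ≠ 2 := by
      rintro rfl
      exact hM₂.moved (by rw [FF_eq_OO hr hFr, hM₂.two]; exact bot_le)
    obtain ⟨u, -, hu, huz, huzc, -⟩ := hd.exists_u
    set a := d.z * u with ha
    have huC : u ∈ d.C := Subgroup.mem_centralizer_singleton_iff.mpr huzc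
    have hao : orderOf a = 2 := BG.orderOf_mul_invol hz hu huzc.symm huz
    have haC : a ∈ d.C := mul_mem (Subgroup.mem_centralizer_singleton_iff.mpr rfl) huC
    have hau : a ≠ d.z := fun e' => by
      rw [ha, mul_eq_left] at e'
      rw [e', orderOf_one] at hu
      exact absurd hu (by norm_num)
    -- an involution `v` of the four group whose fixed points on `F(M₂)` are moved by `z`
    obtain ⟨v, hvo, hvC, hvne, f, hf, hfv, hfz⟩ : ∃ v, orderOf v = 2 ∧ v ∈ d.C ∧ v ≠ d.z ∧
        ∃ f ∈ FF M₂, v * f = f * v ∧ d.z * f ≠ f * d.z := by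
      by_contra hcon
      push Not at hcon
      refine hM₂.moved fun f hf => ?_
      by_contra hfC
      obtain ⟨e, he, hep, heinv⟩ := BG.exists_inverted hM₂.odd hz (BG.mem_normalizer_FF hM₂.mem) hf
        (fun hc => hfC (Subgroup.mem_centralizer_singleton_iff.mpr hc.symm))
      have h1 := BG.inverted_of_centralizer_le hM₂.odd hz hu huzc.symm (BG.mem_normalizer_FF hM₂.mem)
        (BG.mem_normalizer_FF (hM₂.cent huC)) (fun y hy hyu => hcon u hu huC huz y hy hyu) he heinv
      have h2 := hcon a hao haC hau e he h1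
      rw [h2, mul_inv_cancel_right] at heinv
      have he1 : e = 1 := BG.eq_one_of_sq hM₂.odd he (mul_eq_one_iff_eq_inv.mpr heinv)
      exact hep.ne_one (orderOf_eq_one_iff.mpr he1)
    -- the inverted element
    set e₀ := f⁻¹ * (d.z * f * d.z⁻¹) with he₀
    have he₀F : e₀ ∈ FF M₂ :=
      mul_mem (inv_mem hf) (BG.mem_normalizer_of_mem (BG.mem_normalizer_FF hM₂.mem) hf)
    have hvz : v * d.z = d.z * v := Subgroup.mem_centralizer_singleton_iff.mp hvC
    have he₀v : v * e₀ = e₀ * v := by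
      have c1 : Commute v f := hfv
      have c2 : Commute v d.z := hvz
      exact (c1.inv_right.mul_right ((c2.mul_right c1).mul_right c2.inv_right)).eq
    have he₀z : d.z * e₀ * d.z⁻¹ = e₀⁻¹ := by
      rw [he₀, show d.z * (f⁻¹ * (d.z * f * d.z⁻¹)) * d.z⁻¹
        = (d.z * f * d.z⁻¹)⁻¹ * ((d.z * d.z) * f * (d.z * d.z)⁻¹) by group, hzz]
      group
    have he₀1 : e₀ ≠ 1 := fun e => hfz (by
      rw [he₀, inv_mul_eq_one] at e
      exact (mul_inv_eq_iff_eq_mul.mp e.symm))
    -- conjugate `(z, v)` to `(v, z)`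
    have hzvo : orderOf (d.z * v) = 2 := BG.orderOf_mul_invol hz hvo hvz.symm hvne
    have hzvne : d.z * v ≠ d.z := fun e => by
      rw [mul_eq_left] at e
      rw [e, orderOf_one] at hvo
      exact absurd hvo (by norm_num)
    obtain ⟨s, hs, hsz⟩ := h.swap hzvo hz (by rw [mul_assoc, hvz]) hzvne.symm
    have hsz' : s * d.z * s⁻¹ = v := by
      rw [hsz, mul_assoc, hvz, ← mul_assoc, hzz, one_mul]
    have hsv : s * v * s⁻¹ = d.z := by
      have hszv : s * (d.z * v) * s⁻¹ = d.z * v :=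
        mul_inv_eq_iff_eq_mul.mpr (Subgroup.mem_centralizer_singleton_iff.mp hs)
      calc s * v * s⁻¹ = (s * d.z * s⁻¹)⁻¹ * (s * (d.z * v) * s⁻¹) := by group
        _ = v⁻¹ * (v * d.z) := by rw [hsz', hszv, hvz]
        _ = d.z := by group
    set e := s * e₀ * s⁻¹ with he
    have heC : e ∈ d.C := by
      refine Subgroup.mem_centralizer_singleton_iff.mpr ?_
      have := (Commute.conj_iff s).2 (show Commute v e₀ from he₀v)
      rw [hsv] at this
      exact this.eq.symm
    have heinv : v * e * v⁻¹ = e⁻¹ := by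
      rw [he, ← hsz', show s * d.z * s⁻¹ * (s * e₀ * s⁻¹) * (s * d.z * s⁻¹)⁻¹ = s * (d.z * e₀ * d.z⁻¹) * s⁻¹ by group,
        he₀z]
      group
    obtain ⟨k, hk⟩ := hFr ⟨e₀, he₀F⟩
    have hek : e ^ r ^ k = 1 := by
      rw [he, conj_pow, show e₀ ^ r ^ k = 1 from congrArg Subtype.val hk, mul_one, mul_inv_cancel]
    have hcop : ∀ j n, (r ^ j).Coprime (p ^ n) := fun j n =>
      Nat.Coprime.pow j n ((Nat.coprime_primes hr hp).mpr (fun e => hpr e.symm))
    obtain ⟨n, hn⟩ := hFp.exists_card_eq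
    have heF : e ∈ FF M := by
      refine BG.self_cent hM.layer (hCM heC) (BG.centralizes_of_inverted hFp.isNilpotent hM.odd hvo
        (BG.mem_normalizer_FF (hCM heC)) (BG.mem_normalizer_FF (hCM hvC)) heinv
        ((hr.odd_of_ne_two hr2).pow.of_dvd_nat (orderOf_dvd_of_pow_eq_one hek))
        ((hn ▸ hcop k n).coprime_dvd_left (orderOf_dvd_of_pow_eq_one hek)) fun w hw hwv => ?_)
      -- the commutator lies in both Fitting subgroups
      have hwM₂ : s⁻¹ * w * s ∈ M₂ := hM₂.cent (Subgroup.mem_centralizer_singleton_iff.mpr (by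
        calc s⁻¹ * w * s * d.z = s⁻¹ * (w * (s * d.z * s⁻¹)) * s := by group
          _ = s⁻¹ * ((s * d.z * s⁻¹) * w) * s := by rw [hsz', hwv]
          _ = d.z * (s⁻¹ * w * s) := by group))
      set c := e * w * e⁻¹ * w⁻¹ with hc
      have hcF : c ∈ FF M :=
        mul_mem (BG.mem_normalizer_of_mem (BG.mem_normalizer_FF (hCM heC)) hw) (inv_mem hw)
      have hc' : s⁻¹ * c * s ∈ FF M₂ := by
        rw [hc, he, show s⁻¹ * (s * e₀ * s⁻¹ * w * (s * e₀ * s⁻¹)⁻¹ * w⁻¹) * s
          = e₀ * ((s⁻¹ * w * s) * e₀⁻¹ * (s⁻¹ * w * s)⁻¹) by group]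
        exact mul_mem he₀F (BG.mem_normalizer_of_mem (BG.mem_normalizer_FF hwM₂) (inv_mem he₀F))
      obtain ⟨i, hi⟩ := hFp ⟨c, hcF⟩
      obtain ⟨j, hj⟩ := hFr ⟨_, hc'⟩
      have hj' : c ^ r ^ j = 1 := by
        have h0 : (s⁻¹ * c * s) ^ r ^ j = 1 := congrArg Subtype.val hj
        rw [show c = s * (s⁻¹ * c * s) * s⁻¹ by group, conj_pow, h0, mul_one, mul_inv_cancel]
      have hc1 := pow_gcd_eq_one.mpr ⟨hj', (congrArg Subtype.val hi : c ^ p ^ i = 1)⟩
      rw [(hcop j i).gcd_eq_one, pow_one, hc, mul_inv_eq_one, mul_inv_eq_iff_eq_mul] at hc1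
      exact hc1
    obtain ⟨i, hi⟩ := hFp ⟨e, heF⟩
    have he1 := pow_gcd_eq_one.mpr ⟨hek, (congrArg Subtype.val hi : e ^ p ^ i = 1)⟩
    rw [(hcop k i).gcd_eq_one, pow_one, he, conj_eq_one_iff] at he1
    exact he₀1 he1

end CfsgLib.RankTwoModel
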