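import Cfsg.Agent.Lib.GW.Model.NoField
import Cfsg.Agent.Lib.GW.Model.Pgl
import Cfsg.Agent.Lib.SL2Char.Tori
import Cfsg.Agent.Lib.StSL.Two
import Cfsg.Agent.Lib.TwoCompFour.Basic

/-!
Automorphisms of `SL₂(q)` as semilinear conjugations.

* `exists_semi`: `φ A = g (e A) g⁻¹`;
* `exists_prime`: a prime for which an automorphism with field part of odd prime order fixes no element;
* `field_quaternion`: an involution with field part fixes a quaternion subgroup;
* `exists_torus`: the centraliser of a trace zero matrix is a torus.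

Blueprint: `blueprint/RankTwo_P3.md`.
-/

set_option autoImplicit false
set_option linter.unusedSectionVars false
set_option linter.style.haveILetI false

namespace CfsgLib.RankTwoModel.SL2

open Matrix CfsgLib.PSL2 CfsgLib.GW.Model
open scoped MatrixGroups

variable {F : Type} [Field F] [Fintype F]

local notation "M2" => Matrix (Fin 2) (Fin 2) F
local notation "SL" => Matrix.SpecialLinearGroup (Fin 2) F
local notation "PSL" => Matrix.ProjectiveSpecialLinearGroup (Fin 2) F

/-- `φ` is conjugation by `g` after the field automorphism `e`. -/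
def Semi (φ : MulAut SL) (g : GL (Fin 2) F) (e : F ≃+* F) : Prop :=
  ∀ A : SL, (φ A).1 = g.1 * A.1.map e * (g⁻¹).1

theorem mk_center {A : SL} : (mk A : PSL) = 1 ↔ A ∈ Subgroup.center SL := QuotientGroup.eq_one_iff A

/-- Automorphisms agreeing modulo the centre agree. -/
theorem eq_of_mk (h3 : 3 < Fintype.card F) {φ φ' : MulAut SL} (h : ∀ A, (mk (φ A) : PSL) = mk (φ' A)) :
    φ = φ' := by
  haveI : Group.IsPerfect SL := ⟨CfsgLib.StSL.perfect_SL2 h3⟩
  refine MulEquiv.ext fun A => ?_
  have h' := CfsgLib.TwoCompFour.hom_eq_id_of_central (φ.symm.toMonoidHom.comp φ'.toMonoidHom) (fun X => ?_) A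
  · have := congrArg φ h'
    simpa using this.symm
  · have h1 : φ' X * (φ X)⁻¹ ∈ Subgroup.center SL := by
      rw [← mk_center, map_mul, map_inv, h, mul_inv_cancel]
    have h2 : ∀ c ∈ Subgroup.center SL, φ.symm c ∈ Subgroup.center SL := fun c hc =>
      Subgroup.mem_center_iff.mpr fun y => φ.injective (by
        simpa using Subgroup.mem_center_iff.mp hc (φ y))
    have := h2 _ h1
    simpa using this

/-- Conjugation by `GL₂` after a field automorphism. -/
noncomputable def semiAut (g : GL (Fin 2) F) (e : F ≃+* F) : MulAut SL :=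
  MulEquiv.ofBijective
    (MonoidHom.mk' (fun A : SL => conjSL g (SpecialLinearGroup.map e.toRingHom A)) fun A B => by
      rw [map_mul]; exact map_mul _ _ _)
    (Finite.injective_iff_bijective.mp fun A B h => by
      have h' : g.1 * A.1.map e * (g⁻¹).1 = g.1 * B.1.map e * (g⁻¹).1 := congrArg Subtype.val h
      have h2 := congrArg (fun X : M2 => (g⁻¹).1 * X * g.1) h'
      simp only [Matrix.mul_assoc, Units.inv_mul_cancel_left, Units.inv_mul, mul_one] at h2
      exact Subtype.ext (Matrix.ext fun i j => e.injective (congrFun (congrFun h2 i) j)))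

theorem semi_semiAut (g : GL (Fin 2) F) (e : F ≃+* F) : Semi (semiAut g e) g e := fun _ => rfl

theorem mk_semi (g : GL (Fin 2) F) (e : F ≃+* F) {φ : MulAut SL} (h : Semi φ g e) (A : SL) :
    (mk (φ A) : PSL) = (diagAut g * fieldAut e) (mk A) := by
  rw [MulAut.mul_apply, fieldAut_apply, diagAut_apply]
  congr 1
  exact Subtype.ext (h A)

/-- The automorphism induced on `PSL₂`. -/
noncomputable def toPSL (φ : MulAut SL) : MulAut PSL := centreQuotAut SL φ

theorem toPSL_mk (φ : MulAut SL) (A : SL) : toPSL φ (mk A) = (mk (φ A) : PSL) := rfl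

/-- **Every automorphism of `SL₂(q)` is semilinear.** -/
theorem exists_semi (p : ℕ) [Fact p.Prime] [CharP F p] (h3 : 3 < Fintype.card F) (φ : MulAut SL) :
    ∃ (g : GL (Fin 2) F) (e : F ≃+* F), Semi φ g e := by
  obtain ⟨g, e, h⟩ := exists_diag_field p (toPSL φ)
  refine ⟨g, e, ?_⟩
  rw [show φ = semiAut g e from eq_of_mk h3 fun A => by
    rw [← toPSL_mk, h, ← mk_semi g e (semi_semiAut g e)]]
  exact semi_semiAut g e

theorem fieldPart_toPSL (p : ℕ) [Fact p.Prime] [CharP F p] {φ : MulAut SL} {g : GL (Fin 2) F} {e : F ≃+* F}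
    (h : Semi φ g e) : fieldPart p (toPSL φ) = e :=
  fieldPart_eq p (g := g) (MulEquiv.ext fun x => by
    obtain ⟨A, rfl⟩ := QuotientGroup.mk'_surjective _ x
    exact (toPSL_mk φ A).trans (mk_semi g e h A))

theorem semi_comp {φ ψ : MulAut SL} {g k : GL (Fin 2) F} {e f : F ≃+* F} (h : Semi φ g e) (h' : Semi ψ k f) :
    Semi (φ * ψ) (g * GeneralLinearGroup.map e.toRingHom k) (f.trans e) := fun A => by
  have hmap : (GeneralLinearGroup.map e.toRingHom k⁻¹).1 = (k⁻¹).1.map e := rfl
  rw [MulAut.mul_apply, h, h', _root_.mul_inv_rev, Units.val_mul, Units.val_mul, ← map_inv, hmap,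
    Matrix.map_mul, Matrix.map_mul]
  have e1 : (A.1.map f).map e = A.1.map (f.trans e) := by ext i j; simp
  rw [e1]
  simp only [Matrix.mul_assoc]
  rfl

theorem orderOf_mk_eq {y : SL} {s : ℕ} (hs : s.Prime) (hs2 : s ≠ 2) (hy : orderOf y = s) :
    orderOf (mk y : PSL) = s := by
  refine ((Nat.dvd_prime hs).mp (hy ▸ orderOf_map_dvd _ y)).resolve_left fun h1 => ?_
  rw [orderOf_eq_one_iff, mk_center, Matrix.SpecialLinearGroup.mem_center_iff] at h1
  obtain ⟨r, hr, hA⟩ := h1
  rw [Fintype.card_fin] at hr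
  have h2 : y ^ 2 = 1 := Subtype.ext (by
    show (y ^ 2 : SL).1 = (1 : M2)
    rw [Matrix.SpecialLinearGroup.coe_pow, ← hA, ← map_pow, hr, map_one])
  rcases (Nat.dvd_prime Nat.prime_two).mp (hy ▸ orderOf_dvd_of_pow_eq_one h2) with h | h
  · exact hs.ne_one h
  · exact hs2 h

/-- An involutory automorphism with a field part is a conjugate of the field automorphism. -/
theorem involution_conj_field (p : ℕ) [Fact p.Prime] [CharP F p] (h2 : (2 : F) ≠ 0) {φ : MulAut PSL}
    (hφ : φ * φ = 1) (hf : fieldPart p φ ≠ 1) :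
    ∃ (u : GL (Fin 2) F) (e : F ≃+* F), (∀ x, e (e x) = x) ∧ e ≠ RingEquiv.refl F ∧
      φ = diagAut u * fieldAut e * diagAut u⁻¹ := by
  obtain ⟨g, e, hge⟩ := exists_diag_field p φ
  rw [fieldPart_eq p hge] at hf
  have hne : e ≠ RingEquiv.refl F := hf
  have he : ∀ x, e (e x) = x := fun x => by
    have h := congrArg (fieldPart p) hφ
    rw [map_mul, map_one, fieldPart_eq p hge] at h
    exact RingEquiv.congr_fun h x
  have hee : e.trans e = RingEquiv.refl F := RingEquiv.ext he
  obtain ⟨-, r, hr⟩ := scalar_of_fix (g * GeneralLinearGroup.map e.toRingHom g) (RingEquiv.refl F) (by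
    rw [fieldAut_refl, ← hφ, hge]
    conv_rhs => rw [mul_assoc, ← mul_assoc (fieldAut e), fieldAut_mul_diagAut, mul_assoc, ← fieldAut_trans, hee,
      fieldAut_refl, mul_one]
    rw [map_mul])
  have hr' : g.1 * g.1.map e = r • (1 : M2) := by
    rw [Units.val_mul] at hr
    rw [show r • (1 : M2) = Matrix.scalar (Fin 2) r by
      ext i j; by_cases hij : i = j <;> simp [hij]]
    exact hr
  have hr0 : r ≠ 0 := by
    intro h0
    rw [h0, zero_smul] at hr'
    have h1 := congrArg Matrix.det hr'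
    rw [Matrix.det_mul, Matrix.det_zero] at h1
    have hd : g.1.det ≠ 0 := ((Matrix.isUnit_iff_isUnit_det _).mp g.isUnit).ne_zero
    rcases mul_eq_zero.mp h1 with h | h
    · exact hd h
    · rw [show g.1.map e = e.toRingHom.mapMatrix g.1 from rfl, ← RingHom.map_det] at h
      exact hd (e.injective (h.trans (map_zero e).symm))
  have hcomm : g.1.map e * g.1 = r • (1 : M2) := by
    have h1 : g.1 * ((r⁻¹) • g.1.map e) = 1 := by
      rw [Matrix.mul_smul, hr', smul_smul, inv_mul_cancel₀ hr0, one_smul]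
    have h2 := mul_eq_one_comm.mp h1
    rw [Matrix.smul_mul] at h2
    calc g.1.map e * g.1 = r • (r⁻¹ • (g.1.map e * g.1)) := by rw [smul_smul, mul_inv_cancel₀ hr0, one_smul]
      _ = _ := by rw [h2]
  have her : e r = r := by
    have h1 := congrArg (fun A : M2 => A.map e) hr'
    simp only [Matrix.map_mul] at h1
    have hmm : (g.1.map e).map e = g.1 := by ext i j; simp [he]
    rw [hmm, hcomm] at h1
    simpa using (congrFun (congrFun h1 0) 0).symm
  obtain ⟨s, hs⟩ := exists_norm h2 he hne her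
  have hs0 : s ≠ 0 := fun h => hr0 (by rw [← hs, h, zero_mul])
  set g' : M2 := s⁻¹ • g.1 with hg'
  have hg1 : g' * g'.map e = 1 := by
    have : g'.map e = (e s)⁻¹ • g.1.map e := by ext i j; simp [hg', map_inv₀]
    rw [this, hg', Matrix.smul_mul, Matrix.mul_smul, hr', smul_smul, smul_smul, ← mul_inv, hs, inv_mul_cancel₀ hr0,
      one_smul]
  obtain ⟨u, hu⟩ := exists_hilbert he hne hg1
  have hconj : φ = diagAut u * fieldAut e * diagAut u⁻¹ := by
    rw [mul_assoc, fieldAut_mul_diagAut, ← mul_assoc, ← map_mul, hge]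
    congr 1
    have hsc : ∀ (a b : GL (Fin 2) F) (c : F), a.1 = c • b.1 → c ≠ 0 → diagAut a = diagAut b := by
      intro a b c hab hc
      have h1 : (b⁻¹ * a).1 = Matrix.scalar (Fin 2) c := by
        rw [Units.val_mul, hab, Matrix.mul_smul, ← Units.val_mul, inv_mul_cancel, Units.val_one]
        ext i j; by_cases hij : i = j <;> simp [hij]
      have := diagAut_scalar (b⁻¹ * a) c h1
      rw [map_mul, map_inv, inv_mul_eq_one] at this
      exact this.symm
    refine hsc _ _ s ?_ hs0
    rw [Units.val_mul]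
    have hv : (GeneralLinearGroup.map e.toRingHom u⁻¹).1 = (u⁻¹).1.map e := rfl
    rw [hv]
    calc g.1 = s • g' := by rw [hg', smul_smul, mul_inv_cancel₀ hs0, one_smul]
      _ = s • (g' * (u.1 * (u⁻¹).1).map e) := by
        rw [← Units.val_mul, mul_inv_cancel, Units.val_one, Matrix.map_one e (map_zero e) (map_one e), mul_one]
      _ = s • (u.1 * (u⁻¹).1.map e) := by rw [Matrix.map_mul, ← mul_assoc, hu]
  exact ⟨u, e, he, hne, hconj⟩

/-- **An involution with a field part fixes a quaternion group.** -/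
theorem field_quaternion (p : ℕ) [Fact p.Prime] [CharP F p] (hodd : Odd (Fintype.card F))
    (h3 : 3 < Fintype.card F) {φ : MulAut SL} (hφ : φ * φ = 1) {g : GL (Fin 2) F} {e : F ≃+* F}
    (h : Semi φ g e) (he : e ≠ RingEquiv.refl F) :
    ∃ A B : SL, φ A = A ∧ φ B = B ∧ A * A = -1 ∧ B * B = -1 ∧ A * B ≠ B * A ∧ B * A * B⁻¹ = A⁻¹ := by
  have h2 := GW.Model.two_ne_zero_of_odd hodd
  obtain ⟨u, f, hf, hfne, hu⟩ := involution_conj_field p h2 (φ := toPSL φ)
    (MulEquiv.ext fun x => by
      obtain ⟨A, rfl⟩ := QuotientGroup.mk'_surjective _ x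
      exact congrArg (fun B => (mk B : PSL)) (MulEquiv.congr_fun hφ A))
    (by rw [fieldPart_toPSL p h]; exact he)
  set ψ : MulAut SL := semiAut u (RingEquiv.refl F) * semiAut 1 f * semiAut u⁻¹ (RingEquiv.refl F) with hψ
  have hψφ : φ = ψ := eq_of_mk h3 fun A => by
    rw [← toPSL_mk, hu, hψ]
    simp only [MulAut.mul_apply, mk_semi _ _ (semi_semiAut _ _), fieldAut_refl, mul_one, map_one, one_mul]
  have hfix : ∀ X : SL, X.1.map f = X.1 → φ (conjSL u X) = conjSL u X := fun X hX => by
    rw [hψφ]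
    refine Subtype.ext ?_
    rw [hψ, MulAut.mul_apply, MulAut.mul_apply, semi_semiAut, semi_semiAut, semi_semiAut, coe_conjSL]
    have e1 : ∀ M : M2, M.map (RingEquiv.refl F) = M := fun M => Matrix.ext fun _ _ => rfl
    simp only [e1, inv_inv, inv_one, Units.val_one, one_mul, mul_one]
    have e2 : (u⁻¹).1 * (u.1 * X.1 * (u⁻¹).1) * u.1 = X.1 := by
      simp [Matrix.mul_assoc]
    rw [e2, hX]
  haveI : Fintype (GW.Model.fixField f) := Fintype.ofFinite _
  have hchar : ringChar (GW.Model.fixField f) ≠ 2 := by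
    intro hc
    haveI : CharP (GW.Model.fixField f) 2 := ringChar.of_eq hc
    exact h2 (congrArg Subtype.val (CharP.cast_eq_zero (GW.Model.fixField f) 2))
  obtain ⟨a, b, hab⟩ := FiniteField.exists_root_sum_quadratic
    (f := (Polynomial.X ^ 2 : Polynomial (GW.Model.fixField f)))
    (g := (Polynomial.X ^ 2 + Polynomial.C 1 : Polynomial (GW.Model.fixField f)))
    (Polynomial.degree_X_pow 2) (Polynomial.degree_X_pow_add_C (by norm_num) 1)
    (FiniteField.odd_card_of_char_ne_two hchar)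
  simp at hab
  have hab' : (a : F) ^ 2 + ((b : F) ^ 2 + 1) = 0 := by
    have := congrArg Subtype.val hab
    push_cast at this
    exact this
  let X : SL := ⟨!![0, 1; -1, 0], by simp [Matrix.det_fin_two_of]⟩
  let Y : SL := ⟨!![(a : F), b; b, -a], by rw [Matrix.det_fin_two_of]; linear_combination -hab'⟩
  have hXX : X * X = -1 := by
    refine Subtype.ext ?_
    show (X.1 * X.1 : M2) = -1
    ext i j; fin_cases i <;> fin_cases j <;> simp [X, Matrix.mul_apply, Fin.sum_univ_two]
  have hYY : Y * Y = -1 := by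
    refine Subtype.ext ?_
    show (Y.1 * Y.1 : M2) = -1
    ext i j; fin_cases i <;> fin_cases j <;> simp [Y, Matrix.mul_apply, Fin.sum_univ_two] <;>
      first | ring1 | linear_combination hab'
  have hYX : Y * X = -(X * Y) := by
    refine Subtype.ext ?_
    show (Y.1 * X.1 : M2) = -(X.1 * Y.1)
    ext i j; fin_cases i <;> fin_cases j <;> simp [X, Y, Matrix.mul_apply, Fin.sum_univ_two]
  have hm : ∀ x : SL, conjSL u (-x) = -(conjSL u x) := fun x => Subtype.ext (by
    show u.1 * (-x).1 * (u⁻¹).1 = -(u.1 * x.1 * (u⁻¹).1)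
    rw [show (-x).1 = -x.1 from rfl, Matrix.mul_neg, Matrix.neg_mul])
  have hinv : X⁻¹ = -X := inv_eq_of_mul_eq_one_right (by rw [mul_neg, hXX, neg_neg])
  refine ⟨conjSL u X, conjSL u Y, hfix X ?_, hfix Y ?_, ?_, ?_, fun hc => ?_, ?_⟩
  · ext i j; fin_cases i <;> fin_cases j <;> simp [X]
  · ext i j; fin_cases i <;> fin_cases j <;> simp [Y, GW.Model.fix_coe]
  · rw [← map_mul, hXX, hm, map_one]
  · rw [← map_mul, hYY, hm, map_one]
  · rw [← map_mul, ← map_mul, hYX, hm] at hc
    have hc' : (conjSL u (X * Y)).1 = -(conjSL u (X * Y)).1 := congrArg Subtype.val hc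
    have h0 : (X * Y).1 = 0 := by
      have h4 : (2 : F) • (conjSL u (X * Y)).1 = 0 := by rw [two_smul]; exact eq_neg_iff_add_eq_zero.mp hc'
      have h5 := (smul_eq_zero.mp h4).resolve_left h2
      rw [coe_conjSL] at h5
      have := congrArg (fun M : M2 => (u⁻¹).1 * M * u.1) h5
      simpa [Matrix.mul_assoc] using this
    have := congrArg Matrix.det h0
    rw [(X * Y).2, Matrix.det_zero] at this
    · exact one_ne_zero this
  · rw [← map_inv, ← map_mul, ← map_mul, ← map_inv, hYX, hinv]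
    congr 1
    rw [neg_mul, mul_assoc, mul_inv_cancel, mul_one]

/-- **A prime of primitive type**: no automorphism with the field part `e` of odd prime order `r` fixes an element
of that order. -/
theorem exists_prime (p : ℕ) [Fact p.Prime] [CharP F p] (hodd : Odd (Fintype.card F)) {e : F ≃+* F} {r : ℕ}
    (hr : r.Prime) (hr2 : r ≠ 2) (hord : orderOf (e : RingAut F) = r) {N : ℕ}
    (hN : N = Fintype.card F - 1 ∨ N = Fintype.card F + 1) :
    ∃ s : ℕ, s.Prime ∧ s ≠ r ∧ s ≠ 2 ∧ s ∣ N ∧ s ≠ p ∧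
      ∀ (φ : MulAut SL) (g : GL (Fin 2) F), Semi φ g e → ∀ y : SL, orderOf y = s → φ y ≠ y := by
  classical
  set n := Nat.card (GW.Model.fixField e) with hn
  have hq : n ^ r = Fintype.card F := hord ▸ GW.Model.card_fixField e
  have hp : p.Prime := Fact.out
  obtain ⟨k, -, hk⟩ := FiniteField.card F p
  have hpn : p ∣ n := hp.dvd_of_dvd_pow (by rw [hq, hk]; exact dvd_pow_self _ k.ne_zero)
  have hn3 : 3 ≤ n := by
    have hp2 := GW.Model.p_ne_two p hodd
    have := hp.two_le
    have h0 : 0 < n := Nat.card_pos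
    have := Nat.le_of_dvd h0 hpn
    omega
  have hq0 := Fintype.card_pos (α := F)
  obtain ⟨ε, hε, hT⟩ : ∃ ε : ℤ, (ε = 1 ∨ ε = -1) ∧ (N : ℤ) = (n : ℤ) ^ r - ε := by
    rw [show ((n : ℤ) ^ r) = (Fintype.card F : ℤ) by exact_mod_cast hq]
    rcases hN with h | h
    · exact ⟨1, Or.inl rfl, by omega⟩
    · exact ⟨-1, Or.inr rfl, by omega⟩
  obtain ⟨s, hs, hsr, hs2, hsT, hsm, hsp⟩ := GW.Model.exists_primitive hn3 hr hr2 hε
  rw [← hT] at hsT
  have hsN : s ∣ N := Int.natCast_dvd_natCast.mp hsT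
  have hsp' : s ≠ p := SL2Tori.not_dvd_char (F := F) p s hs (by rcases hN with h | h <;> rw [h] at hsN <;> simp [hsN])
  refine ⟨s, hs, hsr, hs2, hsN, hsp', fun φ g hφ y hy hfix => ?_⟩
  have hu : toPSL φ (mk y) = (mk y : PSL) := by rw [toPSL_mk, hfix]
  have key := GW.Model.orderOf_fixed p hodd hu
  rw [fieldPart_toPSL p hφ, orderOf_mk_eq hs hs2 hy] at key
  rcases key with h | h | h | h
  · exact hsm (((Nat.coprime_primes hs Nat.prime_two).mpr hs2).dvd_of_dvd_mul_left h)
  · exact hsp (((Nat.coprime_primes hs Nat.prime_two).mpr hs2).dvd_of_dvd_mul_left h)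
  · exact hsp' ((Nat.prime_dvd_prime_iff_eq hs hp).mp h)
  · exact hs2 ((Nat.prime_dvd_prime_iff_eq hs Nat.prime_two).mp h)

/-- The centraliser of a trace zero matrix in `SL₂(q)`. -/
theorem exists_torus (hodd : Odd (Fintype.card F)) (h3 : 3 < Fintype.card F) {g : GL (Fin 2) F}
    (htr : g.1.trace = 0) :
    ∃ b : SL, b.1.trace ^ 2 ≠ 4 ∧ Commute b.1 g.1 ∧
      ∀ A : SL, A ∈ Subgroup.centralizer ({b} : Set SL) ↔ Commute A.1 g.1 := by
  have htwo := GW.Model.two_ne_zero_of_odd hodd
  set c : F := -g.1.det with hc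
  have hc0 : c ≠ 0 := neg_ne_zero.mpr (GW.Model.det_ne g)
  obtain ⟨x₀, y₀, hxy, hy0⟩ := GW.Model.exists_param hodd h3 hc0
  have h11 : g.1 1 1 = -g.1 0 0 := by rw [Matrix.trace_fin_two] at htr; linear_combination htr
  have hbdet : (x₀ • (1 : M2) + y₀ • g.1).det = 1 := by
    rw [hc, Matrix.det_fin_two g.1, h11] at hxy
    rw [Matrix.det_fin_two]
    simp [h11]
    linear_combination hxy
  obtain ⟨b, hb⟩ : ∃ b : SL, b.1 = x₀ • (1 : M2) + y₀ • g.1 := ⟨⟨_, hbdet⟩, rfl⟩
  have hbtr : b.1.trace = 2 * x₀ := by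
    rw [Matrix.trace_fin_two]; simp [hb, h11]; ring
  have hcb : ∀ M : M2, Commute M b.1 ↔ Commute M g.1 := fun M => by
    rw [hb]
    constructor
    · intro h
      have h2 : M * (x₀ • (1 : M2) + y₀ • g.1) = (x₀ • (1 : M2) + y₀ • g.1) * M := h
      rw [mul_add, add_mul, ((Commute.one_right M).smul_right x₀).eq] at h2
      have h' := add_left_cancel h2
      rw [Matrix.mul_smul, Matrix.smul_mul] at h'
      exact smul_right_injective _ hy0 h'
    · intro h
      exact ((Commute.one_right M).smul_right x₀).add_right (h.smul_right y₀)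
  refine ⟨b, ?_, ((hcb g.1).mpr (Commute.refl _)).symm, fun A => ?_⟩
  · rw [hbtr]
    intro e
    have : (2 * 2) * (c * (y₀ * y₀)) = 0 := by linear_combination e - 4 * hxy
    exact mul_ne_zero (mul_ne_zero htwo htwo) (mul_ne_zero hc0 (mul_ne_zero hy0 hy0)) this
  · rw [SL2Tori.mem_centralizer, ← hcb]
    exact ⟨fun h => congrArg Subtype.val h.eq, fun h => Subtype.ext h.eq⟩

end CfsgLib.RankTwoModel.SL2
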