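import Cfsg.Agent.Lib.RankTwoModel.Cover
import Cfsg.Agent.Lib.RankTwoModel.Basic
import Cfsg.Agent.Lib.RankTwoModel.SL2Semi
import Cfsg.Agent.Lib.RankTwo.Weights

/-!
The centraliser of the involution acting on `SL₂(q)`.

* `Frame.L`: the preimage of the derived subgroup modulo the core;
* `Rep`: `π : L → SL₂(q)` with kernel `O` and the compatible action `σ` of `C`;
* `Rep.sigma_eq_one`: odd elements acting trivially lie in `O`;
* `Rep.invol`: an involution other than `z` is conjugation by a trace zero matrix.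

Blueprint: `blueprint/RankTwo_P3.md`.
-/

set_option autoImplicit false
set_option linter.unusedSectionVars false
set_option linter.style.haveILetI false

namespace CfsgLib.RankTwoModel

open Cfsg CfsgLib.GW
open scoped MatrixGroups

universe u

variable {G : Type u} [Group G] [Finite G]

/-- The preimage of the derived subgroup of the centraliser modulo its core. -/
def Frame.L (d : Frame G) : Subgroup G :=
  ((commutator (↥d.C ⧸ oddCore ↥d.C)).comap (QuotientGroup.mk' (oddCore ↥d.C))).map d.C.subtype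

theorem Frame.mem_L {d : Frame G} {x : G} : x ∈ d.L ↔
    ∃ hx : x ∈ d.C, QuotientGroup.mk' (oddCore ↥d.C) ⟨x, hx⟩ ∈ commutator (↥d.C ⧸ oddCore ↥d.C) := by
  constructor
  · rintro ⟨y, hy, rfl⟩
    exact ⟨y.2, hy⟩
  · rintro ⟨hx, h⟩
    exact ⟨⟨x, hx⟩, h, rfl⟩

theorem Frame.L_le (d : Frame G) : d.L ≤ d.C := Subgroup.map_subtype_le _

theorem Frame.L_conj (d : Frame G) {c x : G} (hc : c ∈ d.C) (hx : x ∈ d.L) : c * x * c⁻¹ ∈ d.L := by
  obtain ⟨y, hy, rfl⟩ := hx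
  refine ⟨⟨c, hc⟩ * y * ⟨c, hc⟩⁻¹, ?_, rfl⟩
  show QuotientGroup.mk' (oddCore ↥d.C) _ ∈ commutator _
  rw [map_mul, map_mul, map_inv]
  exact (inferInstance : (commutator (↥d.C ⧸ oddCore ↥d.C)).Normal).conj_mem _ hy _

theorem Frame.O_le_L (d : Frame G) : d.O ≤ d.L := by
  rintro _ ⟨y, hy, rfl⟩
  refine ⟨y, ?_, rfl⟩
  show QuotientGroup.mk' (oddCore ↥d.C) y ∈ commutator _
  rw [show QuotientGroup.mk' (oddCore ↥d.C) y = 1 from (QuotientGroup.eq_one_iff (N := oddCore ↥d.C) y).mpr hy]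
  exact one_mem _

variable {d : Frame G}

theorem Frame.Spec.D_le_L (hd : d.Spec) (hq : 3 < d.q) : d.D ≤ d.L := by
  rintro _ ⟨y, hy, rfl⟩
  exact ⟨y, (hd.D_cover hq).le ⟨y, hy, rfl⟩, rfl⟩

theorem Frame.Spec.z_mem_L (hd : d.Spec) : d.z ∈ d.L :=
  Frame.mem_L.mpr ⟨Frame.Spec.z_mem_C, hd.z_mem_commutator⟩

/-- The involution lies in `D`. -/
theorem Frame.Spec.z_mem_D (hd : d.Spec) (hq : 3 < d.q) : d.z ∈ d.D := by
  obtain ⟨x, hx, o, ho, e⟩ := hd.z_mem_DO hq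
  obtain ⟨j, hj⟩ := d.O_odd
  have hoz : Commute d.z o := (Frame.Spec.z_central (d.O_le ho)).symm
  have hxe : x = d.z * o⁻¹ := by rw [e, mul_inv_cancel_right]
  have hpow : x ^ Nat.card d.O = d.z := by
    rw [hxe, hoz.inv_right.mul_pow, inv_pow]
    have h1 : o ^ Nat.card d.O = 1 := congrArg Subtype.val (pow_card_eq_one' (x := (⟨o, ho⟩ : d.O)))
    have h2 : d.z ^ 2 = 1 := hd.zord ▸ pow_orderOf_eq_one d.z
    rw [h1, inv_one, mul_one, hj, pow_succ, pow_mul, h2, one_pow, one_mul]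
  exact hpow ▸ pow_mem hx _

theorem Frame.Spec.L_cover (hd : d.Spec) (hq : 3 < d.q) {x : G} (hx : x ∈ d.L) :
    ∃ y ∈ d.D, y⁻¹ * x ∈ d.O := by
  obtain ⟨x, hx, rfl⟩ := hx
  obtain ⟨y, hy, hyx⟩ := (hd.D_cover hq).ge hx
  exact ⟨y, ⟨y, hy, rfl⟩, y⁻¹ * x, (QuotientGroup.eq_one_iff _).mp (by
    show QuotientGroup.mk' (oddCore ↥d.C) (y⁻¹ * x) = 1
    rw [map_mul, map_inv, hyx, inv_mul_cancel]), rfl⟩

theorem Frame.Spec.odd_card (hd : d.Spec) : Odd (Fintype.card d.F) := by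
  rw [hd.card]; exact (hd.prime.odd_of_ne_two hd.podd).pow

theorem Frame.Spec.charP (hd : d.Spec) : CharP d.F d.p := by
  haveI : Fact d.p.Prime := ⟨hd.prime⟩
  obtain ⟨r, hr⟩ := CharP.exists d.F
  haveI := hr
  obtain ⟨k, hrp, hk⟩ := FiniteField.card d.F r
  have h : r ∣ d.p ^ d.n := by rw [← hd.card, hk]; exact dvd_pow_self _ k.ne_zero
  rwa [← (Nat.prime_dvd_prime_iff_eq hrp hd.prime).mp (hrp.dvd_of_dvd_pow h)]

theorem Frame.Spec.three_lt (hd : d.Spec) (hq : 3 < d.q) : 3 < Fintype.card d.F := hd.card ▸ hq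

/-- An element acting trivially on the derived subgroup modulo the core is central there. -/
theorem Frame.Spec.center_of_centralize (hd : d.Spec) (h : Hyp G) (hq : 3 < d.q) (c : ↥d.C ⧸ oddCore ↥d.C)
    (hc : ∀ a ∈ commutator (↥d.C ⧸ oddCore ↥d.C), c * a = a * c) :
    c ∈ Subgroup.center (↥d.C ⧸ oddCore ↥d.C) := by
  haveI : Fact (Nat.Prime 2) := ⟨Nat.prime_two⟩
  obtain ⟨R, hR, ⟨K, hK, hidx, hno, hquat⟩, hwc⟩ :
      ∃ R : Sylow 2 ↥d.C, Nat.card R = Nat.card d.S ∧ (∃ K : Subgroup ↥d.C, K.Normal ∧ (∃ a : ℕ, K.index = 2 ^ a) ∧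
        (∀ M : Subgroup ↥K, M.index ≠ 2) ∧
        (∀ P : Sylow 2 ↥K, ∃ m : ℕ, 1 ≤ m ∧ Nonempty ((P : Subgroup ↥K) ≃* QuaternionGroup (2 ^ m)))) ∧
        ∀ Z₀ : Subgroup ↥d.C, Z₀ ≤ ((Subgroup.center (R : Subgroup ↥d.C)).map (R : Subgroup ↥d.C).subtype) →
          IsWeaklyClosed Z₀ (R : Subgroup ↥d.C) := Cfsg.Agent.S1213.result d.S hd.qw h.index_ne_two d.z hd.zord
  obtain ⟨g, hg⟩ := CfsgLib.DihedralFusion.exists_conj_le (S := d.S) (R.2.map d.C.subtype)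
  have heq : ((R : Subgroup ↥d.C).map d.C.subtype).map (MulAut.conj g).toMonoidHom = (d.S : Subgroup G) :=
    Subgroup.eq_of_le_of_card_ge hg (by
      rw [Subgroup.card_map_of_injective (MulAut.conj g).injective,
        Subgroup.card_map_of_injective d.C.subtype_injective]
      exact le_of_eq hR.symm)
  let e : (R : Subgroup ↥d.C) ≃* (d.S : Subgroup G) :=
    (((R : Subgroup ↥d.C).equivMapOfInjective d.C.subtype d.C.subtype_injective).trans
      (((R : Subgroup ↥d.C).map d.C.subtype).equivMapOfInjective (MulAut.conj g).toMonoidHom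
        (MulAut.conj g).injective)).trans (MulEquiv.subgroupCongr heq)
  have hQD := CfsgLib.GWConseq.QDCentre.qdHyp_quotient R K
    (CfsgLib.GWConseq.QDCentre.qdw_of_equiv e.symm hd.qw) hK hidx hno hquat hwc
  have hns : ¬ Group.IsSolvable (K.map (QuotientGroup.mk' (oddCore ↥d.C))) := fun hs => by
    obtain ⟨eL⟩ := hd.sl
    haveI : Group.IsPerfect (Matrix.SpecialLinearGroup (Fin 2) d.F) :=
      ⟨CfsgLib.StSL.perfect_SL2 (hd.three_lt hq)⟩
    haveI : Group.IsPerfect ↥(commutator (↥d.C ⧸ oddCore ↥d.C)) :=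
      Group.IsPerfect.ofSurjective (f := eL.symm.toMonoidHom) eL.symm.surjective
    haveI := hQD.normal
    obtain ⟨a, ha⟩ := hQD.two_pow
    -- the perfect derived subgroup lies in every normal subgroup of two-power index
    set K' := K.map (QuotientGroup.mk' (oddCore ↥d.C))
    haveI : Fact (Nat.Prime 2) := ⟨Nat.prime_two⟩
    have hp : IsPGroup 2 ((↥d.C ⧸ oddCore ↥d.C) ⧸ K') := IsPGroup.of_card (n := a) (by rw [← Subgroup.index_eq_card, ha])
    haveI : Group.IsNilpotent ((↥d.C ⧸ oddCore ↥d.C) ⧸ K') := hp.isNilpotent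
    have hle : commutator (↥d.C ⧸ oddCore ↥d.C) ≤ K' := by
      intro x hx
      haveI : Group.IsPerfect ↥((commutator (↥d.C ⧸ oddCore ↥d.C)).map (QuotientGroup.mk' K')) :=
        Group.IsPerfect.map _ 
      obtain ⟨k, hk⟩ := (inferInstance : Group.IsSolvable ((↥d.C ⧸ oddCore ↥d.C) ⧸ K')).solvable
      have h1 := perfect_le_derived ((commutator (↥d.C ⧸ oddCore ↥d.C)).map (QuotientGroup.mk' K')) k
        ⟨x, hx, rfl⟩
      rw [hk, Subgroup.mem_bot] at h1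
      exact (QuotientGroup.eq_one_iff x).mp h1
    haveI : Group.IsSolvable ↥(commutator (↥d.C ⧸ oddCore ↥d.C)) :=
      Group.isSolvable_of_isSolvable_injective (f := Subgroup.inclusion hle) (Subgroup.inclusion_injective hle)
    haveI : Nontrivial (Matrix.SpecialLinearGroup (Fin 2) d.F) := ⟨⟨1, PSL2.uSL 1, fun he => by
      simpa [PSL2.coe_uSL] using congrFun (congrFun (congrArg Subtype.val he) 0) 1⟩⟩
    haveI : Nontrivial ↥(commutator (↥d.C ⧸ oddCore ↥d.C)) := eL.toEquiv.nontrivial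
    exact Group.IsPerfect.not_isSolvable _ (inferInstance : Group.IsSolvable ↥(commutator (↥d.C ⧸ oddCore ↥d.C)))
  exact (hQD.big_case CfsgLib.GW.gwThm hns).2.1 (Subgroup.mem_centralizer_iff.mpr fun a ha => (hc a ha).symm)

/-- A central element of the centraliser modulo the core that has odd order is trivial. -/
theorem Frame.central_odd {c : ↥d.C ⧸ oddCore ↥d.C} (hc : c ∈ Subgroup.center (↥d.C ⧸ oddCore ↥d.C))
    (hodd : Odd (orderOf c)) : c = 1 := by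
  have hle : Subgroup.zpowers c ≤ Subgroup.center (↥d.C ⧸ oddCore ↥d.C) := Subgroup.zpowers_le.mpr hc
  haveI : (Subgroup.zpowers c).Normal := ⟨fun x hx g => by
    rwa [Subgroup.mem_center_iff.mp (hle hx) g, mul_inv_cancel_right]⟩
  have h1 : Subgroup.zpowers c ≤ oddCore (↥d.C ⧸ oddCore ↥d.C) :=
    CfsgLib.le_oddCore (by rw [Nat.card_zpowers]; exact hodd)
  rw [show oddCore (↥d.C ⧸ oddCore ↥d.C) = ⊥ from CfsgLib.pPrimeCore_quotient_eq_bot 2] at h1
  exact Subgroup.mem_bot.mp (h1 (Subgroup.mem_zpowers c))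

/-! ### The representation -/

local notation "SL[" d "]" => Matrix.SpecialLinearGroup (Fin 2) (Frame.F d)

/-- `L` onto `SL₂(q)` and the compatible action of the centraliser. -/
structure Rep (d : Frame G) where
  π : ↥d.L →* SL[d]
  surj : Function.Surjective π
  ker : ∀ x : ↥d.L, π x = 1 ↔ (x : G) ∈ d.O
  σ : ↥d.C →* MulAut SL[d]
  compat : ∀ (c : ↥d.C) (x : ↥d.L), σ c (π x) = π ⟨c * x * (c : G)⁻¹, d.L_conj c.2 x.2⟩

theorem Frame.Spec.exists_rep (hd : d.Spec) : Nonempty (Rep d) := by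
  obtain ⟨e⟩ : Nonempty (↥(commutator (↥d.C ⧸ oddCore ↥d.C)) ≃* SL[d]) := hd.sl
  have hmem : ∀ x : ↥d.L, ∃ hx : (x : G) ∈ d.C,
      QuotientGroup.mk' (oddCore ↥d.C) ⟨x, hx⟩ ∈ commutator (↥d.C ⧸ oddCore ↥d.C) := fun x => Frame.mem_L.mp x.2
  let π : ↥d.L →* SL[d] := e.toMonoidHom.comp
    (((QuotientGroup.mk' (oddCore ↥d.C)).comp (Subgroup.inclusion d.L_le)).codRestrict _ fun x => (hmem x).2)
  refine ⟨⟨π, fun A => ?_, fun x => ?_,
    (MulAut.congr e).toMonoidHom.comp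
      ((MulAut.conjNormal (H := commutator (↥d.C ⧸ oddCore ↥d.C))).comp (QuotientGroup.mk' (oddCore ↥d.C))),
    fun c x => ?_⟩⟩
  · obtain ⟨y, hy⟩ := QuotientGroup.mk'_surjective (oddCore ↥d.C) (e.symm A : ↥d.C ⧸ oddCore ↥d.C)
    refine ⟨⟨y, Frame.mem_L.mpr ⟨y.2, (congrArg (· ∈ commutator (↥d.C ⧸ oddCore ↥d.C)) hy).mpr (e.symm A).2⟩⟩, ?_⟩
    show e ⟨_, _⟩ = A
    exact (congrArg e (Subtype.ext hy)).trans (e.apply_symm_apply A)
  · show e _ = 1 ↔ _
    rw [EmbeddingLike.map_eq_one_iff, ← Subtype.coe_inj]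
    show QuotientGroup.mk' (oddCore ↥d.C) (Subgroup.inclusion d.L_le x) = 1 ↔ _
    rw [show QuotientGroup.mk' (oddCore ↥d.C) (Subgroup.inclusion d.L_le x) =
      ((Subgroup.inclusion d.L_le x : ↥d.C) : ↥d.C ⧸ oddCore ↥d.C) from rfl, QuotientGroup.eq_one_iff]
    exact ⟨fun h => ⟨_, h, rfl⟩, fun ⟨y, hy, hyx⟩ => by
      rwa [show Subgroup.inclusion d.L_le x = y from Subtype.ext hyx.symm]⟩
  · show e (MulAut.conjNormal (H := commutator (↥d.C ⧸ oddCore ↥d.C)) _ (e.symm (e _))) = e _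
    rw [e.symm_apply_apply]
    congr 1

variable (R : Rep d) (hd : d.Spec) (hq : 3 < d.q)

include hd hq in
theorem Rep.surj_D (A : SL[d]) : ∃ (y : G) (hy : y ∈ d.D), R.π ⟨y, hd.D_le_L hq hy⟩ = A := by
  obtain ⟨x, rfl⟩ := R.surj A
  obtain ⟨y, hy, ho⟩ := hd.L_cover hq x.2
  refine ⟨y, hy, ?_⟩
  have h1 : R.π (⟨y, hd.D_le_L hq hy⟩⁻¹ * x) = 1 := (R.ker _).mpr ho
  rwa [map_mul, map_inv, inv_mul_eq_one] at h1

/-- Conjugation by elements of `L`. -/
theorem Rep.sigma_inner (x : ↥d.L) (A : SL[d]) :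
    R.σ ⟨x, d.L_le x.2⟩ A = R.π x * A * (R.π x)⁻¹ := by
  obtain ⟨y, rfl⟩ := R.surj A
  rw [R.compat, ← map_inv, ← map_mul, ← map_mul]
  rfl

theorem Rep.sigma_O {o : G} (ho : o ∈ d.O) : R.σ ⟨o, d.O_le ho⟩ = 1 := MulEquiv.ext fun A => by
  have h := R.sigma_inner ⟨o, d.O_le_L ho⟩ A
  rwa [(R.ker _).mpr ho, one_mul, inv_one, mul_one] at h

include hd in
theorem Rep.pi_z : R.π ⟨d.z, hd.z_mem_L⟩ = -1 := by
  have h2 := SL2Orders.two_ne_zero_of_odd hd.odd_card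
  rcases SL2Orders.eq_one_or_neg_one_of_sq h2 (R.π ⟨d.z, hd.z_mem_L⟩) (by
    rw [← map_mul, show (⟨d.z, hd.z_mem_L⟩ : ↥d.L) * ⟨d.z, hd.z_mem_L⟩ = 1 from Subtype.ext (by
      show d.z * d.z = 1
      rw [← pow_two, ← hd.zord, pow_orderOf_eq_one]), map_one]) with h | h
  · exact absurd ((R.ker _).mp h) (BG.not_mem_of_odd d.O_odd hd.zord)
  · exact h

include hd hq in
/-- An element acting trivially is central modulo the core. -/
theorem Rep.central_of_sigma (h : Hyp G) {c : G} (hc : c ∈ d.C) (h1 : R.σ ⟨c, hc⟩ = 1) :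
    QuotientGroup.mk' (oddCore ↥d.C) ⟨c, hc⟩ ∈ Subgroup.center (↥d.C ⧸ oddCore ↥d.C) := by
  set cc : ↥d.C := ⟨c, hc⟩
  refine hd.center_of_centralize h hq (QuotientGroup.mk' _ cc) fun a ha => ?_
  obtain ⟨y, rfl⟩ := QuotientGroup.mk'_surjective _ a
  have hyL : (y : G) ∈ d.L := ⟨y, ha, rfl⟩
  have hm := R.compat cc ⟨y, hyL⟩
  rw [h1, MulAut.one_apply, eq_comm, ← inv_mul_eq_one, ← map_inv, ← map_mul] at hm
  obtain ⟨w, hw, hwe⟩ := (R.ker _).mp hm
  have h2 : QuotientGroup.mk' (oddCore ↥d.C) ((cc * y * cc⁻¹)⁻¹ * y) = 1 := (QuotientGroup.eq_one_iff _).mpr (by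
    rwa [show (cc * y * cc⁻¹)⁻¹ * y = w from Subtype.ext hwe.symm])
  rw [map_mul, map_inv, inv_mul_eq_one, map_mul, map_mul, map_inv, mul_inv_eq_iff_eq_mul] at h2
  exact h2

include hd hq in
/-- An odd element acting trivially lies in the core. -/
theorem Rep.sigma_eq_one (h : Hyp G) {c : G} (hc : c ∈ d.C) (hodd : Odd (orderOf c))
    (h1 : R.σ ⟨c, hc⟩ = 1) : c ∈ d.O := by
  have h3 := Frame.central_odd (R.central_of_sigma hd hq h hc h1) (hodd.of_dvd_nat (by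
    refine (orderOf_map_dvd _ (⟨c, hc⟩ : ↥d.C)).trans (dvd_of_eq ?_)
    exact Subgroup.orderOf_mk c hc))
  exact ⟨⟨c, hc⟩, (QuotientGroup.eq_one_iff _).mp h3, rfl⟩

/-- A change of coordinates. -/
noncomputable def Rep.conj (A : SL[d]) : Rep d where
  π := (MulAut.conj A).toMonoidHom.comp R.π
  surj := (MulAut.conj A).surjective.comp R.surj
  ker x := by
    rw [MonoidHom.comp_apply, MulEquiv.coe_toMonoidHom, EmbeddingLike.map_eq_one_iff]
    exact R.ker x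
  σ := (MulAut.conj (MulAut.conj A)).toMonoidHom.comp R.σ
  compat c x := by
    show (MulAut.conj A * R.σ c * (MulAut.conj A)⁻¹) (MulAut.conj A (R.π x)) = _
    rw [MulAut.mul_apply, MulAut.mul_apply, MulAut.inv_apply_self, R.compat]
    rfl

/-- Conjugating an involution into the coset. -/
theorem lift_comm {O : Subgroup G} (hO : Odd (Nat.card O)) {i x : G} (hi : i * i = 1)
    (hn : ∀ o ∈ O, i * o * i⁻¹ ∈ O) (hx : x * i * x⁻¹ * i⁻¹ ∈ O) :
    ∃ b ∈ O, (b * x) * i = i * (b * x) := by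
  have hii : i⁻¹ = i := inv_eq_of_mul_eq_one_right hi
  set g := i * (x * i * x⁻¹ * i⁻¹) * i⁻¹ with hg
  have hg' : g ∈ O := hn _ hx
  have hxi : x * i * x⁻¹ = i * g := by
    rw [hg, hii]
    simp [mul_assoc, hi]
    rw [← mul_assoc i i, hi, one_mul]
  haveI := Fintype.ofFinite G
  obtain ⟨b, hb, c, hc, hcz, he⟩ := RankTwo.coset_conj O hO hi hn hg'
  refine ⟨b, hb, ?_⟩
  have hc2 : c * c = 1 := by
    have h1 : (i * c) * (i * c) = 1 := by
      rw [← he, ← hxi]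
      rw [show b * (x * i * x⁻¹) * b⁻¹ * (b * (x * i * x⁻¹) * b⁻¹) = b * (x * (i * i) * x⁻¹) * b⁻¹ by group, hi]
      group
    rwa [mul_assoc i c, ← mul_assoc c i, hcz, mul_assoc i c, ← mul_assoc i i, hi, one_mul] at h1
  have hc1 : c = 1 := by
    rw [← orderOf_eq_one_iff]
    exact Nat.eq_one_of_dvd_coprimes (Nat.coprime_two_left.mpr hO)
      (orderOf_dvd_of_pow_eq_one (show c ^ 2 = 1 by rw [pow_two, hc2])) (Subgroup.orderOf_dvd_natCard O hc)
  rw [hc1, mul_one, ← hxi] at he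
  calc b * x * i = b * (x * i * x⁻¹) * b⁻¹ * (b * x) := by group
    _ = i * (b * x) := by rw [he]

include hd hq in
/-- A lift of a fixed element commuting with the involution. -/
theorem Rep.lift_fixed {i : G} (hiC : i ∈ d.C) (hi : i * i = 1) {A : SL[d]} (hA : R.σ ⟨i, hiC⟩ A = A) :
    ∃ (y : G) (hy : y ∈ d.L), R.π ⟨y, hy⟩ = A ∧ y * i = i * y := by
  obtain ⟨x, rfl⟩ := R.surj A
  rw [R.compat, ← inv_mul_eq_one, ← map_inv, ← map_mul] at hA
  have hmem : ((x : G))⁻¹ * i * x * i⁻¹ ∈ d.O := by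
    have h2 := inv_mem ((R.ker _).mp hA)
    have h3 : ((x : G))⁻¹ * (i * x * i⁻¹) ∈ d.O := by
      have e : ((⟨i * x * i⁻¹, d.L_conj hiC x.2⟩⁻¹ * x : ↥d.L) : G)⁻¹ = (x : G)⁻¹ * (i * x * i⁻¹) := by
        show ((i * x * i⁻¹)⁻¹ * (x : G))⁻¹ = _
        group
      rwa [e] at h2
    simpa [mul_assoc] using h3
  have hmem' : (x : G) * i * (x : G)⁻¹ * i⁻¹ ∈ d.O := by
    have h4 := Frame.Spec.O_conj (d.L_le x.2) (inv_mem hmem)
    have e : (x : G) * ((x : G)⁻¹ * i * x * i⁻¹)⁻¹ * (x : G)⁻¹ = (x : G) * i * (x : G)⁻¹ * i⁻¹ := by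
      rw [show i⁻¹ = i from inv_eq_of_mul_eq_one_right hi]
      simp [mul_assoc, inv_eq_of_mul_eq_one_right hi]
    rwa [e] at h4
  obtain ⟨b, hb, hbx⟩ := lift_comm d.O_odd hi (fun o ho => Frame.Spec.O_conj hiC ho) hmem'
  refine ⟨b * x, mul_mem (d.O_le_L hb) x.2, ?_, hbx⟩
  rw [show (⟨b * x, mul_mem (d.O_le_L hb) x.2⟩ : ↥d.L) = ⟨b, d.O_le_L hb⟩ * x from rfl, map_mul,
    (R.ker _).mpr hb, one_mul]

end CfsgLib.RankTwoModel
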