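import Mathlib.GroupTheory.Nilpotent
import Mathlib.GroupTheory.PGroup
import Mathlib.GroupTheory.GroupAction.ConjAct

/-!
The generalised `A × B` lemma: if a `p`-group `B` (`p` odd) and a `p'`-group `Y` normalised by it act on a
`p`-group `F`, and `Y` fixes the fixed points of `B`, then `Y` acts trivially.

Proof: induction gives class two; in the abelian group of Baer the kernel of the norm of `Y` is invariant under
`B`, and a fixed point of `B` in it is killed by the order of `Y`.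
-/

set_option autoImplicit false
set_option linter.unusedSectionVars false
set_option linter.style.haveILetI false

namespace CfsgLib.RankTwoModel.GAxB

open scoped commutatorElement

universe u v w

section ClassTwo

variable {X : Type u} [Group X] (hc : ∀ a b c : X, Commute ⁅a, b⁆ c)

include hc

theorem comm_mul_left (a b c : X) : ⁅a * b, c⁆ = ⁅a, c⁆ * ⁅b, c⁆ := by
  calc ⁅a * b, c⁆ = a * ⁅b, c⁆ * a⁻¹ * ⁅a, c⁆ := by simp only [commutatorElement_def]; group
    _ = ⁅b, c⁆ * ⁅a, c⁆ := by rw [← (hc b c a).eq, mul_inv_cancel_right]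
    _ = ⁅a, c⁆ * ⁅b, c⁆ := (hc b c _).eq

theorem comm_mul_right (a b c : X) : ⁅a, b * c⁆ = ⁅a, b⁆ * ⁅a, c⁆ := by
  rw [← commutatorElement_inv, comm_mul_left hc, mul_inv_rev, commutatorElement_inv, commutatorElement_inv]
  exact (hc a c _).eq

theorem comm_central_left {z : X} (hz : ∀ c, Commute z c) (c : X) : ⁅z, c⁆ = 1 :=
  commutatorElement_eq_one_iff_commute.mpr (hz c)

/-- The sum of Baer. -/
abbrev baerAdd (m : ℕ) (a b : X) : X := a * b * ⁅b, a⁆ ^ m

theorem baer_comm {m : ℕ} (hm : ∀ a b : X, ⁅a, b⁆ ^ (2 * m) = ⁅a, b⁆) (a b : X) :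
    baerAdd m a b = baerAdd m b a := by
  have e : b * a = a * b * ⁅b, a⁆ := by
    rw [mul_assoc, ← (hc b a b).eq, ← mul_assoc, ← (hc b a a).eq, commutatorElement_def]
    group
  have e2 : ⁅b, a⁆ * ⁅a, b⁆ ^ m = ⁅b, a⁆ ^ m := by
    conv_lhs => rw [← hm b a, ← commutatorElement_inv b a, inv_pow, two_mul, pow_add, mul_inv_cancel_right]
  show a * b * ⁅b, a⁆ ^ m = b * a * ⁅a, b⁆ ^ m
  rw [e, mul_assoc (a * b), e2]

theorem baer_assoc (m : ℕ) (a b c : X) : baerAdd m (baerAdd m a b) c = baerAdd m a (baerAdd m b c) := by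
  have hz : ∀ x y : X, ∀ w, Commute (⁅x, y⁆ ^ m) w := fun x y w => (hc x y w).pow_left m
  have hk : ∀ x y w : X, ⁅x, ⁅y, w⁆ ^ m⁆ = 1 := fun x y w =>
    commutatorElement_eq_one_iff_commute.mpr (hz y w x).symm
  have hk' : ∀ x y w : X, ⁅⁅y, w⁆ ^ m, x⁆ = 1 := fun x y w =>
    commutatorElement_eq_one_iff_commute.mpr (hz y w x)
  show a * b * ⁅b, a⁆ ^ m * c * ⁅c, a * b * ⁅b, a⁆ ^ m⁆ ^ m =
    a * (b * c * ⁅c, b⁆ ^ m) * ⁅b * c * ⁅c, b⁆ ^ m, a⁆ ^ m
  rw [comm_mul_right hc, comm_mul_right hc, hk, mul_one, comm_mul_left hc, comm_mul_left hc, hk', mul_one,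
    (hc c a _).mul_pow, (hc b a _).mul_pow, mul_assoc (a * b), (hz b a c).eq]
  calc a * b * (c * ⁅b, a⁆ ^ m) * (⁅c, a⁆ ^ m * ⁅c, b⁆ ^ m)
      = a * b * c * (⁅b, a⁆ ^ m * ⁅c, a⁆ ^ m * ⁅c, b⁆ ^ m) := by group
    _ = a * b * c * (⁅c, b⁆ ^ m * (⁅b, a⁆ ^ m * ⁅c, a⁆ ^ m)) := by rw [← (hz c b _).eq]
    _ = a * (b * c * ⁅c, b⁆ ^ m) * (⁅b, a⁆ ^ m * ⁅c, a⁆ ^ m) := by group

/-- The abelian group of Baer. -/
@[reducible] def baerGroup [Finite X] (m : ℕ) (hm : ∀ a b : X, ⁅a, b⁆ ^ (2 * m) = ⁅a, b⁆) : AddCommGroup X where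
  add := baerAdd m
  add_assoc := baer_assoc hc m
  zero := (1 : X)
  zero_add a := by show (1 : X) * a * ⁅a, (1 : X)⁆ ^ m = a; simp
  add_zero a := by show a * (1 : X) * ⁅(1 : X), a⁆ ^ m = a; simp
  neg := fun a => a⁻¹
  neg_add_cancel a := by show a⁻¹ * a * ⁅a, a⁻¹⁆ ^ m = (1 : X); simp [commutatorElement_def]
  add_comm := baer_comm hc hm
  nsmul := fun n a => a ^ n
  nsmul_zero a := pow_zero a
  nsmul_succ n a := by
    show a ^ (n + 1) = a ^ n * a * ⁅a, a ^ n⁆ ^ m
    rw [show ⁅a, a ^ n⁆ = 1 from commutatorElement_eq_one_iff_commute.mpr (Commute.self_pow a n), one_pow, mul_one,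
      pow_succ]
  zsmul := @zsmulRec X ⟨(1 : X)⟩ ⟨baerAdd m⟩ ⟨fun a => a⁻¹⟩ fun n a => a ^ n
  zsmul_zero' a := pow_zero a
  zsmul_succ' n a := by
    show a ^ (n + 1) = a ^ n * a * ⁅a, a ^ n⁆ ^ m
    rw [show ⁅a, a ^ n⁆ = 1 from commutatorElement_eq_one_iff_commute.mpr (Commute.self_pow a n), one_pow, mul_one,
      pow_succ]
  zsmul_neg' n a := rfl

/-- The class two case. -/
theorem trivial_of_class_two [Finite X] {p : ℕ} [Fact p.Prime] (hp : p ≠ 2) (hX : IsPGroup p X)
    {B : Type v} [Group B] [Finite B] (hB : IsPGroup p B) {Y : Type w} [Group Y] [Finite Y]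
    (hY : (Nat.card Y).Coprime p) (β : B →* MulAut X) (φ : Y →* MulAut X) (c : B → Y ≃ Y)
    (hcomp : ∀ b y x, β b (φ y x) = φ (c b y) (β b x)) (hfix : ∀ x, (∀ b, β b x = x) → ∀ y, φ y x = x)
    (y0 : Y) (x0 : X) : φ y0 x0 = x0 := by
  classical
  obtain ⟨k, hk⟩ := hX.exists_card_eq
  obtain ⟨j, hj⟩ : Odd (Nat.card X) := hk ▸ ((Fact.out : p.Prime).odd_of_ne_two hp).pow
  have hm : ∀ a b : X, ⁅a, b⁆ ^ (2 * (j + 1)) = ⁅a, b⁆ := fun a b => by
    rw [show 2 * (j + 1) = Nat.card X + 1 by omega, pow_succ, pow_card_eq_one', one_mul]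
  letI : AddCommGroup X := baerGroup hc (j + 1) hm
  have hhom : ∀ (f : MulAut X) (a b : X), f (a + b) = f a + f b := fun f a b => by
    show f (a * b * ⁅b, a⁆ ^ (j + 1)) = f a * f b * ⁅f b, f a⁆ ^ (j + 1)
    rw [map_mul, map_mul, map_pow, map_commutatorElement]
  let ψ : MulAut X → (X →+ X) := fun f => AddMonoidHom.mk' f (hhom f)
  haveI := Fintype.ofFinite Y
  let T : X →+ X := ∑ y : Y, ψ (φ y)
  have hT : ∀ x, T x = ∑ y : Y, φ y x := fun x => by simp [T, ψ]
  have hTy : T (φ y0 x0) = T x0 := by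
    rw [hT, hT]
    refine Fintype.sum_equiv (Equiv.mulRight y0) _ _ fun y => ?_
    show φ y (φ y0 x0) = φ (y * y0) x0
    rw [map_mul, MulAut.mul_apply]
  by_cases hker : T.ker = ⊥
  · exact (AddMonoidHom.ker_eq_bot_iff T).mp hker hTy
  exfalso
  have hinv : ∀ b x, x ∈ T.ker → β b x ∈ T.ker := fun b x hx => by
    rw [AddMonoidHom.mem_ker, hT] at hx ⊢
    have h1 : ψ (β b) (∑ y : Y, φ y x) = 0 := by rw [hx, map_zero]
    rw [map_sum] at h1
    rw [← h1]
    refine (Fintype.sum_equiv (c b) _ _ fun y => ?_).symm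
    exact hcomp b y x
  letI : MulAction B T.ker :=
    { smul := fun b x => ⟨β b x, hinv b x x.2⟩
      one_smul := fun x => Subtype.ext (by show β 1 (x : X) = x; rw [map_one, MulAut.one_apply])
      mul_smul := fun a b x => Subtype.ext (by
        show β (a * b) (x : X) = β a (β b x); rw [map_mul, MulAut.mul_apply]) }
  have hdvd : p ∣ Nat.card T.ker := by
    have h1 : Nat.card T.ker ∣ p ^ k := hk ▸ AddSubgroup.card_addSubgroup_dvd_card T.ker
    obtain ⟨i, -, hi⟩ := (Nat.dvd_prime_pow Fact.out).mp h1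
    refine hi ▸ dvd_pow_self p fun h0 => hker ?_
    rw [h0, pow_zero] at hi
    exact AddSubgroup.card_eq_one.mp hi
  have h0 : (⟨0, zero_mem _⟩ : T.ker) ∈ MulAction.fixedPoints B T.ker := fun b => Subtype.ext (by
    show β b (1 : X) = 1
    exact map_one _)
  obtain ⟨x, hx, hne⟩ := hB.exists_fixed_point_of_prime_dvd_card_of_fixed_point T.ker hdvd h0
  have hx' : ∀ b, β b (x : X) = x := fun b => congrArg Subtype.val (hx b)
  have hsum : Nat.card Y • (x : X) = 0 := by
    have h2 : T (x : X) = 0 := x.2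
    rw [hT, Finset.sum_congr rfl fun y _ => hfix x hx' y, Finset.sum_const, Finset.card_univ] at h2
    rwa [Nat.card_eq_fintype_card]
  have hpow : (x : X) ^ Nat.card Y = 1 := hsum
  obtain ⟨i, hi⟩ := hX (x : X)
  exact hne (Subtype.ext (orderOf_eq_one_iff.mp (Nat.eq_one_of_dvd_coprimes (hY.pow_right i)
    (orderOf_dvd_of_pow_eq_one hpow) (orderOf_dvd_of_pow_eq_one hi))).symm)

end ClassTwo

variable {G : Type u} [Group G] [Finite G]

theorem card_lt {A B : Subgroup G} (h : A < B) : Nat.card A < Nat.card B :=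
  Set.ncard_lt_ncard (SetLike.coe_ssubset_coe.mpr h) (Set.toFinite _)

/-- **The generalised `A × B` lemma.** -/
theorem centralizes {p : ℕ} [Fact p.Prime] (hp : p ≠ 2) {F B Y : Subgroup G} (hF : IsPGroup p F)
    (hB : IsPGroup p B) (hY : (Nat.card Y).Coprime p) (hBF : B ≤ Subgroup.normalizer (F : Set G))
    (hYF : Y ≤ Subgroup.normalizer (F : Set G)) (hBY : B ≤ Subgroup.normalizer (Y : Set G))
    (hfix : ∀ x ∈ F, (∀ b ∈ B, b * x = x * b) → ∀ y ∈ Y, y * x = x * y) :
    ∀ x ∈ F, ∀ y ∈ Y, y * x = x * y := by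
  classical
  induction hn : Nat.card F using Nat.strong_induction_on generalizing F with
  | _ n ih =>
    -- the centraliser of the derived subgroup
    set D := ⁅F, F⁆ with hD
    have hDF : D ≤ F := by
      rw [hD, Subgroup.commutator_le]
      intro a ha b hb
      rw [commutatorElement_def]
      exact mul_mem (mul_mem (mul_mem ha hb) (inv_mem ha)) (inv_mem hb)
    by_cases hF1 : F = ⊥
    · intro x hx y _
      rw [hF1, Subgroup.mem_bot] at hx
      rw [hx, mul_one, one_mul]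
    have hDlt : D < F := by
      haveI := hF.isNilpotent
      haveI : Nontrivial F := (Subgroup.nontrivial_iff_ne_bot _).mpr hF1
      refine lt_of_le_of_ne hDF fun e => ?_
      have h1 : commutator F = ⊤ := by
        refine Subgroup.map_injective F.subtype_injective ?_
        rw [Subgroup.map_subtype_commutator, ← MonoidHom.range_eq_map, Subgroup.range_subtype]
        exact e
      exact (Group.IsSolvable.commutator_lt_top_of_nontrivial F).ne h1
    have hnD : ∀ g : G, g ∈ Subgroup.normalizer (F : Set G) → g ∈ Subgroup.normalizer (D : Set G) := by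
      intro g hg
      refine Subgroup.mem_normalizer_fintype fun a ha => ?_
      have h1 : MulAut.conj g a ∈ D.map (MulAut.conj g).toMonoidHom := ⟨a, ha, rfl⟩
      rw [hD, Subgroup.map_commutator] at h1
      refine (Subgroup.commutator_mono ?_ ?_ : _ ≤ ⁅F, F⁆) h1 <;>
      · rintro _ ⟨w, hw, rfl⟩
        exact (Subgroup.mem_normalizer_iff.mp hg w).mp hw
    have hDfix : ∀ x ∈ D, ∀ y ∈ Y, y * x = x * y :=
      ih (Nat.card D) (hn ▸ card_lt hDlt) (hF.to_le hDF) (fun b hb => hnD b (hBF hb))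
        (fun y hy => hnD y (hYF hy)) (fun x hx => hfix x (hDF hx)) rfl
    set E := F ⊓ Subgroup.centralizer (D : Set G) with hE
    -- the commutators with `Y` centralise the derived subgroup
    have hcomm : ∀ x ∈ F, ∀ y ∈ Y, x⁻¹ * (y * x * y⁻¹) ∈ E := by
      intro x hx y hy
      refine Subgroup.mem_inf.mpr ⟨mul_mem (inv_mem hx) ((Subgroup.mem_normalizer_iff.mp (hYF hy) x).mp hx), ?_⟩
      intro f hf
      have hn' : x * f * x⁻¹ ∈ D := (Subgroup.mem_normalizer_iff.mp (hnD x (Subgroup.le_normalizer hx)) f).mp hf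
      have e1 := hDfix f hf y hy
      have e2 := hDfix _ hn' y hy
      calc f * (x⁻¹ * (y * x * y⁻¹)) = x⁻¹ * (x * f * x⁻¹) * y * x * y⁻¹ := by group
        _ = x⁻¹ * (y * (x * f * x⁻¹)) * x * y⁻¹ := by rw [e2]; group
        _ = x⁻¹ * y * x * (f * y⁻¹) := by group
        _ = x⁻¹ * y * x * (y⁻¹ * f) := by
            rw [show f * y⁻¹ = y⁻¹ * f from ((show Commute y f from e1).inv_left).eq.symm]
        _ = x⁻¹ * (y * x * y⁻¹) * f := by group
    by_cases hEF : E = F
    · -- class two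
      have hc : ∀ a b c : F, Commute ⁅a, b⁆ c := fun a b c => by
        have h1 : ((⁅a, b⁆ : F) : G) ∈ D := by
          rw [show ((⁅a, b⁆ : F) : G) = ⁅(a : G), (b : G)⁆ from map_commutatorElement F.subtype a b]
          exact Subgroup.commutator_mem_commutator a.2 b.2
        exact Subtype.ext ((hEF.ge c.2).2 _ h1)
      intro x hx y hy
      have hconjB : B ≤ Subgroup.normalizer (Y : Set G) := hBY
      let β : B →* MulAut F := (F.normalizerMonoidHom).comp (Subgroup.inclusion hBF)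
      let φ : Y →* MulAut F := (F.normalizerMonoidHom).comp (Subgroup.inclusion hYF)
      let c : B → Y ≃ Y := fun b => (Y.normalizerMonoidHom (Subgroup.inclusion hBY b)).toEquiv
      have key := trivial_of_class_two hc hp hF hB hY β φ c
        (fun b y x => Subtype.ext (by
          show (b : G) * ((y : G) * x * (y : G)⁻¹) * (b : G)⁻¹ =
            (b : G) * y * (b : G)⁻¹ * ((b : G) * x * (b : G)⁻¹) * ((b : G) * y * (b : G)⁻¹)⁻¹
          group))
        (fun x hxb y => Subtype.ext (by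
          show (y : G) * x * (y : G)⁻¹ = x
          rw [hfix x x.2 (fun b hb => mul_inv_eq_iff_eq_mul.mp (congrArg Subtype.val (hxb ⟨b, hb⟩))) y y.2,
            mul_inv_cancel_right]))
        ⟨y, hy⟩ ⟨x, hx⟩
      exact mul_inv_eq_iff_eq_mul.mp (congrArg Subtype.val key)
    · have hnE : ∀ g : G, g ∈ Subgroup.normalizer (F : Set G) → g ∈ Subgroup.normalizer (E : Set G) := by
        intro g hg
        refine Subgroup.mem_normalizer_fintype fun a ha => ?_
        refine ⟨(Subgroup.mem_normalizer_iff.mp hg a).mp ha.1, fun f hf => ?_⟩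
        have h1 : g⁻¹ * f * g ∈ D := by
          simpa using (Subgroup.mem_normalizer_iff.mp (inv_mem (hnD g hg)) f).mp hf
        calc f * (g * a * g⁻¹) = g * (g⁻¹ * f * g * a) * g⁻¹ := by group
          _ = g * (a * (g⁻¹ * f * g)) * g⁻¹ := by rw [ha.2 _ h1]
          _ = g * a * g⁻¹ * f := by group
      have hEfix : ∀ x ∈ E, ∀ y ∈ Y, y * x = x * y :=
        ih (Nat.card E) (hn ▸ card_lt (lt_of_le_of_ne inf_le_left hEF)) (hF.to_le inf_le_left)
          (fun b hb => hnE b (hBF hb)) (fun y hy => hnE y (hYF hy)) (fun x hx => hfix x hx.1) rfl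
      intro x hx y hy
      -- `y` fixes the displacement, so it fixes `x`
      set w := x⁻¹ * (y * x * y⁻¹) with hw
      have hyw : y * w * y⁻¹ = w := mul_inv_eq_iff_eq_mul.mpr (hEfix w (hcomm x hx y hy) y hy)
      have hpow : ∀ i : ℕ, y ^ i * x * (y ^ i)⁻¹ = x * w ^ i := by
        intro i
        induction i with
        | zero => simp
        | succ i ih' =>
          calc y ^ (i + 1) * x * (y ^ (i + 1))⁻¹ = y * (y ^ i * x * (y ^ i)⁻¹) * y⁻¹ := by
                rw [pow_succ']; group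
            _ = (y * x * y⁻¹) * (y * w * y⁻¹) ^ i := by rw [ih', conj_pow]; group
            _ = (y * x * y⁻¹) * w ^ i := by rw [hyw]
            _ = x * w ^ (i + 1) := by rw [pow_succ', ← mul_assoc x, hw, mul_inv_cancel_left]
      have h1 := hpow (orderOf y)
      rw [pow_orderOf_eq_one, one_mul, inv_one, mul_one, left_eq_mul] at h1
      obtain ⟨i, hi⟩ := hF ⟨w, (hcomm x hx y hy).1⟩
      have hcop : (orderOf y).Coprime p := hY.coprime_dvd_left (Subgroup.orderOf_dvd_natCard Y hy)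
      have hw1 : w = 1 := orderOf_eq_one_iff.mp (Nat.eq_one_of_dvd_coprimes (hcop.pow_right i)
        (orderOf_dvd_of_pow_eq_one h1) (orderOf_dvd_of_pow_eq_one (congrArg Subtype.val hi)))
      rw [hw, inv_mul_eq_one] at hw1
      exact mul_inv_eq_iff_eq_mul.mp hw1.symm

end CfsgLib.RankTwoModel.GAxB
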