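import Cfsg.Agent.Lib.RankTwoModel.L3Elements
import Cfsg.Agent.Lib.StSL.Presentation

/-!
The moved radicals of `PSL₃`: they are the two full radicals, an automorphism is determined by its action on one of
them, and an involutory one fixes a second involution.
-/

set_option autoImplicit false
set_option linter.unusedSectionVars false

namespace CfsgLib.RankTwoModel.L3

open Matrix

variable {F : Type} [Field F] [Fintype F]

/-- `R` is the upper radical. -/
def IsUp (R : Subgroup (P3 F)) : Prop := ∀ r, r ∈ R ↔ ∃ v, r = U v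

/-- `R` is the lower radical. -/
def IsLow (R : Subgroup (P3 F)) : Prop := IsUp (R.map (theta (F := F)).toMonoidHom)

theorem classify_up {p : ℕ} {R : Subgroup (P3 F)} (h : Inv p (w₀ F) R)
    (hs : ∀ g, pr g ∈ R → UpShape g.1) : (p : F) = 0 ∧ IsUp R := by
  have hel : ∀ r ∈ R, ∃ v, r = U v := by
    intro r hr
    obtain ⟨g, rfl⟩ := pr_surjective r
    obtain ⟨k, x, y, e⟩ := hs g hr
    have hk : k ≠ 0 := fun e0 => by
      have := g.2; rw [e, e0, Matrix.det_fin_three] at this; simp at this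
    refine ⟨(x / k, y / k), pr_eq_of_smul (k := k) ?_⟩
    rw [e, upR_val]
    ext i j; fin_cases i <;> fin_cases j <;> simp [mul_div_cancel₀ _ hk]
  obtain ⟨r, hr, hne⟩ := h.moved
  obtain ⟨v, rfl⟩ := hel r hr
  have hv : v ≠ 0 := fun e => hne (by rw [e, U_zero, one_mul, mul_one])
  constructor
  · obtain ⟨m, hm⟩ := h.pgroup ⟨_, hr⟩
    have e : U v ^ (p ^ m) = 1 := by simpa using congrArg Subtype.val hm
    rw [U_pow, ← U_zero (F := F)] at e
    have e' := U_injective e
    have hz : ((p ^ m : ℕ) : F) = 0 := by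
      by_contra hz
      exact hv (Prod.ext ((mul_eq_zero.mp (congrArg Prod.fst e')).resolve_left hz)
        ((mul_eq_zero.mp (congrArg Prod.snd e')).resolve_left hz))
    push_cast at hz
    exact eq_zero_of_pow_eq_zero hz
  -- the block is transitive on the non-zero elements
  have hU : ∀ a w, U w ∈ R → U (w.1 + a * w.2, w.2) ∈ R := fun a w hw => by
    rw [← upB_U]; exact h.norm _ (upB_comm a) _ hw
  have hL : ∀ a w, U w ∈ R → U (w.1, w.2 + a * w.1) ∈ R := fun a w hw => by
    rw [← lowB_U]; exact h.norm _ (lowB_comm a) _ hw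
  obtain ⟨w, hw, hw2⟩ : ∃ w, U w ∈ R ∧ w.2 ≠ 0 := by
    by_cases h2 : v.2 = 0
    · have h1 : v.1 ≠ 0 := fun e => hv (Prod.ext e h2)
      exact ⟨_, hL v.1⁻¹ v hr, by simp [h2, h1]⟩
    · exact ⟨v, hr, h2⟩
  have hall : ∀ y : F × F, U y ∈ R := by
    intro y
    have h1 : ∀ x : F, U (x, w.2) ∈ R := fun x => by
      have := hU ((x - w.1) / w.2) w hw
      rwa [div_mul_cancel₀ _ hw2, add_sub_cancel] at this
    by_cases hy : y.1 = 0
    · by_cases hy2 : y.2 = 0
      · rw [show y = 0 from Prod.ext hy hy2, U_zero]; exact R.one_mem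
      · have a := hL (y.2 - w.2) (1, w.2) (h1 1)
        rw [mul_one, add_sub_cancel] at a
        have b := hU (-y.2⁻¹) (1, y.2) a
        rwa [neg_mul, inv_mul_cancel₀ hy2, add_neg_cancel, show ((0 : F), y.2) = y from Prod.ext hy.symm rfl] at b
    · have := hL ((y.2 - w.2) / y.1) (y.1, w.2) (h1 y.1)
      rwa [div_mul_cancel₀ _ hy, add_sub_cancel] at this
  exact fun r => ⟨hel r, fun ⟨y, e⟩ => e ▸ hall y⟩

theorem classify (h2 : (2 : F) ≠ 0) {p : ℕ} {R : Subgroup (P3 F)} (h : Inv p (w₀ F) R) :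
    (p : F) = 0 ∧ (IsUp R ∨ IsLow R) := by
  have hup : ∀ x : SL3 F, ((Matrix.SpecialLinearGroup.toGL x : GL (Fin 3) F) : Matrix (Fin 3) (Fin 3) F) = x.1 :=
    fun _ => rfl
  have hshape : ∀ {R : Subgroup (P3 F)}, Inv p (w₀ F) R →
      (∀ g, pr g ∈ R → UpShape g.1) ∨ ∀ g, pr g ∈ R → LowShape g.1 := fun {R} h =>
    lift_shape pr pr_surjective ker_le Matrix.SpecialLinearGroup.toGL (fun a b e => Subtype.ext (congrArg Units.val e))
      (fun g => g.2) (t := tS) (u := upB 1) (l := lowB 1) (τ := 1) (τ' := 1) rfl rfl rfl (upB_comm 1) (lowB_comm 1)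
      one_ne_zero one_ne_zero h2 h
  rcases hshape h with hs | hs
  · exact ⟨(classify_up h hs).1, Or.inl (classify_up h hs).2⟩
  · have h' : Inv p (w₀ F) (R.map (theta (F := F)).toMonoidHom) := theta_w₀ (F := F) ▸ h.map theta
    have hs' : ∀ g, pr g ∈ R.map (theta (F := F)).toMonoidHom → UpShape g.1 := by
      rintro g ⟨r, hr, e⟩
      obtain ⟨g₁, rfl⟩ := pr_surjective r
      have e' : pr (thetaSL g₁) = pr g := (theta_pr g₁).symm.trans e
      obtain ⟨k, -, ek⟩ := pr_eq_iff.mp e'.symm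
      obtain ⟨k', x, y, e1⟩ := thetaSL_lowShape (hs g₁ hr)
      refine ⟨k * k', k * x, k * y, ?_⟩
      rw [ek, e1]
      ext i j; fin_cases i <;> fin_cases j <;> simp
    exact ⟨(classify_up h' hs').1, Or.inr (classify_up h' hs').2⟩

theorem lowR_ne_U {x y : F} (hx : x ≠ 0 ∨ y ≠ 0) (v : F × F) : pr (lowR x y) ≠ U v := by
  intro e
  obtain ⟨k, -, ek⟩ := pr_eq_iff.mp e
  have a := congrFun (congrFun ek 2) 0
  have b := congrFun (congrFun ek 2) 1
  simp [lowR_val, upR_val] at a b
  tauto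

/-- An automorphism fixing the upper radical and the involution is trivial. -/
theorem rigid_up (h2 : (2 : F) ≠ 0) {p : ℕ} {R : Subgroup (P3 F)} (h : Inv p (w₀ F) R) (hR : IsUp R)
    (φ : P3 F ≃* P3 F) (hw : φ (w₀ F) = w₀ F) (hf : ∀ r ∈ R, φ r = r) : ∀ x, φ x = x := by
  have hU : ∀ v, φ (U v) = U v := fun v => hf _ ((hR _).mpr ⟨v, rfl⟩)
  have hC : ∀ c, c * w₀ F = w₀ F * c → φ c = c := by
    intro c hc
    have h' : φ c * w₀ F = w₀ F * φ c := by
      have := congrArg φ hc
      rwa [map_mul, map_mul, hw] at this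
    have := eq_one_of_cent h2 (c := c⁻¹ * φ c) ?_ ?_
    · rw [inv_mul_eq_one] at this; exact this.symm
    · rw [mul_assoc, h', ← mul_assoc, show c⁻¹ * w₀ F = w₀ F * c⁻¹ by
        rw [inv_mul_eq_iff_eq_mul, ← mul_assoc, hc, mul_inv_cancel_right], mul_assoc]
    · intro v
      obtain ⟨v', hv'⟩ := (hR _).mp (h.norm c hc (U v) ((hR _).mpr ⟨v, rfl⟩))
      have e := congrArg φ hv'
      rw [map_mul, map_mul, map_inv, hU, hU, ← hv'] at e
      calc c⁻¹ * φ c * U v = c⁻¹ * (φ c * U v * (φ c)⁻¹) * φ c := by group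
        _ = c⁻¹ * (c * U v * c⁻¹) * φ c := by rw [e]
        _ = U v * (c⁻¹ * φ c) := by group
  -- the opposite radical
  set R' := R.map (theta (F := F)).toMonoidHom with hR'
  have h' : Inv p (w₀ F) R' := theta_w₀ (F := F) ▸ h.map theta
  have hlow : ∀ x y, pr (lowR x y) ∈ R' := fun x y => by
    refine ⟨U (-x, -y), (hR _).mpr ⟨_, rfl⟩, ?_⟩
    show theta (U (-x, -y)) = pr (lowR x y)
    rw [U, theta_pr, thetaSL_eq (g := upR (-x) (-y)) (h := lowR x y) (by
      ext i j; fin_cases i <;> fin_cases j <;> simp [lowR_val, upR_val, Matrix.mul_apply, Fin.sum_univ_three])]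
  have h'' : Inv p (w₀ F) (R'.map φ.toMonoidHom) := hw ▸ h'.map φ
  rcases (classify h2 h'').2 with hup | hlw
  · obtain ⟨v, hv⟩ := (hup _).mp ⟨_, hlow 1 0, rfl⟩
    exact absurd (φ.injective (hv.trans (hU v).symm)) (lowR_ne_U (Or.inl one_ne_zero) v)
  have himg : ∀ x y, ∃ a b, φ (pr (lowR x y)) = pr (lowR a b) := by
    intro x y
    obtain ⟨v, hv⟩ := (hlw _).mp ⟨_, ⟨_, hlow x y, rfl⟩, rfl⟩
    refine ⟨-v.1, -v.2, (theta (F := F)).injective ?_⟩
    rw [theta_lowR, neg_neg, neg_neg]
    exact hv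
  have hlow1 : ∀ s, φ (pr (lowR s 0)) = pr (lowR s 0) := by
    intro s
    obtain ⟨a, b, e⟩ := himg s 0
    have hrel : U (0, 1) * pr (lowR s 0) = pr (lowB s) * pr (lowR s 0) * U (0, 1) := by
      rw [U, ← map_mul, ← map_mul, ← map_mul]; congr 1; apply Subtype.ext
      ext i j
      simp only [Matrix.SpecialLinearGroup.coe_mul, lowR_val, lowB_val, upR_val]
      simp only [mul_two]
      fin_cases i <;> fin_cases j <;> simp [xLo]
    have e2 := congrArg φ hrel
    rw [map_mul, map_mul, map_mul, hU, e, hC _ (lowB_comm s), U, ← map_mul, ← map_mul, ← map_mul] at e2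
    obtain ⟨k, -, ek⟩ := pr_eq_iff.mp e2
    simp only [Matrix.SpecialLinearGroup.coe_mul, lowR_val, lowB_val, upR_val] at ek
    have q := Matrix.ext_iff.mpr ek
    simp only [Matrix.smul_apply, smul_eq_mul, mul_two] at q
    have q00 := q 0 0; have q10 := q 1 0; have q11 := q 1 1
    simp [xLo] at q00 q10 q11
    rw [← q00, one_mul] at q10
    rw [e, show b = 0 by rw [← q00] at q11; linear_combination q11, show a = s by linear_combination q10]
  have hlow2 : ∀ s, φ (pr (lowR 0 s)) = pr (lowR 0 s) := by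
    intro s
    obtain ⟨a, b, e⟩ := himg 0 s
    have hrel : U (1, 0) * pr (lowR 0 s) = pr (upB s) * pr (lowR 0 s) * U (1, 0) := by
      rw [U, ← map_mul, ← map_mul, ← map_mul]; congr 1; apply Subtype.ext
      ext i j
      simp only [Matrix.SpecialLinearGroup.coe_mul, lowR_val, upB_val, upR_val]
      simp only [mul_two]
      fin_cases i <;> fin_cases j <;> simp [xUp]
    have e2 := congrArg φ hrel
    rw [map_mul, map_mul, map_mul, hU, e, hC _ (upB_comm s), U, ← map_mul, ← map_mul, ← map_mul] at e2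
    obtain ⟨k, -, ek⟩ := pr_eq_iff.mp e2
    simp only [Matrix.SpecialLinearGroup.coe_mul, lowR_val, upB_val, upR_val] at ek
    have q := Matrix.ext_iff.mpr ek
    simp only [Matrix.smul_apply, smul_eq_mul, mul_two] at q
    have q11 := q 1 1; have q01 := q 0 1; have q00 := q 0 0
    simp [xUp] at q11 q01 q00
    rw [← q11] at q01 q00
    rw [e, show a = 0 by linear_combination q00, show b = s by linear_combination q01]
  -- generation by transvections
  have hgen : (φ.toMonoidHom.comp (pr (F := F))) = pr := by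
    refine MonoidHom.eq_of_eqOn_dense (CfsgLib.StSL.closure_transvection_eq_top (K := F) (by norm_num : 2 ≤ 3)) ?_
    rintro _ ⟨i, j, hij, s, rfl⟩
    show φ (pr _) = pr _
    have key : ∀ (g : SL3 F), g.1 = 1 + Matrix.single i j s → φ (pr g) = pr g →
        φ (pr (Matrix.SpecialLinearGroup.transvection hij s)) = pr (Matrix.SpecialLinearGroup.transvection hij s) := by
      intro g hg e
      rwa [show Matrix.SpecialLinearGroup.transvection hij s = g from Subtype.ext hg.symm]
    fin_cases i <;> fin_cases j <;> first | exact absurd rfl hij | skip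
    · exact key (upB s) (by ext a b; fin_cases a <;> fin_cases b <;> simp [upB_val, xUp]) (hC _ (upB_comm s))
    · exact key (upR s 0) (by ext a b; fin_cases a <;> fin_cases b <;> simp [upR_val]) (hU (s, 0))
    · exact key (lowB s) (by ext a b; fin_cases a <;> fin_cases b <;> simp [lowB_val, xLo]) (hC _ (lowB_comm s))
    · exact key (upR 0 s) (by ext a b; fin_cases a <;> fin_cases b <;> simp [upR_val]) (hU (0, s))
    · exact key (lowR s 0) (by ext a b; fin_cases a <;> fin_cases b <;> simp [lowR_val]) (hlow1 s)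
    · exact key (lowR 0 s) (by ext a b; fin_cases a <;> fin_cases b <;> simp [lowR_val]) (hlow2 s)
  intro x
  obtain ⟨g, rfl⟩ := pr_surjective x
  exact DFunLike.congr_fun hgen g

/-- The cross product. -/
def cross (v w : F × F) : F := v.1 * w.2 - v.2 * w.1

/-- A line is determined by the centraliser of the involution. -/
theorem line_iff (h2 : (2 : F) ≠ 0) {v w : F × F} (hv : v ≠ 0) :
    cross v w = 0 ↔ ∀ c, c * w₀ F = w₀ F * c → c * U v = U v * c → c * U w = U w * c := by
  constructor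
  · intro hcr c hc hcv
    obtain ⟨g, rfl⟩ := pr_surjective c
    obtain ⟨a02, a12, a20, a21⟩ := block_of_comm h2 hc
    have key : ∀ {y : F × F}, (g.1 0 0 * y.1 + g.1 0 1 * y.2 = y.1 * g.1 2 2 ∧
        g.1 1 0 * y.1 + g.1 1 1 * y.2 = y.2 * g.1 2 2) → pr g * U y = U y * pr g := by
      rintro y ⟨e1, e2⟩
      rw [U, ← map_mul, ← map_mul]; congr 1; apply Subtype.ext
      ext i j
      simp only [Matrix.SpecialLinearGroup.coe_mul, upR_val]
      simp only [mul_two]
      fin_cases i <;> fin_cases j <;> simp [a02, a12, a20, a21, e1, e2]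
    have hv' : g.1 0 0 * v.1 + g.1 0 1 * v.2 = v.1 * g.1 2 2 ∧ g.1 1 0 * v.1 + g.1 1 1 * v.2 = v.2 * g.1 2 2 := by
      rw [U, ← map_mul, ← map_mul] at hcv
      obtain ⟨k, -, e⟩ := pr_eq_iff.mp hcv
      simp only [Matrix.SpecialLinearGroup.coe_mul, upR_val] at e
      have q := Matrix.ext_iff.mpr e
      simp only [Matrix.smul_apply, smul_eq_mul, mul_two] at q
      have q22 := q 2 2; have q02 := q 0 2; have q12 := q 1 2
      simp [a02, a12, a20, a21] at q22 q02 q12
      have h22 : g.1 2 2 ≠ 0 := fun e => by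
        have hd := g.2
        rw [Matrix.det_fin_three] at hd
        simp [a02, a12, a20, a21, e] at hd
      have hk : k = 1 := mul_right_cancel₀ h22 (by rw [one_mul]; exact q22.symm)
      rw [hk, one_mul] at q02 q12
      exact ⟨q02, q12⟩
    refine key ?_
    unfold cross at hcr
    rcases (show v.1 ≠ 0 ∨ v.2 ≠ 0 by by_contra hh; push Not at hh; exact hv (Prod.ext hh.1 hh.2)) with e | e
    · constructor <;> apply mul_left_cancel₀ e
      · linear_combination w.1 * hv'.1 + g.1 0 1 * hcr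
      · linear_combination w.1 * hv'.2 + (g.1 1 1 - g.1 2 2) * hcr
    · constructor <;> apply mul_left_cancel₀ e
      · linear_combination w.2 * hv'.1 - (g.1 0 0 - g.1 2 2) * hcr
      · linear_combination w.2 * hv'.2 - g.1 1 0 * hcr
  · intro hall
    set A : Matrix (Fin 3) (Fin 3) F :=
      !![1 - v.1 * v.2, v.1 * v.1, 0; -(v.2 * v.2), 1 + v.1 * v.2, 0; 0, 0, 1] with hA
    have hd : A.det = 1 := by simp [hA, Matrix.det_fin_three]; ring
    set g : SL3 F := ⟨A, hd⟩
    have hgv : g.1 = A := rfl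
    have hw : pr g * w₀ F = w₀ F * pr g := by
      rw [w₀, ← map_mul, ← map_mul]; congr 1; apply Subtype.ext
      ext i j
      simp only [Matrix.SpecialLinearGroup.coe_mul, tS_val, hgv]
      rw [mul_two, mul_two]
      fin_cases i <;> fin_cases j <;> simp [hA, dgT]
    have hgU : pr g * U v = U v * pr g := by
      rw [U, ← map_mul, ← map_mul]; congr 1; apply Subtype.ext
      ext i j
      simp only [Matrix.SpecialLinearGroup.coe_mul, upR_val, hgv]
      simp only [mul_two]
      fin_cases i <;> fin_cases j <;> simp [hA] <;> ring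
    have e := hall _ hw hgU
    rw [U, ← map_mul, ← map_mul] at e
    obtain ⟨k, -, e⟩ := pr_eq_iff.mp e
    simp only [Matrix.SpecialLinearGroup.coe_mul, upR_val, hgv] at e
    have q := Matrix.ext_iff.mpr e
    simp only [Matrix.smul_apply, smul_eq_mul, mul_two] at q
    have q22 := q 2 2; have q02 := q 0 2; have q12 := q 1 2
    simp [hA] at q22 q02 q12
    rw [← q22, one_mul] at q02 q12
    unfold cross
    rcases (show v.1 ≠ 0 ∨ v.2 ≠ 0 by by_contra hh; push Not at hh; exact hv (Prod.ext hh.1 hh.2)) with e | e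
    · exact (mul_eq_zero.mp (show v.1 * (v.1 * w.2 - v.2 * w.1) = 0 by linear_combination q02)).resolve_left e
    · exact (mul_eq_zero.mp (show v.2 * (v.1 * w.2 - v.2 * w.1) = 0 by linear_combination q12)).resolve_left e

/-- The involution negating the first and fixing the second of two independent vectors. -/
def reflM (s d : F × F) : Matrix (Fin 3) (Fin 3) F :=
  !![(s.1 * d.2 + s.2 * d.1) / cross s d, -2 * s.1 * d.1 / cross s d, 0;
    2 * s.2 * d.2 / cross s d, -((s.1 * d.2 + s.2 * d.1) / cross s d), 0; 0, 0, -1]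

theorem exists_refl (h2 : (2 : F) ≠ 0) {s d : F × F} (hD : cross s d ≠ 0) :
    ∃ b : P3 F, orderOf b = 2 ∧ b ≠ w₀ F ∧ b * w₀ F = w₀ F * b ∧ b⁻¹ = b ∧
      ∀ a c : F, b * U (a * s.1 + c * d.1, a * s.2 + c * d.2) * b⁻¹ = U (-(a * s.1) + c * d.1, -(a * s.2) + c * d.2) := by
  have hD' : s.1 * d.2 - s.2 * d.1 ≠ 0 := hD
  have hd : (reflM s d).det = 1 := by
    simp [reflM, Matrix.det_fin_three, cross]
    field_simp
    ring
  set g : SL3 F := ⟨reflM s d, hd⟩
  have hgv : g.1 = reflM s d := rfl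
  have hw : pr g * w₀ F = w₀ F * pr g := by
    rw [w₀, ← map_mul, ← map_mul]; congr 1; apply Subtype.ext
    ext i j
    simp only [Matrix.SpecialLinearGroup.coe_mul, tS_val, hgv]
    rw [mul_two, mul_two]
    fin_cases i <;> fin_cases j <;> simp [reflM, dgT]
  have hsq : pr g * pr g = 1 := by
    rw [← map_mul, show g * g = 1 from Subtype.ext ?_, map_one]
    show reflM s d * reflM s d = 1
    ext i j
    rw [mul_two]
    fin_cases i <;> fin_cases j <;> simp [reflM] <;> field_simp <;> simp only [cross] <;> ring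
  have hinv : (pr g)⁻¹ = pr g := inv_eq_of_mul_eq_one_right hsq
  have hact : ∀ a c : F, pr g * U (a * s.1 + c * d.1, a * s.2 + c * d.2) * (pr g)⁻¹ =
      U (-(a * s.1) + c * d.1, -(a * s.2) + c * d.2) := by
    intro a c
    rw [mul_inv_eq_iff_eq_mul, U, U, ← map_mul, ← map_mul]; congr 1; apply Subtype.ext
    ext i j
    simp only [Matrix.SpecialLinearGroup.coe_mul, upR_val, hgv]
    simp only [mul_two]
    fin_cases i <;> fin_cases j <;> simp [reflM] <;> field_simp <;> simp only [cross] <;> ring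
  have hd0 : d ≠ 0 := fun e => hD (by simp [cross, e])
  have hUd : pr g * U d * (pr g)⁻¹ = U d := by simpa using hact 0 1
  have hneg : U (-d) ≠ U d := fun e => hd0 (by
    have h' := U_injective e
    have a := congrArg Prod.fst h'
    have b := congrArg Prod.snd h'
    simp only [Prod.fst_neg, Prod.snd_neg] at a b
    exact Prod.ext ((mul_eq_zero.mp (show (2 : F) * d.1 = 0 by linear_combination -a)).resolve_left h2)
      ((mul_eq_zero.mp (show (2 : F) * d.2 = 0 by linear_combination -b)).resolve_left h2))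
  refine ⟨pr g, orderOf_eq_prime (by rw [sq, hsq]) fun e => ?_, fun e => ?_, hw, hinv, hact⟩
  · have hs : U s = U (-s) := by simpa [e, show -s = (-s.1, -s.2) from rfl] using hact 1 0
    have h' := U_injective hs
    have a := congrArg Prod.fst h'
    have b := congrArg Prod.snd h'
    simp only [Prod.fst_neg, Prod.snd_neg] at a b
    exact hD (by
      rw [cross, (mul_eq_zero.mp (show (2 : F) * s.1 = 0 by linear_combination a)).resolve_left h2,
        (mul_eq_zero.mp (show (2 : F) * s.2 = 0 by linear_combination b)).resolve_left h2]; ring)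
  · rw [e, inv_eq_of_mul_eq_one_right w₀_sq, w₀_U] at hUd
    exact hneg hUd

theorem split_up (h2 : (2 : F) ≠ 0) {p : ℕ} {R : Subgroup (P3 F)} (h : Inv p (w₀ F) R) (hR : IsUp R)
    (φ : P3 F ≃* P3 F) (hw : φ (w₀ F) = w₀ F) (hs : ∀ r ∈ R, φ r ∈ R) (hsq : ∀ x, φ (φ x) = x) :
    ∃ b, orderOf b = 2 ∧ b ≠ w₀ F ∧ b * w₀ F = w₀ F * b ∧ φ b = b := by
  choose α hα using fun v => (hR _).mp (hs _ ((hR _).mpr ⟨v, rfl⟩))
  have hadd : ∀ v w, α (v + w) = α v + α w := fun v w => U_injective (by
    rw [← U_mul, ← hα, ← hα, ← hα, ← map_mul, U_mul])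
  have hαα : ∀ v, α (α v) = v := fun v => U_injective (by rw [← hα, ← hα, hsq])
  have hα0 : α 0 = 0 := U_injective (by rw [← hα, U_zero, map_one])
  have hαneg : ∀ v, α (-v) = -α v := fun v => eq_neg_of_add_eq_zero_left (by rw [← hadd, neg_add_cancel, hα0])
  have hline : ∀ v w, v ≠ 0 → cross v w = 0 → cross (α v) (α w) = 0 := by
    intro v w hv hvw
    have hαv : α v ≠ 0 := fun e => hv (by rw [← hαα v, e, hα0])
    refine (line_iff h2 hαv).mpr fun c hc hcv => ?_
    have key := (line_iff h2 hv).mp hvw (φ c) ?_ ?_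
    · have e := congrArg φ key
      rwa [map_mul, map_mul, hsq, hα] at e
    · have := congrArg φ hc
      rwa [map_mul, map_mul, hw] at this
    · have := congrArg φ hcv
      rwa [map_mul, map_mul, ← hα, hsq] at this
  obtain ⟨b₀, hb₀, hb₀w, hb₀c, -, -⟩ := exists_refl (F := F) h2 (s := (1, 0)) (d := (0, 1)) (by simp [cross])
  by_cases hid : ∀ v, α v = v
  · have := rigid_up h2 h hR φ hw (fun r hr => by
      obtain ⟨v, rfl⟩ := (hR r).mp hr
      rw [hα, hid])
    exact ⟨b₀, hb₀, hb₀w, hb₀c, this _⟩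
  by_cases hneg : ∀ v, α v = -v
  · have := rigid_up h2 h hR (φ.trans (MulAut.conj (w₀ F))) (by simp [hw]) (fun r hr => by
      obtain ⟨v, rfl⟩ := (hR r).mp hr
      show w₀ F * φ (U v) * (w₀ F)⁻¹ = U v
      rw [hα, hneg, inv_eq_of_mul_eq_one_right w₀_sq, w₀_U, neg_neg])
    refine ⟨b₀, hb₀, hb₀w, hb₀c, ?_⟩
    have e : w₀ F * φ b₀ * (w₀ F)⁻¹ = b₀ := this b₀
    rw [mul_inv_eq_iff_eq_mul, hb₀c] at e
    exact mul_left_cancel e
  push Not at hid hneg
  obtain ⟨v₁, hv₁⟩ := hid
  obtain ⟨v₂, hv₂⟩ := hneg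
  have hd₀ : v₁ - α v₁ ≠ 0 := sub_ne_zero.mpr fun e => hv₁ e.symm
  have hs₀ : v₂ + α v₂ ≠ 0 := fun e => hv₂ (eq_neg_of_add_eq_zero_right e)
  have hsub : ∀ v w, α (v - w) = α v - α w := fun v w => by rw [sub_eq_add_neg, hadd, hαneg, ← sub_eq_add_neg]
  obtain ⟨s, d, hsd, hαs, hαd⟩ : ∃ s d, cross s d ≠ 0 ∧ α s = s ∧ α d = -d := by
    by_contra hno
    push Not at hno
    have f1 : ∀ v, α (v + α v) = v + α v := fun v => by rw [hadd, hαα, add_comm]
    have f2 : ∀ v, α (v - α v) = -(v - α v) := fun v => by rw [hsub, hαα, neg_sub]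
    set s₀ := v₂ + α v₂
    set d₀ := v₁ - α v₁
    have hsd0 : cross s₀ d₀ = 0 := by by_contra h'; exact hno _ _ h' (f1 _) (f2 _)
    have hall : ∀ v, cross s₀ v = 0 := by
      intro v
      have a1 : cross (v + α v) d₀ = 0 := by by_contra h'; exact hno _ _ h' (f1 _) (f2 _)
      have a2 : cross s₀ (v - α v) = 0 := by by_contra h'; exact hno _ _ h' (f1 _) (f2 _)
      have a3 : cross s₀ (v + α v) = 0 := by
        unfold cross at a1 hsd0 ⊢
        rcases (show d₀.1 ≠ 0 ∨ d₀.2 ≠ 0 by by_contra hh; push Not at hh; exact hd₀ (Prod.ext hh.1 hh.2)) with e | e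
        · exact (mul_eq_zero.mp (show d₀.1 * (s₀.1 * (v + α v).2 - s₀.2 * (v + α v).1) = 0 by
            linear_combination (v + α v).1 * hsd0 - s₀.1 * a1)).resolve_left e
        · exact (mul_eq_zero.mp (show d₀.2 * (s₀.1 * (v + α v).2 - s₀.2 * (v + α v).1) = 0 by
            linear_combination (v + α v).2 * hsd0 - s₀.2 * a1)).resolve_left e
      unfold cross at a2 a3 ⊢
      simp only [Prod.fst_add, Prod.snd_add, Prod.fst_sub, Prod.snd_sub] at a2 a3
      exact (mul_eq_zero.mp (show (2 : F) * (s₀.1 * v.2 - s₀.2 * v.1) = 0 by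
        linear_combination a2 + a3)).resolve_left h2
    have e1 := hall (1, 0)
    have e2 := hall (0, 1)
    simp [cross] at e1 e2
    exact hs₀ (Prod.ext e2 e1)
  have hs0 : s ≠ 0 := fun e => hsd (by simp [cross, e])
  have hd0 : d ≠ 0 := fun e => hsd (by simp [cross, e])
  obtain ⟨b, hb, hbw, hbc, hbi, hact⟩ := exists_refl h2 hsd
  refine ⟨b, hb, hbw, hbc, ?_⟩
  have hmult : ∀ {u : F × F} {y : F × F}, u ≠ 0 → cross u y = 0 → ∃ a : F, y = (a * u.1, a * u.2) := by
    intro u y hu hc
    unfold cross at hc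
    rcases (show u.1 ≠ 0 ∨ u.2 ≠ 0 by by_contra hh; push Not at hh; exact hu (Prod.ext hh.1 hh.2)) with e | e
    · exact ⟨y.1 / u.1, Prod.ext (by simp [div_mul_cancel₀ _ e]) (by field_simp; linear_combination hc)⟩
    · exact ⟨y.2 / u.2, Prod.ext (by field_simp; linear_combination -hc) (by simp [div_mul_cancel₀ _ e])⟩
  have hcomb : ∀ v : F × F, ∃ a c : F, v = (a * s.1 + c * d.1, a * s.2 + c * d.2) := fun v =>
    ⟨(v.1 * d.2 - v.2 * d.1) / cross s d, (s.1 * v.2 - s.2 * v.1) / cross s d, Prod.ext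
      (by field_simp; unfold cross; ring) (by field_simp; unfold cross; ring)⟩
  -- `φ` commutes with the reflection on the radical
  have hcomm : ∀ v, φ b * U v * (φ b)⁻¹ = b * U v * b⁻¹ := by
    intro v
    obtain ⟨y, rfl⟩ : ∃ y, α y = v := ⟨α v, hαα v⟩
    obtain ⟨a, c, rfl⟩ := hcomb y
    obtain ⟨a', ha'⟩ := hmult hs0 (show cross s (α (a * s.1, a * s.2)) = 0 by
      have h' := hline s (a * s.1, a * s.2) hs0 (by simp [cross]; ring)
      rwa [hαs] at h')
    obtain ⟨c', hc'⟩ := hmult hd0 (show cross d (α (c * d.1, c * d.2)) = 0 by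
      have h' := hline d (c * d.1, c * d.2) hd0 (by simp [cross]; ring)
      rw [hαd] at h'
      unfold cross at h' ⊢
      simp only [Prod.fst_neg, Prod.snd_neg] at h'
      linear_combination -h')
    have e1 : α (a * s.1 + c * d.1, a * s.2 + c * d.2) = (a' * s.1 + c' * d.1, a' * s.2 + c' * d.2) := by
      rw [show ((a * s.1 + c * d.1, a * s.2 + c * d.2) : F × F) = (a * s.1, a * s.2) + (c * d.1, c * d.2) from rfl,
        hadd, ha', hc', Prod.mk_add_mk]
    have e2 : α (-(a * s.1) + c * d.1, -(a * s.2) + c * d.2) = (-(a' * s.1) + c' * d.1, -(a' * s.2) + c' * d.2) := by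
      rw [show ((-(a * s.1) + c * d.1, -(a * s.2) + c * d.2) : F × F) = -(a * s.1, a * s.2) + (c * d.1, c * d.2) from rfl,
        hadd, hαneg, ha', hc', Prod.neg_mk, Prod.mk_add_mk]
    calc φ b * U (α (a * s.1 + c * d.1, a * s.2 + c * d.2)) * (φ b)⁻¹
        = φ (b * U (a * s.1 + c * d.1, a * s.2 + c * d.2) * b⁻¹) := by rw [map_mul, map_mul, map_inv, hα]
      _ = U (α (-(a * s.1) + c * d.1, -(a * s.2) + c * d.2)) := by rw [hact, hα]
      _ = U (-(a' * s.1) + c' * d.1, -(a' * s.2) + c' * d.2) := by rw [e2]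
      _ = _ := by rw [e1, hact]
  have hφc : φ b * w₀ F = w₀ F * φ b := by
    have := congrArg φ hbc
    rwa [map_mul, map_mul, hw] at this
  have := eq_one_of_cent h2 (c := b * φ b) ?_ ?_
  · rw [mul_eq_one_iff_inv_eq, hbi] at this; exact this.symm
  · rw [mul_assoc, hφc, ← mul_assoc, hbc, mul_assoc]
  · intro v
    calc b * φ b * U v = b * (φ b * U v * (φ b)⁻¹) * φ b := by group
      _ = b * b * U v * b⁻¹ * φ b := by rw [hcomm]; group
      _ = U v * (b * φ b) := by
        rw [show b * b = 1 by nth_rewrite 1 [← hbi]; exact inv_mul_cancel b, one_mul, hbi, mul_assoc]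

/-- The facts for `PSL₃`. -/
theorem radFacts (h2 : (2 : F) ≠ 0) : RadFacts (P3 F) := by
  refine RadFacts.of_at (w₀ := w₀ F) (exists_conj h2) (fun {p q R R'} h h' => ?_) (fun {p R} h φ hw hf => ?_)
    (fun {p R} h φ hw hs hsq => ?_)
  · obtain ⟨ℓ, hℓ⟩ := CharP.exists F
    have hl := CharP.char_is_prime F ℓ
    have e1 := (CharP.cast_eq_zero_iff F ℓ p).mp (classify h2 h).1
    have e2 := (CharP.cast_eq_zero_iff F ℓ q).mp (classify h2 h').1
    rw [← (Nat.prime_dvd_prime_iff_eq hl h.prime).mp e1, (Nat.prime_dvd_prime_iff_eq hl h'.prime).mp e2]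
  · rcases (classify h2 h).2 with hR | hR
    · exact rigid_up h2 h hR φ hw hf
    · have h' : Inv p (w₀ F) (R.map (theta (F := F)).toMonoidHom) := theta_w₀ (F := F) ▸ h.map theta
      have hθ : (theta (F := F)).symm (w₀ F) = w₀ F := by
        conv_lhs => rw [← theta_w₀ (F := F)]
        rw [MulEquiv.symm_apply_apply]
      intro x
      have := rigid_up h2 h' hR (theta.symm.trans (φ.trans theta)) (by simp [hθ, hw, theta_w₀])
        (by rintro _ ⟨r, hr, rfl⟩; simp [hf r hr]) (theta x)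
      simpa using this
  · rcases (classify h2 h).2 with hR | hR
    · exact split_up h2 h hR φ hw hs hsq
    · have h' : Inv p (w₀ F) (R.map (theta (F := F)).toMonoidHom) := theta_w₀ (F := F) ▸ h.map theta
      have hθ : (theta (F := F)).symm (w₀ F) = w₀ F := by
        conv_lhs => rw [← theta_w₀ (F := F)]
        rw [MulEquiv.symm_apply_apply]
      obtain ⟨b, hb, hbw, hbc, hφ⟩ := split_up h2 h' hR (theta.symm.trans (φ.trans theta))
        (by simp [hθ, hw, theta_w₀]) (by rintro _ ⟨r, hr, rfl⟩; exact ⟨φ r, hs r hr, by simp⟩)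
        (fun y => by simp [hsq])
      refine ⟨(theta (F := F)).symm b, by rw [MulEquiv.orderOf_eq]; exact hb, fun e => hbw ?_, ?_, ?_⟩
      · rw [← theta_w₀, ← e, MulEquiv.apply_symm_apply]
      · have := congrArg (theta (F := F)).symm hbc
        rwa [map_mul, map_mul, hθ] at this
      · exact (theta (F := F)).injective (by simpa using hφ)

end CfsgLib.RankTwoModel.L3
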