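import Cfsg.Agent.Lib.RankTwoModel.RadDefs
import Cfsg.Agent.Lib.SimpleM11.Columns
import Cfsg.Agent.Lib.SimpleM11.ThreeTI
import Cfsg.Agent.Lib.SimpleM11.Five

/-!
`M₁₁` has no moved odd radical.
-/

set_option autoImplicit false
set_option linter.unusedSectionVars false

namespace CfsgLib.RankTwoModel

open Cfsg

universe u

variable {X : Type u} [Group X] [Finite X]

theorem zpowers_eq_of_card {x : X} {R : Subgroup X} (hx : x ∈ R) (h : Nat.card R = orderOf x) :
    Subgroup.zpowers x = R :=
  Subgroup.eq_of_le_of_card_ge (Subgroup.zpowers_le.mpr hx) (by rw [h, Nat.card_zpowers])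

theorem inv_m11_false (hM : Cfsg.IsM11 X) {p : ℕ} {w : X} {R : Subgroup X} (h : Inv p w R) : False := by
  classical
  haveI := Fintype.ofFinite X
  haveI := Fact.mk h.prime
  obtain ⟨r₀, hr₀, hne⟩ := h.moved
  obtain ⟨n, hn⟩ := IsPGroup.iff_card.mp h.pgroup
  have hn0 : n ≠ 0 := fun e => hne (by
    rw [e, pow_zero, Subgroup.card_eq_one] at hn
    rw [hn, Subgroup.mem_bot] at hr₀
    rw [hr₀, one_mul, mul_one])
  have hX : Nat.card X = 7920 := hM.2
  have hdvd : p ^ n ∣ 7920 := hn ▸ hX ▸ Subgroup.card_subgroup_dvd_card R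
  have hC : Nat.card (Subgroup.centralizer ({w} : Set X)) = 48 := CfsgSimpleM11.cent_involution hM h.word
  -- a cyclic group normalised by the centraliser
  have key : ∀ (x : X) (F₀ : Subgroup X), Subgroup.zpowers x = F₀ →
      (∀ c, c * w = w * c → ∀ r ∈ F₀, c * r * c⁻¹ ∈ F₀) →
      48 ∣ Nat.card (Subgroup.normalizer ((Subgroup.zpowers x : Subgroup X) : Set X)) := by
    intro x F₀ e hF
    rw [← hC, e]
    refine Subgroup.card_dvd_of_le fun c hc => ?_
    have hc' := Subgroup.mem_centralizer_singleton_iff.mp hc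
    refine Subgroup.mem_normalizer_iff.mpr fun r => ⟨hF c hc' r, fun hr => ?_⟩
    have := hF c⁻¹ (by rw [inv_mul_eq_iff_eq_mul, ← mul_assoc, hc', mul_inv_cancel_right]) _ hr
    simpa [mul_assoc] using this
  obtain ⟨x, hx⟩ := exists_prime_orderOf_dvd_card' (G := R) p (by rw [hn]; exact dvd_pow_self p hn0)
  rw [← Subgroup.orderOf_coe] at hx
  have hpd : p ∣ 7920 := (dvd_pow_self p hn0).trans hdvd
  have hp : p = 3 ∨ p = 5 ∨ p = 11 := by
    have h1 : p ∣ 2 ^ 4 * 3 ^ 2 * 5 * 11 := by norm_num; exact hpd
    rcases h.prime.dvd_mul.mp h1 with h1 | h1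
    · rcases h.prime.dvd_mul.mp h1 with h1 | h1
      · rcases h.prime.dvd_mul.mp h1 with h1 | h1
        · exact absurd ((Nat.prime_dvd_prime_iff_eq h.prime Nat.prime_two).mp (h.prime.dvd_of_dvd_pow h1)) h.two
        · exact Or.inl ((Nat.prime_dvd_prime_iff_eq h.prime Nat.prime_three).mp (h.prime.dvd_of_dvd_pow h1))
      · exact Or.inr (Or.inl ((Nat.prime_dvd_prime_iff_eq h.prime (by norm_num)).mp h1))
    · exact Or.inr (Or.inr ((Nat.prime_dvd_prime_iff_eq h.prime (by norm_num)).mp h1))
  have hone : p ≠ 3 → n = 1 := by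
    intro h3
    by_contra hn1
    have h2 : p ^ 2 ∣ 7920 := (pow_dvd_pow p (by omega)).trans hdvd
    rcases hp with rfl | rfl | rfl
    · exact h3 rfl
    all_goals norm_num at h2
  rcases hp with rfl | rfl | rfl
  · -- `p = 3`
    have h3 : ∀ y : X, orderOf y = 3 → ∀ F₀ : Subgroup X, Subgroup.zpowers y = F₀ →
        (∀ c, c * w = w * c → ∀ r ∈ F₀, c * r * c⁻¹ ∈ F₀) → False := by
      intro y hy F₀ e hF
      have h1 := key y F₀ e hF
      set N := Subgroup.normalizer ((Subgroup.zpowers y : Subgroup X) : Set X)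
      set C := Subgroup.centralizer ({y} : Set X)
      have hCN : C ≤ N := CfsgSimpleM11.cent_le_norm y
      -- `N / C` embeds in the automorphisms of a group of order three
      haveI hnorm : (C.subgroupOf N).Normal := CfsgSimpleM11.cent_normal_subgroupOf y
      have hindex : (C.subgroupOf N).index ≤ 2 := by
        have hsame : ∀ a : N, (a : X) * y * (a : X)⁻¹ = y ∨ (a : X) * y * (a : X)⁻¹ = y⁻¹ := by
          intro a
          have hm : (a : X) * y * (a : X)⁻¹ ∈ Subgroup.zpowers y :=
            (Subgroup.mem_normalizer_iff.mp a.2 y).mp (Subgroup.mem_zpowers y)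
          obtain ⟨k, hk⟩ := mem_zpowers_iff_mem_range_orderOf.mp hm |> Finset.mem_image.mp
          obtain ⟨hk, hk'⟩ := hk
          rw [Finset.mem_range, hy] at hk
          interval_cases k
          · exfalso
            rw [pow_zero] at hk'
            have : orderOf ((a : X) * y * (a : X)⁻¹) = 3 := by rw [CfsgLib.BG.orderOf_conj]; exact hy
            rw [← hk', orderOf_one] at this; omega
          · exact Or.inl (by rw [← hk', pow_one])
          · refine Or.inr (by rw [← hk']; exact eq_inv_of_mul_eq_one_left (by rw [← pow_succ, show 2 + 1 = orderOf y by omega, pow_orderOf_eq_one]))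
        by_cases hex : ∃ a : N, (a : X) * y * (a : X)⁻¹ = y⁻¹
        · obtain ⟨a, ha⟩ := hex
          refine le_trans (Nat.card_le_card_of_surjective
            (fun i : Bool => ((if i then a else 1 : N) : N ⧸ C.subgroupOf N)) fun q => ?_) (by simp)
          obtain ⟨b, rfl⟩ := QuotientGroup.mk_surjective q
          rcases hsame b with hb | hb
          · refine ⟨false, ?_⟩
            simp only [Bool.false_eq_true, if_false]
            rw [QuotientGroup.eq, inv_one, one_mul, Subgroup.mem_subgroupOf, Subgroup.mem_centralizer_singleton_iff]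
            rwa [← mul_inv_eq_iff_eq_mul]
          · refine ⟨true, ?_⟩
            simp only [if_true]
            rw [QuotientGroup.eq, Subgroup.mem_subgroupOf, Subgroup.mem_centralizer_singleton_iff,
              Subgroup.coe_mul, Subgroup.coe_inv, ← mul_inv_eq_iff_eq_mul]
            have : (a : X)⁻¹ * y⁻¹ * a = y := by rw [← ha]; group
            calc (a : X)⁻¹ * b * y * ((a : X)⁻¹ * b)⁻¹ = (a : X)⁻¹ * ((b : X) * y * (b : X)⁻¹) * a := by group
              _ = y := by rw [hb, this]
        · refine le_trans (le_of_eq (Subgroup.index_eq_one.mpr (eq_top_iff.mpr fun b _ => ?_))) one_le_two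
          rw [Subgroup.mem_subgroupOf, Subgroup.mem_centralizer_singleton_iff, ← mul_inv_eq_iff_eq_mul]
          exact (hsame b).resolve_right fun e => hex ⟨b, e⟩
      have hle : Nat.card N ≤ 36 := by
        rw [← Subgroup.card_mul_index (C.subgroupOf N), Nat.card_congr (Subgroup.subgroupOfEquivOfLe hCN).toEquiv,
          CfsgSimpleM11.cent3 hM hy]
        omega
      have := Nat.le_of_dvd Nat.card_pos h1
      omega
    have hn2 : n ≤ 2 := by
      by_contra hn3
      have h27 : 3 ^ 3 ∣ 7920 := (pow_dvd_pow 3 (by omega)).trans hdvd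
      norm_num at h27
    rcases (show n = 1 ∨ n = 2 by omega) with rfl | rfl
    · exact h3 x hx R (zpowers_eq_of_card x.2 (by rw [hn, pow_one, hx])) h.norm
    · -- the fixed part of a Sylow subgroup
      set F₀ := R ⊓ Subgroup.centralizer ({w} : Set X) with hF₀
      have hFn : ∀ c, c * w = w * c → ∀ r ∈ F₀, c * r * c⁻¹ ∈ F₀ := by
        intro c hc r hr
        refine ⟨h.norm c hc r hr.1, Subgroup.mem_centralizer_singleton_iff.mpr ?_⟩
        have h2 := Subgroup.mem_centralizer_singleton_iff.mp hr.2
        have h3 : c⁻¹ * w = w * c⁻¹ := by rw [inv_mul_eq_iff_eq_mul, ← mul_assoc, hc, mul_inv_cancel_right]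
        calc c * r * c⁻¹ * w = c * (r * w) * c⁻¹ := by rw [mul_assoc, h3]; group
          _ = c * w * (r * c⁻¹) := by rw [h2]; group
          _ = _ := by rw [hc]; group
      -- it is not trivial: the centraliser has an element of order three
      obtain ⟨c, hc⟩ := exists_prime_orderOf_dvd_card' (G := Subgroup.centralizer ({w} : Set X)) 3 (by rw [hC]; norm_num)
      rw [← Subgroup.orderOf_coe] at hc
      have hcR : (c : X) ∈ R := by
        -- `R` is a Sylow subgroup normalised by `c`
        have hsyl : ∀ Q : Subgroup X, IsPGroup 3 Q → Nat.card Q ≤ 9 := by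
          intro Q hQ
          obtain ⟨m, hm⟩ := IsPGroup.iff_card.mp hQ
          have hmd : 3 ^ m ∣ 7920 := hm ▸ hX ▸ Subgroup.card_subgroup_dvd_card Q
          have : m ≤ 2 := by
            by_contra hm3
            have h27 : 3 ^ 3 ∣ 7920 := (pow_dvd_pow 3 (by omega)).trans hmd
            norm_num at h27
          rw [hm]; calc 3 ^ m ≤ 3 ^ 2 := Nat.pow_le_pow_right (by norm_num) this
            _ = 9 := by norm_num
        have hnorm : Subgroup.zpowers (c : X) ≤ Subgroup.normalizer (R : Set X) := by
          rw [Subgroup.zpowers_le]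
          have hc' := Subgroup.mem_centralizer_singleton_iff.mp c.2
          refine Subgroup.mem_normalizer_iff.mpr fun r => ⟨h.norm c hc' r, fun hr => ?_⟩
          have := h.norm (c : X)⁻¹ (by rw [inv_mul_eq_iff_eq_mul, ← mul_assoc, hc', mul_inv_cancel_right]) _ hr
          simpa [mul_assoc] using this
        have hQ : IsPGroup 3 (Subgroup.zpowers (c : X) ⊔ R : Subgroup X) :=
          IsPGroup.to_sup_of_normal_right' (IsPGroup.of_card (n := 1) (by rw [Nat.card_zpowers, hc, pow_one]))
            h.pgroup hnorm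
        have := Subgroup.eq_of_le_of_card_ge (le_sup_right : R ≤ Subgroup.zpowers (c : X) ⊔ R)
          (by rw [hn]; exact (hsyl _ hQ).trans (by norm_num))
        rw [this]
        exact Subgroup.mem_sup_left (Subgroup.mem_zpowers _)
      have hcF : (c : X) ∈ F₀ := ⟨hcR, c.2⟩
      obtain ⟨m, hm⟩ := IsPGroup.iff_card.mp (h.pgroup.to_le (inf_le_left : F₀ ≤ R))
      have hm2 : m ≤ 2 := (Nat.pow_dvd_pow_iff_le_right (by norm_num : 1 < 3)).mp
        (hm ▸ hn ▸ Subgroup.card_dvd_of_le inf_le_left)
      rcases (show m = 0 ∨ m = 1 ∨ m = 2 by omega) with rfl | rfl | rfl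
      · rw [pow_zero, Subgroup.card_eq_one] at hm
        have e : F₀ = ⊥ := hm
        rw [e, Subgroup.mem_bot] at hcF
        rw [hcF, orderOf_one] at hc; omega
      · exact h3 c hc F₀ (zpowers_eq_of_card hcF (by rw [hm, pow_one, hc])) hFn
      · have := Subgroup.eq_of_le_of_card_ge (inf_le_left : F₀ ≤ R) (by rw [hm, hn])
        rw [← this] at hr₀
        exact hne (Subgroup.mem_centralizer_singleton_iff.mp hr₀.2)
  · have hcard : Nat.card R = 5 := by rw [hn, hone (by norm_num), pow_one]
    have := key x R (zpowers_eq_of_card x.2 (by rw [hcard, hx])) h.norm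
    rw [(CfsgSimpleM11.cent5 hM hx).2] at this
    omega
  · have hcard : Nat.card R = 11 := by rw [hn, hone (by norm_num), pow_one]
    have := key x R (zpowers_eq_of_card x.2 (by rw [hcard, hx])) h.norm
    rw [CfsgSimpleM11.norm11 hM hx] at this
    omega

theorem radFacts_m11 (hM : Cfsg.IsM11 X) : RadFacts X := RadFacts.of_none (inv_m11_false hM)

end CfsgLib.RankTwoModel
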