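import Cfsg.Agent.Lib.RankTwoModel.RadLinear
import Cfsg.Prelude.Def_Classical

/-!
`PSU₃(q)`, `q` odd, has no moved odd radical: a radical of `PSL₃(q²)` meets it trivially.
-/

set_option autoImplicit false
set_option linter.unusedSectionVars false

namespace CfsgLib.RankTwoModel.U3

open Matrix Cfsg

variable {F : Type} [Field F] [Fintype F] {q : ℕ}

/-- The constants: `ζ^(q+1) = -1`, `τ^q = -τ`, and the Frobenius is additive. -/
theorem exists_consts (hcard : Fintype.card F = q ^ 2) (hq : Odd q) :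
    ∃ ζ τ : F, ζ ^ q * ζ = -1 ∧ τ ≠ 0 ∧ τ ^ q = -τ ∧ (∀ a b : F, (a + b) ^ q = a ^ q + b ^ q) ∧
      (∀ a : F, (a ^ q) ^ q = a) ∧ (2 : F) ≠ 0 := by
  have h2 : (2 : F) ≠ 0 := Ring.two_ne_zero fun h => by
    have := (FiniteField.even_card_iff_char_two).mp h |> Nat.even_iff.mpr
    rw [hcard] at this
    exact Nat.not_even_iff_odd.mpr hq.pow this
  obtain ⟨p, hp⟩ := CharP.exists F
  obtain ⟨n, hpp, hn⟩ := FiniteField.card F p
  haveI := Fact.mk hpp
  have hqd : q ∣ p ^ (n : ℕ) := ⟨q, by rw [← hn, hcard, sq]⟩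
  obtain ⟨k, -, hk⟩ := (Nat.dvd_prime_pow hpp).mp hqd
  obtain ⟨g, hg⟩ := IsCyclic.exists_generator (α := Fˣ)
  have hord : orderOf g = q ^ 2 - 1 := by
    rw [orderOf_eq_card_of_forall_mem_zpowers hg, Nat.card_units, Nat.card_eq_fintype_card, hcard]
  obtain ⟨m, rfl⟩ := hq
  have hm : 0 < m := by
    rcases Nat.eq_zero_or_pos m with rfl | h
    · exfalso
      rw [show (2 * 0 + 1) ^ 2 = 1 from rfl] at hcard
      exact absurd hcard (Nat.ne_of_gt Fintype.one_lt_card)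
    · exact h
  have hhalf : ((g ^ (2 * m * (m + 1)) : Fˣ) : F) = -1 := by
    have h1 : ((g ^ (2 * m * (m + 1)) : Fˣ) : F) * ((g ^ (2 * m * (m + 1)) : Fˣ) : F) = 1 := by
      rw [← Units.val_mul, ← pow_add, show 2 * m * (m + 1) + 2 * m * (m + 1) = orderOf g by
        rw [hord]; exact (Nat.sub_eq_of_eq_add (by ring)).symm, pow_orderOf_eq_one, Units.val_one]
    rcases mul_self_eq_one_iff.mp h1 with e | e
    · exfalso
      have := orderOf_dvd_of_pow_eq_one (Units.ext e : g ^ (2 * m * (m + 1)) = 1)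
      rw [hord] at this
      have hsq : (2 * m + 1) ^ 2 - 1 = 2 * (2 * m * (m + 1)) := Nat.sub_eq_of_eq_add (by ring)
      rw [hsq] at this
      have hpos : 0 < 2 * m * (m + 1) := by positivity
      have := Nat.le_of_dvd hpos this
      omega
    · exact e
  refine ⟨((g ^ m : Fˣ) : F), ((g ^ (m + 1) : Fˣ) : F), ?_, Units.ne_zero _, ?_, fun a b => ?_, fun a => ?_, h2⟩
  · rw [← Units.val_pow_eq_pow_val, ← Units.val_mul, ← pow_mul, ← pow_add,
      show m * (2 * m + 1) + m = 2 * m * (m + 1) by ring, hhalf]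
  · rw [← Units.val_pow_eq_pow_val, ← pow_mul, show (m + 1) * (2 * m + 1) = 2 * m * (m + 1) + (m + 1) by ring,
      pow_add, Units.val_mul, hhalf, neg_one_mul]
  · rw [hk]; exact add_pow_char_pow a b p k
  · rw [← pow_mul, ← sq, ← hcard]; exact FiniteField.pow_card a

/-- A unitary transvection of the block. -/
def trM (τ ζ : F) (q : ℕ) : Matrix (Fin 3) (Fin 3) F :=
  !![1 + τ, τ * ζ ^ q, 0; τ * ζ, 1 - τ, 0; 0, 0, 1]

/-- A unitary transvection outside the block. -/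
def trM' (τ ζ : F) (q : ℕ) : Matrix (Fin 3) (Fin 3) F :=
  !![1 + τ, 0, τ * ζ ^ q; 0, 1, 0; τ * ζ, 0, 1 - τ]

theorem mem_SU_iff {g : Matrix.SpecialLinearGroup (Fin 3) F} :
    g ∈ Cfsg.SU 3 F q ↔ ∀ u v, hermForm 3 F q (g.1 *ᵥ u) (g.1 *ᵥ v) = hermForm 3 F q u v := Iff.rfl

theorem no_inv (hcard : Fintype.card F = q ^ 2) (hq : Odd q)
    (hconj : ∀ a b : Cfsg.PSU 3 F q, orderOf a = 2 → orderOf b = 2 → ∃ g, g * a * g⁻¹ = b)
    {p : ℕ} {w : Cfsg.PSU 3 F q} {R : Subgroup (Cfsg.PSU 3 F q)} (h : Inv p w R) : False := by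
  obtain ⟨ζ, τ, hζ, hτ, hτq, hadd, hinv, h2⟩ := exists_consts hcard hq
  have hq0 : q ≠ 0 := fun e => by rw [e] at hq; simp at hq
  have hζ0 : ζ ≠ 0 := fun e => by rw [e, mul_zero] at hζ; exact one_ne_zero (neg_eq_zero.mp hζ.symm)
  have hneg : ∀ a : F, (-a) ^ q = -(a ^ q) := fun a => hq.neg_pow a
  have hζ' : (-ζ) ^ q * -ζ = -1 := by rw [hneg]; linear_combination hζ
  have h0 : (0 : F) ^ q = 0 := zero_pow hq0
  have hsub : ∀ a b : F, (a - b) ^ q = a ^ q - b ^ q := fun a b => by rw [sub_eq_add_neg, hadd, hneg, ← sub_eq_add_neg]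
  -- the elements
  have hmem : ∀ {z : F}, z ^ q * z = -1 → ∀ (hd : (trM τ z q).det = 1),
      (⟨trM τ z q, hd⟩ : Matrix.SpecialLinearGroup (Fin 3) F) ∈ Cfsg.SU 3 F q := by
    intro z hz hd
    refine mem_SU_iff.mpr fun u v => ?_
    simp [trM, hermForm, Matrix.mulVec, dotProduct, Fin.sum_univ_three, hadd, hsub, mul_pow, hτq, hinv, h0]
    linear_combination -(τ * τ) * (u 0 * v 0 ^ q + u 1 * v 1 ^ q) * hz
  have hdet : ∀ {z : F}, z ^ q * z = -1 → (trM τ z q).det = 1 := fun {z} hz => by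
    simp [trM, Matrix.det_fin_three]; linear_combination -(τ * τ) * hz
  have hdet' : ∀ {z : F}, z ^ q * z = -1 → (trM' τ z q).det = 1 := fun {z} hz => by
    simp [trM', Matrix.det_fin_three]; linear_combination -(τ * τ) * hz
  have hmem' : ∀ (hd : (trM' τ ζ q).det = 1),
      (⟨trM' τ ζ q, hd⟩ : Matrix.SpecialLinearGroup (Fin 3) F) ∈ Cfsg.SU 3 F q := by
    intro hd
    refine mem_SU_iff.mpr fun u v => ?_
    simp [trM', hermForm, Matrix.mulVec, dotProduct, Fin.sum_univ_three, hadd, hsub, mul_pow, hτq, hinv, h0]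
    linear_combination -(τ * τ) * (u 0 * v 0 ^ q + u 2 * v 2 ^ q) * hζ
  have hd0 : (dgT F).det = 1 := by simp [dgT, Matrix.det_fin_three]
  have hmem0 : (⟨dgT F, hd0⟩ : Matrix.SpecialLinearGroup (Fin 3) F) ∈ Cfsg.SU 3 F q := by
    refine mem_SU_iff.mpr fun u v => ?_
    simp [dgT, hermForm, Matrix.mulVec, dotProduct, Fin.sum_univ_three, hneg, h0]
  let π : Cfsg.SU 3 F q →* Cfsg.PSU 3 F q := QuotientGroup.mk' _
  let tU : Cfsg.SU 3 F q := ⟨_, hmem0⟩
  let uU : Cfsg.SU 3 F q := ⟨_, hmem hζ (hdet hζ)⟩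
  let lU : Cfsg.SU 3 F q := ⟨_, hmem hζ' (hdet hζ')⟩
  let xU : Cfsg.SU 3 F q := ⟨_, hmem' (hdet' hζ)⟩
  have ext' : ∀ {a b : Cfsg.SU 3 F q}, a.1.1 = b.1.1 → a = b := fun e => Subtype.ext (Subtype.ext e)
  have hcoe : ∀ a b : Cfsg.SU 3 F q, (a * b).1.1 = a.1.1 * b.1.1 := fun a b => rfl
  have htt : tU * tU = 1 := ext' (by rw [hcoe]; exact dgT_sq)
  have ht2 : orderOf (π tU) = 2 := by
    refine orderOf_eq_prime (by rw [sq, ← map_mul, htt, map_one]) fun e => ?_
    have hc : tU ∈ Subgroup.center (Cfsg.SU 3 F q) := (QuotientGroup.eq_one_iff _).mp e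
    have e' := congrArg (fun a : Cfsg.SU 3 F q => a.1.1) (Subgroup.mem_center_iff.mp hc xU)
    simp only [hcoe] at e'
    have q02 := congrFun (congrFun e' 0) 2
    rw [mul_two, mul_two] at q02
    simp [tU, xU, trM', dgT] at q02
    have hne : τ * ζ ^ q ≠ 0 := mul_ne_zero hτ (pow_ne_zero _ hζ0)
    exact hne ((mul_eq_zero.mp (show (2 : F) * (τ * ζ ^ q) = 0 by linear_combination q02)).resolve_left h2)
  obtain ⟨g, hg⟩ := hconj w (π tU) h.word ht2
  have hI : Inv p (π tU) (R.map (MulAut.conj g).toMonoidHom) := by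
    have := h.map (MulAut.conj g)
    rwa [show MulAut.conj g w = π tU from hg] at this
  -- change of basis
  set Qm : Matrix (Fin 3) (Fin 3) F := !![1, 1, 0; ζ, -ζ, 0; 0, 0, 1] with hQm
  have hQd : Qm.det ≠ 0 := by
    simp [hQm, Matrix.det_fin_three]
    intro e
    exact mul_ne_zero h2 hζ0 (by linear_combination -e)
  set Q : GL (Fin 3) F := Matrix.GeneralLinearGroup.mkOfDetNeZero Qm hQd with hQ
  let f : Cfsg.SU 3 F q →* GL (Fin 3) F :=
    (MulAut.conj Q⁻¹).toMonoidHom.comp (Matrix.SpecialLinearGroup.toGL.comp (Cfsg.SU 3 F q).subtype)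
  have hfv : ∀ a : Cfsg.SU 3 F q, (f a : Matrix (Fin 3) (Fin 3) F) =
      (Q⁻¹ : GL (Fin 3) F).1 * a.1.1 * Qm := fun a => by
    show ((Q⁻¹ * Matrix.SpecialLinearGroup.toGL a.1 * (Q⁻¹)⁻¹ : GL (Fin 3) F) : Matrix (Fin 3) (Fin 3) F) = _
    rw [inv_inv, Units.val_mul, Units.val_mul]; rfl
  have hQ1 : (Q⁻¹ : GL (Fin 3) F).1 * Qm = 1 := by
    show (Q⁻¹ : GL (Fin 3) F).1 * Q.1 = 1
    rw [← Units.val_mul, inv_mul_cancel, Units.val_one]
  have hQ2 : Qm * (Q⁻¹ : GL (Fin 3) F).1 = 1 := by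
    show Q.1 * (Q⁻¹ : GL (Fin 3) F).1 = 1
    rw [← Units.val_mul, mul_inv_cancel, Units.val_one]
  have hval : ∀ (a : Cfsg.SU 3 F q) (S : Matrix (Fin 3) (Fin 3) F), a.1.1 * Qm = Qm * S →
      (f a : Matrix (Fin 3) (Fin 3) F) = S := fun a S e => by
    rw [hfv, Matrix.mul_assoc, e, ← Matrix.mul_assoc, hQ1, Matrix.one_mul]
  have hft : (f tU : Matrix (Fin 3) (Fin 3) F) = dgT F := hval _ _ (by
    ext i j; rw [mul_two, mul_two]; fin_cases i <;> fin_cases j <;> simp [tU, hQm, dgT])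
  have hfu : (f uU : Matrix (Fin 3) (Fin 3) F) = xUp (2 * τ) := hval _ _ (by
    ext i j; rw [mul_two, mul_two]
    fin_cases i <;> fin_cases j <;> simp [uU, hQm, trM, xUp]
    all_goals first
      | ring1
      | linear_combination τ * hζ
      | linear_combination -τ * hζ)
  have hfl : (f lU : Matrix (Fin 3) (Fin 3) F) = xLo (2 * τ) := hval _ _ (by
    ext i j; rw [mul_two, mul_two]
    fin_cases i <;> fin_cases j <;> simp [lU, hQm, trM, xLo, hneg]
    all_goals first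
      | ring1
      | linear_combination τ * hζ
      | linear_combination -τ * hζ)
  have hcomm : ∀ z : F, trM τ z q * dgT F = dgT F * trM τ z q := fun z => by
    ext i j; rw [mul_two, mul_two]; fin_cases i <;> fin_cases j <;> simp [trM, dgT]
  have hu' : π uU * π tU = π tU * π uU := by
    rw [← map_mul, ← map_mul, show uU * tU = tU * uU from ext' (hcomm ζ)]
  have hl' : π lU * π tU = π tU * π lU := by
    rw [← map_mul, ← map_mul, show lU * tU = tU * lU from ext' (hcomm (-ζ))]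
  have hfinj : Function.Injective f := fun a b e => ext' (congrArg Units.val ((MulAut.conj Q⁻¹).injective e))
  have hfdet : ∀ a, (f a : Matrix (Fin 3) (Fin 3) F).det = 1 := fun a => by
    rw [hfv, Matrix.det_mul, Matrix.det_mul, a.1.2, mul_one, ← Matrix.det_mul, hQ1, Matrix.det_one]
  have hh : ∀ (a : Cfsg.SU 3 F q) (u v : Fin 3 → F),
      hermForm 3 F q (a.1.1 *ᵥ u) (a.1.1 *ᵥ v) = hermForm 3 F q u v := fun a => mem_SU_iff.mp a.2
  have hblock : ∀ a, π a ∈ R.map (MulAut.conj g).toMonoidHom →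
      (a.1.1 0 2 = 0 ∧ a.1.1 1 2 = 0) ∧ a.1.1 2 0 = 0 ∧ a.1.1 2 1 = 0 := by
    intro a ha
    have hA : a.1.1 * Qm = Qm * (f a : Matrix (Fin 3) (Fin 3) F) := by
      rw [hfv, ← Matrix.mul_assoc, ← Matrix.mul_assoc, hQ2, Matrix.one_mul]
    have hd := a.1.2
    have e02 := hh a (Pi.single 2 1) (Pi.single 0 1)
    have e12 := hh a (Pi.single 2 1) (Pi.single 1 1)
    have e20 := hh a (Pi.single 0 1) (Pi.single 2 1)
    have e21 := hh a (Pi.single 1 1) (Pi.single 2 1)
    simp [hermForm, Matrix.mulVec, dotProduct, Fin.sum_univ_three, h0] at e02 e12 e20 e21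
    rcases lift_shape π (QuotientGroup.mk'_surjective _) (QuotientGroup.ker_mk' _).le f hfinj hfdet hft hfu hfl hu'
      hl' (mul_ne_zero h2 hτ) (mul_ne_zero h2 hτ) h2 hI with hs | hs
    · obtain ⟨k, x, y, e⟩ := hs a ha
      rw [e] at hA
      have q := Matrix.ext_iff.mpr hA
      simp only [mul_two] at q
      have q00 := q 0 0; have q01 := q 0 1; have q10 := q 1 0; have q11 := q 1 1; have q20 := q 2 0; have q21 := q 2 1
      simp [hQm] at q00 q01 q10 q11 q20 q21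
      have c01 : a.1.1 0 1 = 0 :=
        (mul_eq_zero.mp (show (2 * ζ) * a.1.1 0 1 = 0 by linear_combination q00 - q01)).resolve_left (mul_ne_zero h2 hζ0)
      have c21 : a.1.1 2 1 = 0 :=
        (mul_eq_zero.mp (show (2 * ζ) * a.1.1 2 1 = 0 by linear_combination q20 - q21)).resolve_left (mul_ne_zero h2 hζ0)
      have c20 : a.1.1 2 0 = 0 := by linear_combination q20 - ζ * c21
      have c10 : a.1.1 1 0 = 0 :=
        (mul_eq_zero.mp (show (2 : F) * a.1.1 1 0 = 0 by linear_combination q10 + q11)).resolve_left h2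
      have c00 : a.1.1 0 0 = k := by linear_combination q00 - ζ * c01
      have c11 : a.1.1 1 1 = k := mul_right_cancel₀ hζ0 (by linear_combination q10 - c10)
      have hk : k ≠ 0 := fun e0 => by
        rw [Matrix.det_fin_three] at hd
        simp [c00, c01, c10, c20, c21, e0] at hd
      simp [c00, c10, c20, c01, c11, c21, h0] at e02 e12
      refine ⟨⟨?_, ?_⟩, c20, c21⟩
      · simpa [hk, hq0] using e02
      · simpa [hk, hq0] using e12
    · obtain ⟨k, x, y, e⟩ := hs a ha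
      rw [e] at hA
      have q := Matrix.ext_iff.mpr hA
      simp only [mul_two] at q
      have q02 := q 0 2; have q12 := q 1 2; have q22 := q 2 2
      simp [hQm] at q02 q12 q22
      have hk : k ≠ 0 := fun e0 => by
        rw [Matrix.det_fin_three] at hd
        simp [q02, q12, q22, e0] at hd
      simp [q02, q12, q22, h0] at e20 e21
      refine ⟨⟨q02, q12⟩, ?_, ?_⟩
      · simpa [hk, hq0] using e20
      · simpa [hk, hq0] using e21
  obtain ⟨r, hr, hne⟩ := hI.moved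
  obtain ⟨a, rfl⟩ := QuotientGroup.mk'_surjective _ r
  obtain ⟨⟨a02, a12⟩, a20, a21⟩ := hblock a hr
  apply hne
  show π a * π tU = π tU * π a
  rw [← map_mul, ← map_mul, show a * tU = tU * a from ext' (by
    rw [hcoe, hcoe]; exact (comm_dgT_entries a02 a12 a20 a21).symm)]

/-- `PSU₃(q)`, `q` odd, has no moved radical. -/
theorem radFacts (hcard : Fintype.card F = q ^ 2) (hq : Odd q)
    (hconj : ∀ a b : Cfsg.PSU 3 F q, orderOf a = 2 → orderOf b = 2 → ∃ g, g * a * g⁻¹ = b) :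
    RadFacts (Cfsg.PSU 3 F q) :=
  RadFacts.of_none fun h => no_inv hcard hq hconj h

end CfsgLib.RankTwoModel.U3
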