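import Cfsg.Agent.Lib.RankTwoModel.Comps
import Cfsg.Agent.Lib.RankTwoModel.RadL3
import Cfsg.Agent.Lib.RankTwoModel.RadU3
import Cfsg.Agent.Lib.RankTwoModel.RadM11
import Cfsg.Agent.Lib.BG.PCase

/-!
Moved radicals in the component of a proper subgroup.

* `Hyp.rad_facts`: the simple quotient of a component has `RadFacts`.
* `Rad`, `Hyp.rad_prime`, `Hyp.rad_cent`, `Hyp.rad_invol`: one prime; an element fixing a radical and its involution
  centralises the component; an involution normalising the radical and fixing its involution lies in the component.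
-/

set_option autoImplicit false
set_option linter.unusedSectionVars false
set_option linter.style.haveILetI false

namespace CfsgLib.RankTwoModel

open Cfsg CfsgLib.BG CfsgLib.GW CfsgLib.BenderMax CfsgLib.DihedralFusion

universe u

/-- An involution times a central element of odd order is an involution only if the element is trivial. -/
theorem odd_central_eq_one {X : Type*} [Group X] [Finite X] {Z : Subgroup X} (hZ : Odd (Nat.card Z)) {a c : X}
    (hc : c ∈ Z) (hac : c * a = a * c) (ha : a * a = 1) (h : a * c * (a * c) = 1) : c = 1 := by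
  have hc2 : c * c = 1 := by
    calc c * c = a * a * (c * c) := by rw [ha, one_mul]
      _ = a * (a * c) * c := by group
      _ = a * (c * a) * c := by rw [hac]
      _ = a * c * (a * c) := by group
      _ = 1 := h
  have h1 : orderOf c ∣ 2 := orderOf_dvd_of_pow_eq_one (by rw [sq, hc2])
  have h2 : orderOf c ∣ Nat.card Z := Subgroup.orderOf_dvd_natCard _ hc
  exact orderOf_eq_one_iff.mp (Nat.eq_one_of_dvd_coprimes (Nat.coprime_two_left.mpr hZ) h1 h2)

variable {G : Type u} [Group G] [Finite G]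

/-- A smaller simple group with semidihedral or wreathed Sylow 2-subgroups satisfies the hypotheses. -/
theorem Hyp.smaller (h : Hyp G) {X : Type u} [Group X] [Finite X] (hs : IsSimpleGroup X) (hq : QW X)
    (hlt : Nat.card X < Nat.card G) : Hyp X :=
  ⟨hs, hq.noncomm, hq, fun Y _ _ hY hYlt hYq => h.ih Y hY (hYlt.trans hlt) hYq⟩

variable (h : Hyp G)
include h

theorem Hyp.rad_facts {H L : Subgroup G} (hH : H ≠ ⊤) (hL : Comp H L) : RadFacts (L ⧸ Subgroup.center L) := by
  haveI : Fact (Nat.Prime 2) := ⟨Nat.prime_two⟩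
  have hs : IsSimpleGroup (L ⧸ Subgroup.center L) := hL.quasi.2
  have hlt : Nat.card (L ⧸ Subgroup.center L) < Nat.card G :=
    lt_of_le_of_lt (Nat.le_of_dvd Nat.card_pos (Subgroup.card_quotient_dvd_card _))
      (card_lt_of_ne_top (fun e => hH (top_le_iff.1 (e ▸ hL.le))))
  rcases hL.type with ⟨⟨S, n, hn, ⟨e⟩⟩, -⟩ | ⟨hq, hM⟩
  · obtain ⟨eS⟩ := CfsgLib.GWConseq.sylow_quotient_odd _ hL.center_odd S
    refine RadFacts.of_noMoved (CfsgLib.BG.noMoved _ ⟨hs, fun hc => ?_, ⟨_, n, hn, ⟨eS.symm.trans e⟩⟩⟩)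
    haveI := hs
    haveI : Group.IsPerfect L := hL.perfect
    haveI : Group.IsPerfect (L ⧸ Subgroup.center L) :=
      Group.IsPerfect.ofSurjective (f := QuotientGroup.mk' (Subgroup.center L)) (QuotientGroup.mk'_surjective _)
    have e0 : commutator (L ⧸ Subgroup.center L) = ⊥ := by
      rw [commutator_def, Subgroup.commutator_eq_bot_iff_le_centralizer]
      exact fun x _ => Subgroup.mem_centralizer_iff.2 fun y _ => hc.is_comm.comm y x
    rw [Group.IsPerfect.commutator_eq_top] at e0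
    exact top_ne_bot e0
  · have hX := h.smaller hs hq hlt
    rcases hM with ⟨F, _, _, hodd, ⟨e⟩⟩ | ⟨F, _, _, q, hcard, hodd, ⟨e⟩⟩ | hM
    · refine (L3.radFacts (Ring.two_ne_zero fun h2 => ?_)).of_equiv e
      exact Nat.not_even_iff_odd.mpr hodd ((FiniteField.even_card_iff_char_two).mp h2 |> Nat.even_iff.mpr)
    · refine (U3.radFacts hcard hodd fun a b ha hb => ?_).of_equiv e
      obtain ⟨g, hg⟩ := hX.exists_conj (e.symm a) (e.symm b) (by rwa [MulEquiv.orderOf_eq]) (by rwa [MulEquiv.orderOf_eq])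
      exact ⟨e g, by simpa using congrArg e hg⟩
    · exact radFacts_m11 hM

end CfsgLib.RankTwoModel

namespace CfsgLib.RankTwoModel

open Cfsg
open scoped commutatorElement

universe u

variable {G : Type u} [Group G] [Finite G]

/-- A moved radical inside `L`. -/
structure Rad (L : Subgroup G) (p : ℕ) (w : G) (R : Subgroup G) : Prop where
  prime : p.Prime
  two : p ≠ 2
  wmem : w ∈ L
  word : orderOf w = 2
  le : R ≤ L
  pgroup : IsPGroup p R
  norm : ∀ c ∈ L, c * w = w * c → ∀ r ∈ R, c * r * c⁻¹ ∈ R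
  moved : ∃ r ∈ R, r * w ≠ w * r

/-- Commuting with an involution modulo an odd centre is commuting. -/
theorem comm_of_quot {L : Subgroup G} (hodd : Odd (Nat.card (Subgroup.center L))) {w : G} (hwL : w ∈ L)
    (hw : orderOf w = 2) {a : L} (he : QuotientGroup.mk' (Subgroup.center L) (a * ⟨w, hwL⟩) =
      QuotientGroup.mk' (Subgroup.center L) (⟨w, hwL⟩ * a)) : (a : G) * w = w * a := by
  obtain ⟨c, hc, hce⟩ := (QuotientGroup.mk'_eq_mk' _).mp he
  set wL : L := ⟨w, hwL⟩ with hwLdef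
  have hw2 : wL * wL = 1 := Subtype.ext (by
    show w * w = 1
    rw [← sq, ← hw, pow_orderOf_eq_one])
  have hcc := Subgroup.mem_center_iff.mp hc
  have e : a⁻¹ * wL * a = wL * c := by rw [mul_assoc, ← hce]; group
  have h1 : wL * c * (wL * c) = 1 := by
    rw [← e]
    calc a⁻¹ * wL * a * (a⁻¹ * wL * a) = a⁻¹ * (wL * wL) * a := by group
      _ = 1 := by rw [hw2]; group
  rw [odd_central_eq_one hodd hc (hcc wL).symm hw2 h1, mul_one] at hce
  exact congrArg Subtype.val hce

/-- The image of a radical in the simple quotient. -/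
theorem Rad.inv {L : Subgroup G} (hodd : Odd (Nat.card (Subgroup.center L))) {p : ℕ} {w : G} {R : Subgroup G}
    (hR : Rad L p w R) : Inv p (QuotientGroup.mk' (Subgroup.center L) ⟨w, hR.wmem⟩)
      ((R.subgroupOf L).map (QuotientGroup.mk' (Subgroup.center L))) where
  prime := hR.prime
  two := hR.two
  word := by
    have hwL : (⟨w, hR.wmem⟩ : L) * ⟨w, hR.wmem⟩ = 1 := Subtype.ext (by
      show w * w = 1
      rw [← sq, ← hR.word, pow_orderOf_eq_one])
    refine orderOf_eq_prime (hp := ⟨Nat.prime_two⟩) (by rw [sq, ← map_mul, hwL, map_one]) fun e => ?_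
    obtain ⟨r, hr, hne⟩ := hR.moved
    exact hne (congrArg Subtype.val (Subgroup.mem_center_iff.mp ((QuotientGroup.eq_one_iff _).mp e) ⟨r, hR.le hr⟩))
  pgroup := (hR.pgroup.of_equiv (Subgroup.subgroupOfEquivOfLe hR.le).symm).map _
  norm := by
    rintro c hc _ ⟨r, hr, rfl⟩
    obtain ⟨a, rfl⟩ := QuotientGroup.mk'_surjective _ c
    rw [← map_mul, ← map_mul] at hc
    refine ⟨a * r * a⁻¹, hR.norm a a.2 (comm_of_quot hodd hR.wmem hR.word hc) r hr, ?_⟩
    simp only [map_mul, map_inv]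
  moved := by
    obtain ⟨r, hr, hne⟩ := hR.moved
    refine ⟨_, ⟨⟨r, hR.le hr⟩, hr, rfl⟩, fun e => hne ?_⟩
    rw [← map_mul, ← map_mul] at e
    exact comm_of_quot hodd hR.wmem hR.word e

/-- Conjugation by an element normalising `L`. -/
def conjOn (L : Subgroup G) (x : G) (hx : ∀ y ∈ L, x * y * x⁻¹ ∈ L) (hx' : ∀ y ∈ L, x⁻¹ * y * x ∈ L) : L ≃* L where
  toFun y := ⟨x * y * x⁻¹, hx y y.2⟩
  invFun y := ⟨x⁻¹ * y * x, hx' y y.2⟩
  left_inv y := Subtype.ext (by simp [mul_assoc])
  right_inv y := Subtype.ext (by simp [mul_assoc])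
  map_mul' y z := Subtype.ext (by simp [mul_assoc])

theorem norm_inv {L : Subgroup G} {x : G} (hx : ∀ y ∈ L, x * y * x⁻¹ ∈ L) : ∀ y ∈ L, x⁻¹ * y * x ∈ L := by
  intro y hy
  let f : L → L := fun z => ⟨x * z * x⁻¹, hx z z.2⟩
  obtain ⟨z, hz⟩ := Finite.surjective_of_injective (f := f) (fun a b e => Subtype.ext (by
    simpa [f] using congrArg Subtype.val e)) ⟨y, hy⟩
  have : x * (z : G) * x⁻¹ = y := congrArg Subtype.val hz
  rw [← this]
  simp [mul_assoc]

variable (h : Hyp G)
include h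

/-- **One prime.** -/
theorem Hyp.rad_prime {H L : Subgroup G} (hH : H ≠ ⊤) (hL : Comp H L) {p q : ℕ} {w : G} {R R' : Subgroup G}
    (hR : Rad L p w R) (hR' : Rad L q w R') : p = q :=
  (h.rad_facts hH hL).single (hR.inv hL.center_odd) (hR'.inv hL.center_odd)

/-- **An element fixing the radical and its involution centralises the component.** -/
theorem Hyp.rad_cent {H L : Subgroup G} (hH : H ≠ ⊤) (hL : Comp H L) {p : ℕ} {w : G} {R : Subgroup G}
    (hR : Rad L p w R) {x : G} (hx : ∀ y ∈ L, x * y * x⁻¹ ∈ L) (hxw : x * w = w * x)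
    (hxR : ∀ r ∈ R, x * r = r * x) : ∀ y ∈ L, x * y = y * x := by
  set Z := Subgroup.center L
  set c := conjOn L x hx (norm_inv hx)
  set φ := QuotientGroup.congr Z Z c (Subgroup.characteristic_iff_map_eq.mp inferInstance c)
  have hφ : ∀ q, φ q = q := (h.rad_facts hH hL).rigid (hR.inv hL.center_odd) φ
    (by
      show QuotientGroup.mk' Z (c ⟨w, hR.wmem⟩) = _
      rw [show c ⟨w, hR.wmem⟩ = ⟨w, hR.wmem⟩ from Subtype.ext (show x * w * x⁻¹ = w by rw [hxw, mul_inv_cancel_right])])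
    (by
      rintro _ ⟨r, hr, rfl⟩
      show QuotientGroup.mk' Z (c r) = _
      rw [show c r = r from Subtype.ext (show x * (r : G) * x⁻¹ = r by rw [hxR r hr, mul_inv_cancel_right])])
  have hz : ∀ a : L, ∃ z ∈ Subgroup.center L, c a = a * z := fun a => by
    obtain ⟨z, hz, e⟩ := (QuotientGroup.mk'_eq_mk' _).mp (hφ (QuotientGroup.mk' Z a)).symm
    exact ⟨z, hz, e.symm⟩
  -- the fixed points contain the commutators
  have hfix : commutator L ≤ MonoidHom.eqLocus c.toMonoidHom (MonoidHom.id L) := by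
    rw [commutator_def, Subgroup.commutator_le]
    intro a _ b _
    obtain ⟨z, hz1, ea⟩ := hz a
    obtain ⟨z', hz2, eb⟩ := hz b
    have za := Subgroup.mem_center_iff.mp hz1
    have zb := Subgroup.mem_center_iff.mp hz2
    show c ⁅a, b⁆ = ⁅a, b⁆
    rw [map_commutatorElement, ea, eb, commutatorElement_def, commutatorElement_def]
    calc a * z * (b * z') * (a * z)⁻¹ * (b * z')⁻¹ = a * (z * (b * z')) * z⁻¹ * a⁻¹ * z'⁻¹ * b⁻¹ := by group
      _ = a * ((b * z') * z) * z⁻¹ * a⁻¹ * z'⁻¹ * b⁻¹ := by rw [za]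
      _ = a * b * (z' * a⁻¹) * z'⁻¹ * b⁻¹ := by group
      _ = a * b * (a⁻¹ * z') * z'⁻¹ * b⁻¹ := by rw [zb]
      _ = a * b * a⁻¹ * b⁻¹ := by group
  haveI : Group.IsPerfect L := hL.perfect
  intro y hy
  have := congrArg Subtype.val (hfix (show (⟨y, hy⟩ : L) ∈ commutator L by
    rw [Group.IsPerfect.commutator_eq_top]; trivial))
  have e : x * y * x⁻¹ = y := this
  rwa [mul_inv_eq_iff_eq_mul] at e

/-- **An involution normalising the radical and fixing its involution lies in the component.** -/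
theorem Hyp.rad_invol {H L : Subgroup G} (hH : H ≠ ⊤) (hL : Comp H L) {p : ℕ} {w : G} {R : Subgroup G}
    (hR : Rad L p w R) {τ : G} (hτ : orderOf τ = 2) (hτL : ∀ y ∈ L, τ * y * τ⁻¹ ∈ L) (hτw : τ * w = w * τ)
    (hτR : ∀ r ∈ R, τ * r * τ⁻¹ ∈ R) : τ ∈ L := by
  haveI : Fact (Nat.Prime 2) := ⟨Nat.prime_two⟩
  set Z := Subgroup.center L
  set c := conjOn L τ hτL (norm_inv hτL)
  set φ := QuotientGroup.congr Z Z c (Subgroup.characteristic_iff_map_eq.mp inferInstance c)
  have hτ2 : τ * τ = 1 := by rw [← sq, ← hτ, pow_orderOf_eq_one]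
  have hτi : τ⁻¹ = τ := inv_eq_of_mul_eq_one_right hτ2
  obtain ⟨b, hb, hbw, hbc, hφb⟩ := (h.rad_facts hH hL).split (hR.inv hL.center_odd) φ
    (by
      show QuotientGroup.mk' Z (c ⟨w, hR.wmem⟩) = _
      rw [show c ⟨w, hR.wmem⟩ = ⟨w, hR.wmem⟩ from Subtype.ext (show τ * w * τ⁻¹ = w by rw [hτw, mul_inv_cancel_right])])
    (by
      rintro _ ⟨r, hr, rfl⟩
      exact ⟨c r, hτR r hr, rfl⟩)
    (fun q => by
      obtain ⟨a, rfl⟩ := QuotientGroup.mk'_surjective _ q
      show QuotientGroup.mk' Z (c (c a)) = _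
      rw [show c (c a) = a from Subtype.ext (show τ * (τ * (a : G) * τ⁻¹) * τ⁻¹ = a by
        rw [hτi]; calc τ * (τ * (a : G) * τ) * τ = (τ * τ) * a * (τ * τ) := by group
          _ = a := by rw [hτ2, one_mul, mul_one])])
  -- lift to an involution
  have hcop : (orderOf b).Coprime (Nat.card Z) := by
    rw [hb]; exact Nat.coprime_two_left.mpr hL.center_odd
  obtain ⟨b₁, hb₁, hb₁o⟩ := CfsgLib.exists_lift_orderOf_eq Z b hcop
  rw [hb] at hb₁o
  subst hb₁
  rw [← Subgroup.orderOf_coe] at hb₁o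
  have hcw : (b₁ : G) * w = w * b₁ :=
    comm_of_quot hL.center_odd hR.wmem hR.word (by rw [map_mul, map_mul]; exact hbc)
  have hb₁w : (b₁ : G) ≠ w := fun e => hbw (by rw [show b₁ = ⟨w, hR.wmem⟩ from Subtype.ext e]; rfl)
  have hτb : τ * b₁ = b₁ * τ := by
    obtain ⟨z, hz, e⟩ := (QuotientGroup.mk'_eq_mk' _).mp
      (show QuotientGroup.mk' Z b₁ = QuotientGroup.mk' Z (c b₁) from hφb.symm)
    have hb2 : b₁ * b₁ = 1 := Subtype.ext (by
      rw [Subgroup.coe_mul, ← sq, ← hb₁o, pow_orderOf_eq_one, Subgroup.coe_one])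
    have h1 : z = 1 := odd_central_eq_one hL.center_odd hz (Subgroup.mem_center_iff.mp hz b₁).symm hb2
      (by rw [e, ← map_mul, hb2, map_one])
    rw [h1, mul_one] at e
    have e' : (b₁ : G) = τ * b₁ * τ⁻¹ := congrArg Subtype.val e
    conv_rhs => rw [e']
    group
  rcases h.invol_cases hR.word hb₁o hcw.symm hb₁w hτ hτw hτb with e | e | e <;> rw [e]
  exacts [hR.wmem, b₁.2, mul_mem hR.wmem b₁.2]

end CfsgLib.RankTwoModel
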