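import Cfsg.Agent.Lib.RankTwoModel.StableRed

/-!
`D`-sections of `V` inverted by the central involution are large.

* `eq_one_of_inverted`: an inverted element displaced by an element commuting with `z` into the fixed points is fixed;
* `fixed_bot`: a `p`-group of automorphisms normalised by an irreducible group is trivial;
* `Red.chief_large`: such a section has at least `q²` elements.

Blueprint: `blueprint/RankTwo_P3.md`, section 3.
-/

set_option autoImplicit false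
set_option linter.unusedSectionVars false
set_option linter.style.haveILetI false

namespace CfsgLib.RankTwoModel

open Cfsg
open scoped MatrixGroups commutatorElement

universe u

variable {G : Type u} [Group G] [Finite G]

/-- If `q` commutes with `z`, `z` inverts `v` and centralises `t = [q, v]`, then `t = 1`. -/
theorem eq_one_of_inverted {z q v : G} (hzq : Commute z q) (hv : z * v * z⁻¹ = v⁻¹)
    (hz : Commute z (q * v * q⁻¹ * v⁻¹)) (hvodd : Odd (orderOf v)) (htodd : Odd (orderOf (q * v * q⁻¹ * v⁻¹))) :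
    q * v * q⁻¹ * v⁻¹ = 1 := by
  set t := q * v * q⁻¹ * v⁻¹ with ht
  have h1 : t = q * v⁻¹ * q⁻¹ * v := by
    calc t = z * t * z⁻¹ := by rw [hz.eq, mul_inv_cancel_right]
      _ = (z * q * z⁻¹) * (z * v * z⁻¹) * (z * q * z⁻¹)⁻¹ * (z * v * z⁻¹)⁻¹ := by rw [ht]; group
      _ = q * v⁻¹ * q⁻¹ * v := by rw [hzq.eq, mul_inv_cancel_right, hv, inv_inv]
  have h2 : v * t * v⁻¹ = t⁻¹ := by
    have e : q * v * q⁻¹ = t * v := by rw [ht]; group
    have e' : q * v⁻¹ * q⁻¹ = v⁻¹ * t⁻¹ := by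
      calc q * v⁻¹ * q⁻¹ = (q * v * q⁻¹)⁻¹ := by group
        _ = _ := by rw [e, mul_inv_rev]
    rw [e'] at h1
    calc v * t * v⁻¹ = v * (v⁻¹ * t⁻¹ * v) * v⁻¹ := by rw [← h1]
      _ = t⁻¹ := by group
  have hvv : Commute (v * v) t := by
    refine mul_inv_eq_iff_eq_mul.mp ?_
    calc v * v * t * (v * v)⁻¹ = v * (v * t * v⁻¹) * v⁻¹ := by group
      _ = (v * t * v⁻¹)⁻¹ := by
        conv_lhs => rw [h2]
        group
      _ = t := by rw [h2, inv_inv]
  obtain ⟨j, hj⟩ := hvodd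
  have hv' : Commute v t := by
    have e : (v * v) ^ (j + 1) = v := by
      rw [← pow_two, ← pow_mul, show 2 * (j + 1) = (2 * j + 1) + 1 by ring, pow_succ, ← hj, pow_orderOf_eq_one,
        one_mul]
    exact e ▸ hvv.pow_left _
  rw [hv'.eq, mul_inv_cancel_right] at h2
  exact orderOf_eq_one_iff.mp (Nat.eq_one_of_dvd_coprimes (Nat.coprime_two_left.mpr htodd)
    (orderOf_dvd_of_pow_eq_one (show t ^ 2 = 1 by rw [pow_two]; exact eq_inv_iff_mul_eq_one.mp h2)) dvd_rfl)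

/-- A `p`-group of automorphisms normalised by an irreducible group is trivial. -/
theorem fixed_bot {p : ℕ} [hp : Fact p.Prime] {A : Type u} [Group A] {Q : Type u} [Group Q] [Finite Q] [Nontrivial Q]
    (hQ : IsPGroup p Q) (φ : A →* MulAut Q)
    (hmin : ∀ S : Subgroup Q, S ≠ ⊥ → (∀ a, ∀ x ∈ S, φ a x ∈ S) → S = ⊤)
    (P : Subgroup (MulAut Q)) (hP : IsPGroup p P) (hn : ∀ a, ∀ f ∈ P, φ a * f * (φ a)⁻¹ ∈ P) {f : MulAut Q}
    (hf : f ∈ P) : f = 1 := by
  haveI : Finite (MulAut Q) := Finite.of_injective (fun e : MulAut Q => (e : Q → Q)) DFunLike.coe_injective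
  obtain ⟨n, hn0, hn'⟩ := hQ.nontrivial_iff_card.mp inferInstance
  obtain ⟨x, hx, hx1⟩ := hP.exists_fixed_point_of_prime_dvd_card_of_fixed_point (α := Q)
    (by rw [hn']; exact dvd_pow_self p hn0.ne') (a := (1 : Q)) (fun g => map_one (g : MulAut Q))
  set S : Subgroup Q :=
    { carrier := {x | ∀ g ∈ P, g x = x}
      one_mem' := fun g _ => map_one g
      mul_mem' := fun {a b} ha hb g hg => by rw [map_mul, ha g hg, hb g hg]
      inv_mem' := fun {a} ha g hg => by rw [map_inv, ha g hg] }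
  have hxS : x ∈ S := fun g hg => hx ⟨g, hg⟩
  have hS := hmin S (fun e => hx1 (Subgroup.mem_bot.mp (e ▸ hxS)).symm) fun a y hy g hg => by
    have h1 := hy _ (hn a⁻¹ g hg)
    rw [map_inv, inv_inv, MulAut.mul_apply, MulAut.mul_apply, MulAut.inv_apply] at h1
    exact (MulEquiv.symm_apply_eq _).mp h1
  exact MulEquiv.ext fun y => (hS.ge (Subgroup.mem_top y)) f hf

namespace Red

variable {d : Frame G} {p : ℕ} {M V Kp : Subgroup G} {a : G} (r : Red d p M V Kp a)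
  (h : Hyp G) (hd : d.Spec) (hq : 3 < d.q) [hp : Fact p.Prime]

include r h hd hq hp in
/-- **A section inverted by `z` is large.** -/
theorem chief_large {c : G} (hcD : c ∈ d.D) (hcO : c ∉ d.O) (hc : a⁻¹ * c ∈ Kp) {k : ℕ} (hck : c ^ p ^ k = 1)
    {EG A B : Subgroup G} (hEV : EG ≤ V) (hEM : InvUnder M EG) (hAB : A < B) (hBE : B ≤ EG)
    (hAn : InvUnder EG A) (hcomm : ∀ x ∈ EG, ∀ y ∈ EG, x * y * x⁻¹ * y⁻¹ ∈ A) (hAD : InvUnder d.D A)
    (hBD : InvUnder d.D B) (hz : ∀ b ∈ B, d.z * b * d.z⁻¹ * b ∈ A)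
    (hmin : ∀ C : Subgroup G, A ≤ C → C ≤ B → InvUnder d.D C → C = A ∨ C = B) :
    d.q ^ 2 * Nat.card A ≤ Nat.card B := by
  classical
  obtain ⟨Rp⟩ := hd.exists_rep
  haveI := d.D_perfect
  haveI : Fact d.p.Prime := ⟨hd.prime⟩
  haveI := hd.charP
  set N := A.subgroupOf B
  haveI : N.Normal := ⟨fun x hx g => Subgroup.mem_subgroupOf.mpr (hAn g (hBE g.2) _ (Subgroup.mem_subgroupOf.mp hx))⟩
  let Q := ↥B ⧸ N
  letI : CommGroup Q :=
    { (inferInstance : Group Q) with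
      mul_comm := fun x y => by
        induction x using QuotientGroup.induction_on with
        | H x =>
        induction y using QuotientGroup.induction_on with
        | H y =>
        rw [← QuotientGroup.mk_mul, ← QuotientGroup.mk_mul, QuotientGroup.eq, Subgroup.mem_subgroupOf]
        show ((x : G) * y)⁻¹ * (y * x) ∈ A
        rw [show ((x : G) * y)⁻¹ * (y * x) = (y : G)⁻¹ * (x : G)⁻¹ * (y : G)⁻¹⁻¹ * (x : G)⁻¹⁻¹ by group]
        exact hcomm _ (inv_mem (hBE y.2)) _ (inv_mem (hBE x.2)) }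
  haveI : Nontrivial Q := by
    obtain ⟨b, hb, hbA⟩ := SetLike.exists_of_lt hAB
    exact ⟨⟨((⟨b, hb⟩ : ↥B) : ↥B ⧸ N), 1, fun e => hbA (Subgroup.mem_subgroupOf.mp ((QuotientGroup.eq_one_iff _).mp e))⟩⟩
  let ρ : ↥d.D →* MulAut Q := quotAct (subAct hBD) N fun x y hy =>
    Subgroup.mem_subgroupOf.mpr (hAD x x.2 _ (Subgroup.mem_subgroupOf.mp hy))
  have hρ : ∀ (x : ↥d.D) (y : ↥B), ρ x (y : Q) = ((subAct hBD x y : ↥B) : Q) := fun x y => rfl
  have hQ : IsPGroup p Q := (r.pV.to_le (hBE.trans hEV)).to_quotient N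
  have hirr : ∀ S : Subgroup Q, S ≠ ⊥ → (∀ x, ∀ y ∈ S, ρ x y ∈ S) → S = ⊤ := by
    intro S hS hSi
    set C := (S.comap (QuotientGroup.mk' N)).map B.subtype
    have hAC : A ≤ C := fun x hx => ⟨⟨x, hAB.le hx⟩, by
      show QuotientGroup.mk' N ⟨x, hAB.le hx⟩ ∈ S
      rw [show QuotientGroup.mk' N ⟨x, hAB.le hx⟩ = 1 from
        (QuotientGroup.eq_one_iff _).mpr (Subgroup.mem_subgroupOf.mpr hx)]
      exact one_mem S, rfl⟩
    have hCD : InvUnder d.D C := by
      rintro x hx _ ⟨y, hy, rfl⟩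
      exact ⟨subAct hBD ⟨x, hx⟩ y, hSi ⟨x, hx⟩ _ hy, rfl⟩
    rcases hmin C hAC (Subgroup.map_subtype_le _) hCD with e | e
    · exfalso
      refine hS (S.eq_bot_iff_forall.mpr fun y hy => ?_)
      induction y using QuotientGroup.induction_on with
      | H y => exact (QuotientGroup.eq_one_iff y).mpr (Subgroup.mem_subgroupOf.mpr (e ▸ ⟨y, hy, rfl⟩))
    · refine eq_top_iff.mpr fun y _ => ?_
      induction y using QuotientGroup.induction_on with
      | H y =>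
        obtain ⟨y', hy', e'⟩ := e.ge y.2
        rw [show y = y' from Subtype.ext e'.symm]
        exact hy'
  haveI : Finite (MulAut Q) := Finite.of_injective (fun e : MulAut Q => (e : Q → Q)) DFunLike.coe_injective
  -- the part of `D ∩ O` in `Kp` acts trivially
  set P1 : Subgroup ↥d.D := (d.O ⊓ Kp).subgroupOf d.D
  have hP1 : ∀ k ∈ P1, ρ k = 1 := by
    intro k hk
    refine fixed_bot hQ ρ hirr (P1.map ρ) ?_ ?_ ⟨k, hk, rfl⟩
    · rintro ⟨_, x, hx, rfl⟩
      obtain ⟨i, hi⟩ := r.pK x (Subgroup.mem_subgroupOf.mp hx).2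
      refine ⟨i, Subtype.ext (MulEquiv.ext fun y => ?_)⟩
      show (ρ x ^ p ^ i) y = y
      rw [← map_pow]
      induction y using QuotientGroup.induction_on with
      | H y =>
        rw [hρ]
        refine congrArg _ (Subtype.ext ?_)
        show ((x ^ p ^ i : ↥d.D) : G) * (y : G) * ((x ^ p ^ i : ↥d.D) : G)⁻¹ = y
        rw [SubmonoidClass.coe_pow, (hi y (hEV (hBE y.2))).eq, mul_inv_cancel_right]
    · rintro x _ ⟨y, hy, rfl⟩
      refine ⟨x * y * x⁻¹, Subgroup.mem_subgroupOf.mpr ⟨?_, ?_⟩, by rw [map_mul, map_mul, map_inv]⟩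
      · exact Frame.Spec.O_conj (d.D_le x.2) (Subgroup.mem_subgroupOf.mp hy).1
      · exact r.Kn x (r.CM (d.D_le x.2)) _ (Subgroup.mem_subgroupOf.mp hy).2
  have hcen : ∀ o : ↥d.D, (o : G) ∈ d.O → ∀ x : ↥d.D, Commute (ρ o) (ρ x) := fun o ho x => by
    refine (commutatorElement_eq_one_iff_mul_comm (g₁ := ρ o) (g₂ := ρ x)).mp ?_
    rw [← map_commutatorElement]
    refine hP1 _ (Subgroup.mem_subgroupOf.mpr ⟨?_, ?_⟩)
    · show (o : G) * x * (o : G)⁻¹ * (x : G)⁻¹ ∈ d.O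
      rw [show (o : G) * x * (o : G)⁻¹ * (x : G)⁻¹ = o * (x * (o : G)⁻¹ * (x : G)⁻¹) by group]
      exact mul_mem ho (Frame.Spec.O_conj (d.D_le x.2) (inv_mem ho))
    · exact r.OD_mem o ho x x.2
  have hpfree : ∀ o : ↥d.D, (o : G) ∈ d.O → (∃ m : ℕ, ρ o ^ p ^ m = 1) → ρ o = 1 := by
    intro o ho hm
    refine fixed_bot hQ ρ hirr
      { carrier := {f | (∃ x : ↥d.D, (x : G) ∈ d.O ∧ ρ x = f) ∧ ∃ m : ℕ, f ^ p ^ m = 1}
        one_mem' := ⟨⟨1, one_mem _, map_one ρ⟩, 0, one_pow _⟩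
        mul_mem' := by
          rintro _ _ ⟨⟨x, hx, rfl⟩, i, hi⟩ ⟨⟨y, hy, rfl⟩, j, hj⟩
          refine ⟨⟨x * y, mul_mem hx hy, map_mul ρ x y⟩, i + j, ?_⟩
          rw [(hcen x hx y).mul_pow, pow_add, pow_mul, hi, one_pow, one_mul, mul_comm, pow_mul, hj, one_pow]
        inv_mem' := by
          rintro _ ⟨⟨x, hx, rfl⟩, i, hi⟩
          exact ⟨⟨x⁻¹, inv_mem hx, map_inv ρ x⟩, i, by rw [inv_pow, hi, inv_one]⟩ }
      (fun f => ⟨f.2.2.choose, Subtype.ext f.2.2.choose_spec⟩) ?_ ⟨⟨o, ho, rfl⟩, hm⟩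
    rintro x _ ⟨⟨y, hy, rfl⟩, i, hi⟩
    refine ⟨⟨x * y * x⁻¹, Frame.Spec.O_conj (d.D_le x.2) hy, by rw [map_mul, map_mul, map_inv]⟩, i, ?_⟩
    rw [conj_pow, hi, mul_one, mul_inv_cancel]
  let π : ↥d.D →* Matrix.SpecialLinearGroup (Fin 2) d.F := Rp.π.comp (Subgroup.inclusion (hd.D_le_L hq))
  let S : Orbit.Act ↥d.D Q d.F p :=
    { π := π
      surj := fun A => by obtain ⟨y, hy, e⟩ := Rp.surj_D hd hq A; exact ⟨⟨y, hy⟩, e⟩
      odd_ker := by
        refine d.O_odd.of_dvd_nat (Subgroup.card_dvd_of_injective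
          ((d.D.subtype.comp π.ker.subtype).codRestrict d.O fun k => (Rp.ker _).mp k.2) fun a b e => ?_)
        exact Subtype.ext (Subtype.ext (congrArg (fun t : ↥d.O => (t : G)) e))
      ρ := ρ
      z := ⟨d.z, hd.z_mem_D hq⟩
      z_π := Rp.pi_z hd
      z_ρ := fun y => by
        induction y using QuotientGroup.induction_on with
        | H y =>
          rw [hρ]
          refine eq_inv_of_mul_eq_one_left ?_
          rw [← QuotientGroup.mk_mul, QuotientGroup.eq_one_iff, Subgroup.mem_subgroupOf]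
          exact hz y y.2
      central := fun k hk x => hcen k ((Rp.ker _).mp hk) x
      pfree := fun k hk => hpfree k ((Rp.ker _).mp hk) }
  -- quadratic action
  let T : Set (Subgroup G) := {W | W ≤ EG ∧ InvUnder M W ∧ B ≤ A ⊔ W}
  obtain ⟨W, hW⟩ := (Set.toFinite T).exists_minimal ⟨EG, le_rfl, hEM, hBE.trans le_sup_right⟩
  obtain ⟨hWE, hWM, hBW⟩ := hW.prop
  have hWV : W ≤ V := hWE.trans hEV
  set W' := ⁅W, Kp⁆
  have hW'W : W' ≤ W := comm_le hWM r.KM
  have hWA : W ≤ Subgroup.normalizer (A : Set G) := fun x hx =>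
    Subgroup.mem_normalizer_fintype fun y hy => hAn x (hWE hx) y hy
  have hsup : ∀ {U : Subgroup G}, U ≤ W → ∀ g ∈ A ⊔ U, ∃ α ∈ A, ∃ u ∈ U, g = α * u := fun {U} hU g hg => by
    rw [← SetLike.mem_coe, Subgroup.coe_mul_of_right_le_normalizer_left A U (hU.trans hWA)] at hg
    obtain ⟨α, hα, u, hu, rfl⟩ := hg
    exact ⟨α, hα, u, hu, rfl⟩
  have hinter : B ⊓ (A ⊔ W') = A := by
    have hD : InvUnder d.D (B ⊓ (A ⊔ W')) := by
      intro x hx g hg
      refine ⟨hBD x hx g hg.1, ?_⟩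
      obtain ⟨α, hα, u, hu, rfl⟩ := hsup hW'W g hg.2
      rw [show x * (α * u) * x⁻¹ = (x * α * x⁻¹) * (x * u * x⁻¹) by group]
      exact Subgroup.mul_mem_sup (hAD x hx α hα) (r.comm_inv hWM x (r.CM (d.D_le hx)) u hu)
    refine (hmin _ (le_inf hAB.le le_sup_left) inf_le_left hD).resolve_right fun e => ?_
    have hBW' : B ≤ A ⊔ W' := e ▸ inf_le_right
    have hWne : W ≠ ⊥ := fun e' => hAB.not_ge (by rwa [e', sup_bot_eq] at hBW)
    exact r.down W hWV hWM hWne (hW.le_of_le ⟨hW'W.trans hWE, r.comm_inv hWM, hBW'⟩ hW'W)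
  have hquad : IsQuad (ρ ⟨c, hcD⟩) := fun y => by
    induction y using QuotientGroup.induction_on with
    | H y =>
      rw [hρ, ← QuotientGroup.mk_inv, ← QuotientGroup.mk_mul, hρ, QuotientGroup.eq_iff_div_mem,
        Subgroup.mem_subgroupOf, div_eq_mul_inv]
      have hcC := d.D_le hcD
      obtain ⟨α, hα, u, hu, hyu⟩ := hsup le_rfl y (hBW y.2)
      set t := c * (y : G) * c⁻¹ * (y : G)⁻¹
      show c * t * c⁻¹ * t⁻¹ ∈ A
      have htB : t ∈ B := mul_mem (hBD c hcD y y.2) (inv_mem y.2)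
      rw [← hinter]
      refine ⟨B.mul_mem (hBD c hcD t htB) (B.inv_mem htB), ?_⟩
      set s := c * u * c⁻¹ * u⁻¹
      have hsW : s ∈ W := mul_mem (hWM c (r.CM hcC) u hu) (inv_mem hu)
      set a₁ := c * α * c⁻¹
      set a₂ := α⁻¹
      have ht : t = a₁ * s * a₂ := by simp only [t, a₁, s, a₂, hyu]; group
      have hq' : c * s * c⁻¹ * s⁻¹ ∈ W' := r.quad hWV hWM hc hu
      have ha₁ : a₁ ∈ A := hAD c hcD α hα
      have ha₂ : a₂ ∈ A := inv_mem hα
      rw [ht, show c * (a₁ * s * a₂) * c⁻¹ * (a₁ * s * a₂)⁻¹ = (c * a₁ * c⁻¹) * (c * s * c⁻¹ * s⁻¹) *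
        (s * ((c * a₂ * c⁻¹) * a₂⁻¹) * s⁻¹) * a₁⁻¹ by group]
      exact mul_mem (mul_mem (mul_mem (Subgroup.mem_sup_left (hAD c hcD a₁ ha₁)) (Subgroup.mem_sup_right hq'))
        (Subgroup.mem_sup_left (hAn s (hWE hsW) _ (mul_mem (hAD c hcD a₂ ha₂) (inv_mem ha₂)))))
        (Subgroup.mem_sup_left (A.inv_mem ha₁))
  have hcn : ∀ e : d.F, (S.π ⟨c, hcD⟩).1 ≠ e • (1 : Matrix (Fin 2) (Fin 2) d.F) := fun e he =>
    hcO ((Rp.ker _).mp (Nat'.eq_one_of_scalar hp.out r.pne (k := k)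
      (show (S.π ⟨c, hcD⟩) ^ p ^ k = 1 by
        rw [← map_pow, show (⟨c, hcD⟩ : ↥d.D) ^ p ^ k = 1 from Subtype.ext hck, map_one]) he))
  obtain ⟨v, hv⟩ := exists_ne (1 : Q)
  have h1 := (Orbit.orbit_large r.pne hQ hd.odd_card (hd.three_lt hq) d.p S ⟨k, Subtype.ext hck⟩ hquad hcn hv).1
  rw [hd.card] at h1
  change d.q ^ 2 - 1 ≤ _ at h1
  have h2 : (Set.range fun x => S.ρ x v) ⊆ ({1}ᶜ : Set Q) := by
    rintro _ ⟨x, rfl⟩ e
    exact hv ((S.ρ x).injective (e.trans (map_one _).symm))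
  have h3 := Set.ncard_le_ncard h2 (Set.toFinite _)
  rw [Set.ncard_compl, Set.ncard_singleton, ← Nat.card_coe_set_eq] at h3
  have h4 : d.q ^ 2 ≤ Nat.card Q := by
    have : 0 < Nat.card Q := Nat.card_pos
    omega
  calc d.q ^ 2 * Nat.card A ≤ Nat.card Q * Nat.card A := Nat.mul_le_mul_right _ h4
    _ = Nat.card B := by
      rw [← Subgroup.card_mul_index N, Nat.card_congr (Subgroup.subgroupOfEquivOfLe hAB.le).toEquiv,
        ← Subgroup.index_eq_card, mul_comm]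

end Red

end CfsgLib.RankTwoModel
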