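import Cfsg.Agent.Lib.RankTwoModel.Rep
import Cfsg.Agent.Lib.RankTwo.SmallChar
import Cfsg.Agent.Lib.RankTwo.Weights

/-!
Radicals of the weights of the small character on a class two subgroup with centre fixed by `z`.

* `rad`: the radical of a linear character of the centre;
* `rad_small`: it has index below `q⁴` for a non-trivial weight;
* `eq_one_of_rad`: an element in all radicals commutes with the subgroup.

Blueprint: `blueprint/RankTwo_P3.md`, section 3.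
-/

set_option autoImplicit false
set_option linter.unusedSectionVars false
set_option linter.style.haveILetI false

namespace CfsgLib.RankTwoModel

open Cfsg CfsgLib.CharTheory

universe u

variable {G : Type u} [Group G] [Finite G] {EG ZG : Subgroup G} (hcen : ∀ e ∈ EG, ∀ w ∈ ZG, e * w = w * e)
  (hcomm : ∀ x ∈ EG, ∀ y ∈ EG, x * y * x⁻¹ * y⁻¹ ∈ ZG)

/-- The radical of a linear character of the centre. -/
def rad (μ : ↥ZG →* ℂˣ) : Subgroup G where
  carrier := {g | ∃ hg : g ∈ EG, ∀ y, ∀ hy : y ∈ EG, μ ⟨g * y * g⁻¹ * y⁻¹, hcomm g hg y hy⟩ = 1}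
  one_mem' := ⟨one_mem _, fun y hy => by
    have e : (⟨1 * y * 1⁻¹ * y⁻¹, hcomm 1 (one_mem _) y hy⟩ : ↥ZG) = 1 := Subtype.ext (by simp)
    rw [e, map_one]⟩
  mul_mem' := by
    rintro g g' ⟨hg, hgμ⟩ ⟨hg', hg'μ⟩
    refine ⟨mul_mem hg hg', fun y hy => ?_⟩
    have e : (⟨g * g' * y * (g * g')⁻¹ * y⁻¹, hcomm _ (mul_mem hg hg') y hy⟩ : ↥ZG) =
        ⟨g' * y * g'⁻¹ * y⁻¹, hcomm g' hg' y hy⟩ * ⟨g * y * g⁻¹ * y⁻¹, hcomm g hg y hy⟩ := Subtype.ext (by
      show g * g' * y * (g * g')⁻¹ * y⁻¹ = g' * y * g'⁻¹ * y⁻¹ * (g * y * g⁻¹ * y⁻¹)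
      have hc := hcen g hg _ (hcomm g' hg' y hy)
      calc g * g' * y * (g * g')⁻¹ * y⁻¹ = g * (g' * y * g'⁻¹ * y⁻¹) * (y * g⁻¹ * y⁻¹) := by group
        _ = _ := by rw [hc]; group)
    rw [e, map_mul, hg'μ y hy, hgμ y hy, one_mul]
  inv_mem' := by
    rintro g ⟨hg, hgμ⟩
    refine ⟨inv_mem hg, fun y hy => ?_⟩
    have e : (⟨g⁻¹ * y * g⁻¹⁻¹ * y⁻¹, hcomm _ (inv_mem hg) y hy⟩ : ↥ZG) =
        (⟨g * y * g⁻¹ * y⁻¹, hcomm g hg y hy⟩)⁻¹ := Subtype.ext (by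
      show g⁻¹ * y * g⁻¹⁻¹ * y⁻¹ = (g * y * g⁻¹ * y⁻¹)⁻¹
      have hc := hcen g⁻¹ (inv_mem hg) _ (inv_mem (hcomm g hg y hy))
      calc g⁻¹ * y * g⁻¹⁻¹ * y⁻¹ = g⁻¹ * (g * y * g⁻¹ * y⁻¹)⁻¹ * g := by group
        _ = (g * y * g⁻¹ * y⁻¹)⁻¹ := by rw [hc, mul_assoc, inv_mul_cancel, mul_one])
    rw [e, map_inv, hgμ y hy, inv_one]

theorem rad_le (μ : ↥ZG →* ℂˣ) : rad hcen hcomm μ ≤ EG := fun _ ⟨hg, _⟩ => hg

variable (hZE : ZG ≤ EG)

include hZE in
theorem le_rad (μ : ↥ZG →* ℂˣ) : ZG ≤ rad hcen hcomm μ := fun g hg => ⟨hZE hg, fun y hy => by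
  have e : (⟨g * y * g⁻¹ * y⁻¹, hcomm g (hZE hg) y hy⟩ : ↥ZG) = 1 := Subtype.ext (by
    show g * y * g⁻¹ * y⁻¹ = 1
    rw [← hcen y hy g hg]; group)
  rw [e, map_one]⟩

variable {d : Frame G}

/-- **The radical of a weight has small index.** -/
theorem rad_small [Fintype G] [Fintype ↥ZG] (hZE : ZG ≤ EG) (hd : d.Spec) (SC : RankTwo.SmallChar d.z d.q)
    (hzE : ∀ e ∈ EG, d.z * e * d.z⁻¹ ∈ EG) (hEodd : Odd (Nat.card EG)) (hZz : ∀ w ∈ ZG, d.z * w = w * d.z)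
    (hfixO : ∀ c ∈ EG, c * d.z = d.z * c → c ∈ d.O) {μ : ↥ZG →* ℂˣ} (hμ : μ ≠ 1)
    (hw : RankTwo.wgt SC.χ μ ≠ 0) : Nat.card EG < d.q ^ 4 * Nat.card (rad hcen hcomm μ) := by
  classical
  have hχ : IsCharacter G SC.χ := by
    obtain ⟨n, ρ, -, e⟩ := SC.irr
    exact ⟨n, ρ, e⟩
  have hcl := isClassFunction_char hχ
  haveI : Fintype (↥ZG →* ℂˣ) := Fintype.ofFinite _
  have hzz : d.z * d.z = 1 := by rw [← pow_two, ← hd.zord, pow_orderOf_eq_one]
  have hconst : ∀ g ∈ EG, SC.χ (d.z * g) = (SC.v : ℂ) := fun g hg =>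
    RankTwo.coset_const hcl EG hEodd hzz hzE (fun c hc hcz => by
      obtain ⟨y, hy, rfl⟩ := hfixO c hc hcz
      exact SC.const y hy) ⟨g, hg⟩
  -- the weight is small
  have hsmall : RankTwo.wgt SC.χ μ < 2 * d.q ^ 2 := by
    have h1 := RankTwo.weights_bound hχ (fun a b => Subtype.ext (hcen a (hZE a.2) b b.2)) SC.deg hzz
      (fun w hw => by rw [hZz w hw, mul_inv_cancel_right]; exact hw) (fun c => hconst c (hZE c.2)) {μ}
      (by simpa using hμ.symm)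
    rw [Finset.sum_singleton] at h1
    have h2 := SC.small
    have : ((RankTwo.wgt SC.χ μ : ℕ) : ℤ) < ((2 * d.q ^ 2 : ℕ) : ℤ) := by push_cast; linarith
    exact_mod_cast this
  -- the part over `μ` on `EG⟨z⟩`
  set H : Subgroup G := EG ⊔ Subgroup.zpowers d.z
  have hnorm : Subgroup.zpowers d.z ≤ Subgroup.normalizer (EG : Set G) := Subgroup.zpowers_le.mpr
    (Subgroup.mem_normalizer_fintype fun e he => hzE e he)
  have hHdec : ∀ x ∈ H, x ∈ EG ∨ d.z * x ∈ EG := by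
    intro x hx
    rw [← SetLike.mem_coe, Subgroup.coe_mul_of_right_le_normalizer_left EG (Subgroup.zpowers d.z) hnorm] at hx
    obtain ⟨e, he, _, ⟨i, rfl⟩, rfl⟩ := hx
    show e * d.z ^ i ∈ EG ∨ d.z * (e * d.z ^ i) ∈ EG
    rcases Int.even_or_odd i with ⟨j, rfl⟩ | ⟨j, rfl⟩
    · left
      rw [← two_mul, zpow_mul, zpow_two, hzz, one_zpow, mul_one]
      exact he
    · right
      rw [zpow_add, zpow_mul, zpow_two, hzz, one_zpow, one_mul, zpow_one,
        show d.z * (e * d.z) = d.z * e * d.z⁻¹ by rw [inv_eq_of_mul_eq_one_right hzz, mul_assoc]]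
      exact hzE e he
  have hHZ : ∀ x ∈ H, ∀ w ∈ ZG, x * w = w * x := by
    intro x hx w hw
    rcases hHdec x hx with h1 | h1
    · exact hcen x h1 w hw
    · have h2 : Commute (d.z * x) w := hcen _ h1 w hw
      have h3 : Commute d.z w := hZz w hw
      have := h3.inv_left.mul_left h2
      rwa [inv_mul_cancel_left] at this
  obtain ⟨hT, -⟩ := RankTwo.isCharacter_part μ hχ H fun x hx c => ⟨c, by rw [hHZ x hx c c.2, mul_inv_cancel_right], rfl⟩
  have hEH : EG ≤ H := le_sup_left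
  have hzH : d.z ∈ H := Subgroup.mem_sup_right (Subgroup.mem_zpowers _)
  set F : ↥H → ℂ := fun x => RankTwo.part SC.χ μ (x : G)
  have hzE' : d.z ∉ EG := fun hm => BG.not_mem_of_odd hEodd hd.zord hm
  have hindex : (EG.subgroupOf H).index = 2 := by
    rw [Subgroup.index_eq_two_iff]
    refine ⟨⟨d.z, hzH⟩, fun b => ?_⟩
    simp only [Subgroup.mem_subgroupOf, Subgroup.coe_mul]
    rcases hHdec b b.2 with h1 | h1
    · exact Or.inr ⟨h1, fun h2 => hzE' (by simpa using mul_mem (inv_mem h1) h2)⟩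
    · refine Or.inl ⟨?_, fun h2 => hzE' (by simpa using mul_mem h1 (inv_mem h2))⟩
      have := hzE _ h1
      rw [inv_eq_of_mul_eq_one_right hzz] at this
      rwa [← mul_assoc, hzz, one_mul] at this
  have hvan : ∀ g : ↥H, g ∉ EG.subgroupOf H → F g = 0 := by
    intro g hg
    have h1 : d.z * (g : G) ∈ EG := (hHdec g g.2).resolve_left fun h2 => hg (Subgroup.mem_subgroupOf.mpr h2)
    refine RankTwo.part_zero_of_const μ hμ (v := (SC.v : ℂ)) fun c => ?_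
    have h2 := hconst _ (mul_mem h1 (hZE c.2))
    rwa [show d.z * (d.z * (g : G) * (c : G)) = (g : G) * c by rw [← mul_assoc, ← mul_assoc, hzz, one_mul]] at h2
  have hnirr := RankTwo.not_irr_of_index_two hT (EG.subgroupOf H) hindex hvan
  -- on `EG`
  haveI : Fintype ↥EG := Fintype.ofFinite _
  set F2 : ↥EG → ℂ := fun e => RankTwo.part SC.χ μ (e : G)
  have hF2 : IsCharacter ↥EG F2 := isCharacter_comp hT (Subgroup.inclusion hEH)
  have hF2irr : ¬ IsIrrCharacter ↥EG F2 := fun hirr =>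
    hnirr (isIrrCharacter_comp_surjective hirr (Subgroup.subgroupOfEquivOfLe hEH).toMonoidHom
      (Subgroup.subgroupOfEquivOfLe hEH).surjective)
  haveI : Fintype ↥(ZG.subgroupOf EG) := Fintype.ofFinite _
  let μ2 : ↥(ZG.subgroupOf EG) →* ℂˣ := μ.comp (Subgroup.subgroupOfEquivOfLe hZE).toMonoidHom
  set w := RankTwo.wgt SC.χ μ
  have hval : ∀ c : ↥(ZG.subgroupOf EG), F2 c = (μ2 c : ℂ) * w := fun c => by
    show RankTwo.part SC.χ μ ((c : ↥EG) : G) = _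
    rw [← one_mul ((c : ↥EG) : G),
      show ((c : ↥EG) : G) = ((Subgroup.subgroupOfEquivOfLe hZE c : ↥ZG) : G) from rfl, RankTwo.part_mul_mem,
      RankTwo.part_eq_wgt μ hχ]
    rfl
  have hover : RankTwo.wgt F2 μ2 = w := by
    have h1 : RankTwo.part F2 μ2 1 = (w : ℂ) := by
      rw [RankTwo.part, Finset.sum_congr rfl fun c _ => show (((μ2 c)⁻¹ : ℂˣ) : ℂ) * F2 (1 * c) = (w : ℂ) by
        rw [one_mul, hval, ← mul_assoc, ← Units.val_mul, inv_mul_cancel, Units.val_one, one_mul],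
        Finset.sum_const, nsmul_eq_mul, Finset.card_univ, ← Nat.card_eq_fintype_card,
        inv_mul_cancel_left₀ RankTwo.natCast_card_ne_zero]
    rw [RankTwo.part_eq_wgt μ2 hF2] at h1
    exact_mod_cast h1
  have hb := RankTwo.index_bound_four hF2 hF2irr μ2 (fun c g => Subtype.ext (hcen g g.2 _ c.2))
    (fun g y => Subgroup.mem_subgroupOf.mpr (hcomm g g.2 y y.2)) ((rad hcen hcomm μ).subgroupOf EG)
    (fun g hg => Subgroup.mem_subgroupOf.mpr ⟨g.2, fun y hy => hg ⟨y, hy⟩⟩) (d := w)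
    (RankTwo.part_eq_wgt μ hχ) hw hover
  rw [Nat.card_congr (Subgroup.subgroupOfEquivOfLe (rad_le hcen hcomm μ)).toEquiv] at hb
  have hR : 0 < Nat.card (rad hcen hcomm μ) := Nat.card_pos
  have h4 : w ^ 2 < 4 * d.q ^ 4 := by
    calc w ^ 2 < (2 * d.q ^ 2) ^ 2 := Nat.pow_lt_pow_left hsmall two_ne_zero
      _ = _ := by ring
  have h5 : w ^ 2 * Nat.card (rad hcen hcomm μ) < 4 * (d.q ^ 4 * Nat.card (rad hcen hcomm μ)) := by
    rw [← mul_assoc]; exact Nat.mul_lt_mul_of_pos_right h4 hR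
  omega

include hcen in
/-- An element in all radicals commutes with the subgroup. -/
theorem eq_one_of_rad [Fintype G] [Fintype ↥ZG] (hZE : ZG ≤ EG) {χ : G → ℂ} (hχ : IsCharacter G χ)
    (hf : ∀ x : G, x ≠ 1 → χ x ≠ χ 1) {g : G} (hg : g ∈ EG)
    (hrad : ∀ μ : ↥ZG →* ℂˣ, μ ≠ 1 → RankTwo.wgt χ μ ≠ 0 → g ∈ rad hcen hcomm μ) {y : G} (hy : y ∈ EG) :
    g * y = y * g := by
  classical
  haveI : Fintype (↥ZG →* ℂˣ) := Fintype.ofFinite _
  have hc : ∀ a b : ↥ZG, a * b = b * a := fun a b => Subtype.ext (hcen a (hZE a.2) b b.2)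
  set w : ↥ZG := ⟨g * y * g⁻¹ * y⁻¹, hcomm g hg y hy⟩
  have hval : χ (w : G) = χ 1 := by
    rw [← RankTwo.sum_part (χ := χ) hc (w : G), ← RankTwo.sum_part (χ := χ) hc 1]
    refine Finset.sum_congr rfl fun μ _ => ?_
    conv_lhs => rw [← one_mul (w : G)]
    rw [RankTwo.part_mul_mem, RankTwo.part_eq_wgt μ hχ]
    by_cases h0 : RankTwo.wgt χ μ = 0
    · simp [h0]
    · by_cases h1 : μ = 1
      · rw [h1, MonoidHom.one_apply, Units.val_one, one_mul]
      · obtain ⟨_, hμ⟩ := hrad μ h1 h0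
        rw [hμ y hy, Units.val_one, one_mul]
  have h1 : (w : G) = 1 := by_contra fun h => hf _ h hval
  exact mul_inv_eq_iff_eq_mul.mp (mul_inv_eq_one.mp h1)

end CfsgLib.RankTwoModel
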