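import Cfsg.Agent.Lib.RankTwoModel.StableReduce
import Cfsg.Agent.Lib.RankTwoModel.StableChief
import Cfsg.Agent.Lib.RankTwoModel.StableRad
import Cfsg.Agent.Lib.RankTwoModel.Unique
import Cfsg.Agent.Lib.RankTwoModel.FixedAction
import Cfsg.Agent.Lib.SmallElements

/-!
Stability of the maximal subgroups over the centraliser of the involution.

* `Red.section_trivial`: `D ∩ O ∩ Kp` acts trivially on the `D`-sections;
* `Red.abelian_fixed`: `z` centralises the abelian normal subgroups of `M` in `V`;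
* `Red.critical_false`: the reduced configuration does not exist with `V` self-centralising;
* `stable`, `central_of_bad`.

Blueprint: `blueprint/RankTwo_P3.md`, section 3.
-/

set_option autoImplicit false
set_option linter.unusedSectionVars false
set_option linter.style.haveILetI false

namespace CfsgLib.RankTwoModel

open Cfsg CfsgLib.CharTheory CfsgLib.BenderMax
open scoped MatrixGroups commutatorElement

universe u

variable {G : Type u} [Group G] [Finite G]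

namespace Red

variable {d : Frame G} {p : ℕ} {M V Kp : Subgroup G} {a : G} (r : Red d p M V Kp a)

include r in
/-- `D ∩ O ∩ Kp` acts trivially on a `D`-section. -/
theorem section_trivial [hp : Fact p.Prime] {EG A B : Subgroup G} (hEV : EG ≤ V) (hAB : A < B) (hBE : B ≤ EG)
    (hAn : InvUnder EG A) (hAD : InvUnder d.D A) (hBD : InvUnder d.D B)
    (hmin : ∀ C : Subgroup G, A ≤ C → C ≤ B → InvUnder d.D C → C = A ∨ C = B) :
    ∀ k ∈ d.D, k ∈ d.O → k ∈ Kp → ∀ b ∈ B, k * b * k⁻¹ * b⁻¹ ∈ A := by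
  classical
  intro k hkD hkO hkK b hb
  set N := A.subgroupOf B
  haveI : N.Normal := ⟨fun x hx g => Subgroup.mem_subgroupOf.mpr (hAn g (hBE g.2) _ (Subgroup.mem_subgroupOf.mp hx))⟩
  let Q := ↥B ⧸ N
  haveI : Nontrivial Q := by
    obtain ⟨b, hb, hbA⟩ := SetLike.exists_of_lt hAB
    exact ⟨⟨((⟨b, hb⟩ : ↥B) : ↥B ⧸ N), 1,
      fun e => hbA (Subgroup.mem_subgroupOf.mp ((QuotientGroup.eq_one_iff _).mp e))⟩⟩
  let ρ : ↥d.D →* MulAut Q := quotAct (subAct hBD) N fun x y hy =>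
    Subgroup.mem_subgroupOf.mpr (hAD x x.2 _ (Subgroup.mem_subgroupOf.mp hy))
  have hρ : ∀ (x : ↥d.D) (y : ↥B), ρ x (y : Q) = ((subAct hBD x y : ↥B) : Q) := fun x y => rfl
  have hQ : IsPGroup p Q := (r.pV.to_le (hBE.trans hEV)).to_quotient N
  have hirr : ∀ S : Subgroup Q, S ≠ ⊥ → (∀ x, ∀ y ∈ S, ρ x y ∈ S) → S = ⊤ := by
    intro S hS hSi
    set C := (S.comap (QuotientGroup.mk' N)).map B.subtype
    have hAC : A ≤ C := fun x hx => ⟨⟨x, hAB.le hx⟩, by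
      show QuotientGroup.mk' N ⟨x, hAB.le hx⟩ ∈ S
      rw [show QuotientGroup.mk' N ⟨x, hAB.le hx⟩ = 1 from
        (QuotientGroup.eq_one_iff _).mpr (Subgroup.mem_subgroupOf.mpr hx)]
      exact one_mem S, rfl⟩
    have hCD : InvUnder d.D C := by
      rintro x hx _ ⟨y, hy, rfl⟩
      exact ⟨subAct hBD ⟨x, hx⟩ y, hSi ⟨x, hx⟩ _ hy, rfl⟩
    rcases hmin C hAC (Subgroup.map_subtype_le _) hCD with e | e
    · exfalso
      refine hS (S.eq_bot_iff_forall.mpr fun y hy => ?_)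
      induction y using QuotientGroup.induction_on with
      | H y => exact (QuotientGroup.eq_one_iff y).mpr (Subgroup.mem_subgroupOf.mpr (e ▸ ⟨y, hy, rfl⟩))
    · refine eq_top_iff.mpr fun y _ => ?_
      induction y using QuotientGroup.induction_on with
      | H y =>
        obtain ⟨y', hy', e'⟩ := e.ge y.2
        rw [show y = y' from Subtype.ext e'.symm]
        exact hy'
  set P : Subgroup ↥d.D := (d.O ⊓ Kp).subgroupOf d.D
  have hk1 : ρ ⟨k, hkD⟩ = 1 := by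
    refine fixed_bot hQ ρ hirr (P.map ρ) ?_ ?_ ⟨⟨k, hkD⟩, Subgroup.mem_subgroupOf.mpr ⟨hkO, hkK⟩, rfl⟩
    · rintro ⟨_, x, hx, rfl⟩
      obtain ⟨i, hi⟩ := r.pK x (Subgroup.mem_subgroupOf.mp hx).2
      refine ⟨i, Subtype.ext (MulEquiv.ext fun y => ?_)⟩
      show (ρ x ^ p ^ i) y = y
      rw [← map_pow]
      induction y using QuotientGroup.induction_on with
      | H y =>
        rw [hρ]
        refine congrArg _ (Subtype.ext ?_)
        show ((x ^ p ^ i : ↥d.D) : G) * (y : G) * ((x ^ p ^ i : ↥d.D) : G)⁻¹ = y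
        rw [SubmonoidClass.coe_pow, (hi y (hEV (hBE y.2))).eq, mul_inv_cancel_right]
    · rintro x _ ⟨y, hy, rfl⟩
      refine ⟨x * y * x⁻¹, Subgroup.mem_subgroupOf.mpr ⟨?_, ?_⟩, by rw [map_mul, map_mul, map_inv]⟩
      · exact Frame.Spec.O_conj (d.D_le x.2) (Subgroup.mem_subgroupOf.mp hy).1
      · exact r.Kn x (r.CM (d.D_le x.2)) _ (Subgroup.mem_subgroupOf.mp hy).2
  have e := MulEquiv.congr_fun hk1 ((⟨b, hb⟩ : ↥B) : ↥B ⧸ N)
  rw [hρ, MulAut.one_apply, QuotientGroup.eq_iff_div_mem, Subgroup.mem_subgroupOf, div_eq_mul_inv] at e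
  exact e

variable (h : Hyp G) (hd : d.Spec) (hq : 3 < d.q) [hp : Fact p.Prime]
  (hOD : ¬ ∀ x ∈ d.O, ∀ y ∈ d.D, x * y = y * x)
  {c : G} (hcD : c ∈ d.D) (hcO : c ∉ d.O) (hc : a⁻¹ * c ∈ Kp) {k : ℕ} (hck : c ^ p ^ k = 1)

include r h hd hq hp hOD hcD hcO hc hck in
/-- **`z` centralises an abelian normal subgroup.** -/
theorem abelian_fixed {U : Subgroup G} (hUV : U ≤ V) (hUM : InvUnder M U)
    (hUc : ∀ x ∈ U, ∀ y ∈ U, x * y = y * x) : ∀ w ∈ U, d.z * w = w * d.z := by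
  let A : Subgroup G :=
    { carrier := {x | x ∈ U ∧ d.z * x * d.z⁻¹ = x⁻¹}
      one_mem' := ⟨one_mem _, by simp⟩
      mul_mem' := fun {x y} hx hy => ⟨mul_mem hx.1 hy.1, by
        rw [← conj_mul, hx.2, hy.2, mul_inv_rev]
        exact hUc _ (inv_mem hx.1) _ (inv_mem hy.1)⟩
      inv_mem' := fun {x} hx => ⟨inv_mem hx.1, by rw [← conj_inv, hx.2]⟩ }
  have hA : A = ⊥ := r.no_inverted h hd hq hOD hcD hcO hc hck (A := A) (fun x hx => hUV hx.1)
    (fun x hx y hy => hUc x hx.1 y hy.1) (fun m hm x hx => ⟨hUM m (r.CM hm) x hx.1, by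
      have e : d.z * m = m * d.z := (Frame.Spec.z_central hm).symm
      calc d.z * (m * x * m⁻¹) * d.z⁻¹ = (d.z * m) * x * (d.z * m)⁻¹ := by group
        _ = m * (d.z * x * d.z⁻¹) * m⁻¹ := by rw [e]; group
        _ = (m * x * m⁻¹)⁻¹ := by rw [hx.2]; group⟩) fun x hx => hx.2
  intro w hw
  obtain ⟨e, he, f, hf, hez, hfz, rfl⟩ := exists_fixed_mul_inverted
    (r.Vodd.of_dvd_nat (Subgroup.card_dvd_of_le hUV))
    (Subgroup.mem_normalizer_fintype fun x hx => hUM d.z (r.CM Frame.Spec.z_mem_C) x hx)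
    (by rw [← pow_two, ← hd.zord, pow_orderOf_eq_one]) hw
  rw [show f = 1 from Subgroup.mem_bot.mp (hA ▸ (⟨hf, hfz⟩ : f ∈ A)), mul_one]
  exact mul_inv_eq_iff_eq_mul.mp hez

include r h hd hq hp hOD hcD hcO hc hck in
/-- **The self-centralising case.** -/
theorem critical_false (hself : ∀ x ∈ M, (∀ v ∈ V, x * v = v * x) → x ∈ V) : False := by
  classical
  haveI := d.D_perfect
  haveI : Fintype G := Fintype.ofFinite G
  haveI : Fact d.p.Prime := ⟨hd.prime⟩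
  obtain ⟨SC⟩ : Nonempty (RankTwo.SmallChar d.z d.q) := by
    haveI := h.simple
    exact RankTwo.exists_smallChar h.noncomm d.S hd.qw hd.zord hd.zS hd.zc d.U hd.US hd.klein hd.Un hd.podd d.n
      hd.npos d.F hd.card ⟨_, inferInstance, hd.sl⟩
  have hχ : IsCharacter G SC.χ := by
    obtain ⟨n, ρ, -, e⟩ := SC.irr
    exact ⟨n, ρ, e⟩
  obtain ⟨E0, hch, hcom, -, hself0⟩ := Small.exists_critical r.pV
  set EG : Subgroup G := E0.map V.subtype with hEG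
  set ZG : Subgroup G := (E0 ⊓ Subgroup.centralizer (E0 : Set ↥V)).map V.subtype with hZG
  have hVM : V ≤ M := r.VK.trans r.KM
  have hzz : d.z * d.z = 1 := by rw [← pow_two, ← hd.zord, pow_orderOf_eq_one]
  have hzM : d.z ∈ M := r.CM Frame.Spec.z_mem_C
  have hEV : EG ≤ V := Subgroup.map_subtype_le _
  have hZE : ZG ≤ EG := Subgroup.map_mono inf_le_left
  have hchar : ∀ S : Subgroup ↥V, S.Characteristic → InvUnder M (S.map V.subtype) := by
    intro S hS m hm e he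
    obtain ⟨e, he', rfl⟩ := he
    exact ⟨subAct r.Vn ⟨m, hm⟩ e, Small.apply_mem_of_char (hC := hS) _ he', rfl⟩
  have hEM : InvUnder M EG := hchar E0 hch
  have hZM : InvUnder M ZG := hchar _ inferInstance
  have hcen : ∀ e ∈ EG, ∀ w ∈ ZG, e * w = w * e := by
    rintro _ ⟨e, he, rfl⟩ _ ⟨w, hw, rfl⟩
    exact congrArg Subtype.val (hw.2 e he)
  have hcomm : ∀ x ∈ EG, ∀ y ∈ EG, x * y * x⁻¹ * y⁻¹ ∈ ZG := by
    rintro _ ⟨x, hx, rfl⟩ _ ⟨y, hy, rfl⟩
    exact ⟨⁅x, y⁆, hcom x y hy, rfl⟩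
  have hcenV : ∀ v ∈ V, (∀ e ∈ EG, v * e = e * v) → v ∈ ZG := fun v hv hve => by
    have h1 : (⟨v, hv⟩ : ↥V) ∈ Subgroup.centralizer (E0 : Set ↥V) := fun e he =>
      Subtype.ext (hve e ⟨e, he, rfl⟩).symm
    exact ⟨⟨v, hv⟩, ⟨hself0 h1, h1⟩, rfl⟩
  have hZz : ∀ w ∈ ZG, d.z * w = w * d.z := r.abelian_fixed h hd hq hOD hcD hcO hc hck (hZE.trans hEV) hZM
    fun x hx y hy => hcen x (hZE hx) y hy
  have hfixD : ∀ v ∈ V, d.z * v = v * d.z → ∀ x ∈ d.D, x * v = v * x := fun v hv hvz x hx =>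
    r.centralizes_fixed h hd hq hcD hcO hc hck hv hvz hx
  have hzD : d.z ∈ d.D := hd.z_mem_D hq
  have hDM : d.D ≤ M := d.D_le.trans r.CM
  have hzE : ∀ e ∈ EG, d.z * e * d.z⁻¹ ∈ EG := hEM d.z hzM
  have hEodd : Odd (Nat.card EG) := r.Vodd.of_dvd_nat (Subgroup.card_dvd_of_le hEV)
  have hVCO : ∀ v ∈ V, v * d.z = d.z * v → v ∈ d.O := by
    intro v hv hvz
    haveI : (V.subgroupOf d.C).Normal := ⟨fun x hx g =>
      Subgroup.mem_subgroupOf.mpr (r.Vn g (r.CM g.2) _ (Subgroup.mem_subgroupOf.mp hx))⟩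
    have hodd : Odd (Nat.card (V.subgroupOf d.C)) := r.Vodd.of_dvd_nat
      (Subgroup.card_dvd_of_injective ((d.C.subtype.comp (V.subgroupOf d.C).subtype).codRestrict V
        fun x => Subgroup.mem_subgroupOf.mp x.2) fun x y e =>
          Subtype.ext (Subtype.ext (congrArg (fun t : ↥V => (t : G)) e)))
    exact ⟨⟨v, Subgroup.mem_centralizer_singleton_iff.mpr hvz⟩,
      CfsgLib.le_oddCore hodd (Subgroup.mem_subgroupOf.mpr hv), rfl⟩
  -- the part of `D ∩ O` in `Kp` acts trivially on `V`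
  have hP : ∀ g ∈ d.D, g ∈ d.O → g ∈ Kp → ∀ v ∈ V, g * v = v * g := by
    intro g hgD hgO hgK
    haveI : Fintype ↥ZG := Fintype.ofFinite _
    have hgz : Commute d.z g := (Frame.Spec.z_central (d.O_le hgO)).symm
    have hrad : ∀ μ : ↥ZG →* ℂˣ, μ ≠ 1 → RankTwo.wgt SC.χ μ ≠ 0 →
        ∀ e ∈ EG, d.z * e * d.z⁻¹ = e⁻¹ → g * e * g⁻¹ * e⁻¹ ∈ rad hcen hcomm μ := by
      intro μ hμ hw
      set R := rad hcen hcomm μ with hR
      have hZR : ZG ≤ R := le_rad hcen hcomm hZE μ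
      have hRE : R ≤ EG := rad_le hcen hcomm μ
      have hcommR : ∀ x ∈ EG, ∀ y ∈ EG, x * y * x⁻¹ * y⁻¹ ∈ R := fun x hx y hy => hZR (hcomm x hx y hy)
      have hnorm : ∀ B : Subgroup G, R ≤ B → B ≤ EG → InvUnder EG B := fun B hRB hBE x hx b hb => by
        rw [show x * b * x⁻¹ = (x * b * x⁻¹ * b⁻¹) * b by group]
        exact mul_mem (hRB (hcommR x hx b (hBE hb))) hb
      have hRn : InvUnder EG R := hnorm R le_rfl hRE
      have hRD : InvUnder d.D R := by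
        intro x hx e he
        obtain ⟨hee, heμ⟩ := he
        refine ⟨hEM x (hDM hx) e hee, fun y hy => ?_⟩
        have hy' : x⁻¹ * y * x ∈ EG := by simpa using hEM x⁻¹ (inv_mem (hDM hx)) y hy
        have hk := hcomm e hee _ hy'
        have hfix := hfixD _ (hEV (hZE hk)) (hZz _ hk) x hx
        rw [← heμ _ hy']
        refine congrArg μ (Subtype.ext ?_)
        show x * e * x⁻¹ * y * (x * e * x⁻¹)⁻¹ * y⁻¹ = e * (x⁻¹ * y * x) * e⁻¹ * (x⁻¹ * y * x)⁻¹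
        calc x * e * x⁻¹ * y * (x * e * x⁻¹)⁻¹ * y⁻¹
            = x * (e * (x⁻¹ * y * x) * e⁻¹ * (x⁻¹ * y * x)⁻¹) * x⁻¹ := by group
          _ = _ := by rw [hfix, mul_inv_cancel_right]
      let IG : Subgroup G :=
        { carrier := {e | e ∈ EG ∧ d.z * e * d.z⁻¹ * e ∈ R}
          one_mem' := ⟨one_mem _, by simp⟩
          mul_mem' := fun {e f} he hf => ⟨mul_mem he.1 hf.1, by
            rw [show d.z * (e * f) * d.z⁻¹ * (e * f) = (d.z * e * d.z⁻¹ * e) *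
              (e⁻¹ * (d.z * f * d.z⁻¹) * e⁻¹⁻¹ * (d.z * f * d.z⁻¹)⁻¹) * (d.z * f * d.z⁻¹ * f) by group]
            exact mul_mem (mul_mem he.2 (hcommR _ (inv_mem he.1) _ (hzE f hf.1))) hf.2⟩
          inv_mem' := fun {e} he => ⟨inv_mem he.1, by
            rw [show d.z * e⁻¹ * d.z⁻¹ * e⁻¹ =
              ((e * (d.z * e * d.z⁻¹) * e⁻¹ * (d.z * e * d.z⁻¹)⁻¹) * (d.z * e * d.z⁻¹ * e))⁻¹ by group]
            exact inv_mem (mul_mem (hcommR _ he.1 _ (hzE e he.1)) he.2)⟩ }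
      have hIE : IG ≤ EG := fun e he => he.1
      have hID : InvUnder d.D IG := fun x hx e he => ⟨hEM x (hDM hx) e he.1, by
        have e1 : d.z * x = x * d.z := (Frame.Spec.z_central (d.D_le hx)).symm
        rw [show d.z * (x * e * x⁻¹) * d.z⁻¹ * (x * e * x⁻¹) = (d.z * x) * e * (d.z * x)⁻¹ * (x * e * x⁻¹) by group,
          e1, show x * d.z * e * (x * d.z)⁻¹ * (x * e * x⁻¹) = x * (d.z * e * d.z⁻¹ * e) * x⁻¹ by group]
        exact hRD x hx _ he.2⟩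
      have hRI : R ≤ IG := fun e he => ⟨hRE he, mul_mem (hRD d.z hzD e he) he⟩
      intro e he hinv
      have heI : e ∈ IG := ⟨he, by rw [hinv, inv_mul_cancel]; exact one_mem _⟩
      by_cases hIR : IG = R
      · exact mul_mem (hRD g hgD e (hIR ▸ heI)) (inv_mem (hIR ▸ heI))
      obtain ⟨B₁, hB₁⟩ := (Set.toFinite {B : Subgroup G | R < B ∧ B ≤ IG ∧ InvUnder d.D B}).exists_minimal
        ⟨IG, lt_of_le_of_ne hRI (Ne.symm hIR), le_rfl, hID⟩
      obtain ⟨hR₁, hB₁I, hB₁D⟩ := hB₁.prop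
      have hmin₁ : ∀ C : Subgroup G, R ≤ C → C ≤ B₁ → InvUnder d.D C → C = R ∨ C = B₁ := fun C h1 h2 h3 =>
        h1.eq_or_lt.imp Eq.symm fun h4 => le_antisymm h2 (hB₁.le_of_le ⟨h4, h2.trans hB₁I, h3⟩ h2)
      by_cases h1 : B₁ = IG
      · exact r.section_trivial hEV hR₁ (hB₁I.trans hIE) hRn hRD hB₁D hmin₁ g hgD hgO hgK e (h1 ▸ heI)
      obtain ⟨B₂, hB₂⟩ := (Set.toFinite {B : Subgroup G | B₁ < B ∧ B ≤ IG ∧ InvUnder d.D B}).exists_minimal
        ⟨IG, lt_of_le_of_ne hB₁I h1, le_rfl, hID⟩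
      obtain ⟨h₁₂, hB₂I, hB₂D⟩ := hB₂.prop
      have hmin₂ : ∀ C : Subgroup G, B₁ ≤ C → C ≤ B₂ → InvUnder d.D C → C = B₁ ∨ C = B₂ := fun C h1 h2 h3 =>
        h1.eq_or_lt.imp Eq.symm fun h4 => le_antisymm h2 (hB₂.le_of_le ⟨h4, h2.trans hB₂I, h3⟩ h2)
      have hc₁ := r.chief_large h hd hq hcD hcO hc hck hEV hEM hR₁ (hB₁I.trans hIE) hRn hcommR hRD hB₁D
        (fun b hb => (hB₁I hb).2) hmin₁
      have hc₂ := r.chief_large h hd hq hcD hcO hc hck hEV hEM h₁₂ (hB₂I.trans hIE)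
        (hnorm B₁ hR₁.le (hB₁I.trans hIE)) (fun x hx y hy => hR₁.le (hcommR x hx y hy)) hB₁D hB₂D
        (fun b hb => hR₁.le (hB₂I hb).2) hmin₂
      have hlt := rad_small hcen hcomm hZE hd SC hzE hEodd hZz (fun x hx hxz => hVCO x (hEV hx) hxz) hμ hw
      rw [← hR] at hlt
      have hle := Subgroup.card_le_of_le (hB₂I.trans hIE)
      exfalso
      have : d.q ^ 4 * Nat.card R ≤ Nat.card B₂ := calc
        d.q ^ 4 * Nat.card R = d.q ^ 2 * (d.q ^ 2 * Nat.card R) := by ring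
        _ ≤ d.q ^ 2 * Nat.card B₁ := Nat.mul_le_mul_left _ hc₁
        _ ≤ Nat.card B₂ := hc₂
      omega
    -- it centralises `EG`
    have hgM : g ∈ M := hDM hgD
    have hE1 : ∀ e ∈ EG, g * e = e * g := by
      intro e he
      obtain ⟨e1, he1, f, hf, he1z, hfz, rfl⟩ := exists_fixed_mul_inverted hEodd
        (Subgroup.mem_normalizer_fintype fun x hx => hzE x hx) hzz he
      have h1 : Commute g e1 := hfixD e1 (hEV he1) (mul_inv_eq_iff_eq_mul.mp he1z) g hgD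
      have ht : g * f * g⁻¹ * f⁻¹ ∈ EG := mul_mem (hEM g hgM f hf) (inv_mem hf)
      have htZ : g * f * g⁻¹ * f⁻¹ ∈ ZG := hcenV _ (hEV ht) fun y hy =>
        eq_one_of_rad hcen hcomm hZE hχ SC.faithful ht (fun μ h1 h2 => hrad μ h1 h2 f hf hfz) hy
      have h2 := eq_one_of_inverted hgz hfz (hZz _ htZ)
        (hEodd.of_dvd_nat (Subgroup.orderOf_dvd_natCard EG hf)) (hEodd.of_dvd_nat (Subgroup.orderOf_dvd_natCard EG ht))
      exact (h1.mul_right (mul_inv_eq_iff_eq_mul.mp (mul_inv_eq_one.mp h2))).eq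
    intro v hv
    obtain ⟨v1, hv1, f, hf, hv1z, hfz, rfl⟩ := exists_fixed_mul_inverted r.Vodd
      (Subgroup.mem_normalizer_fintype fun x hx => r.Vn d.z hzM x hx) hzz hv
    have h1 : Commute g v1 := hfixD v1 hv1 (mul_inv_eq_iff_eq_mul.mp hv1z) g hgD
    have ht : g * f * g⁻¹ * f⁻¹ ∈ V := mul_mem (r.Vn g hgM f hf) (inv_mem hf)
    have htZ : g * f * g⁻¹ * f⁻¹ ∈ ZG := hcenV _ ht fun y hy => by
      have hy' : f⁻¹ * y * f ∈ EG := by simpa using hEM f⁻¹ (inv_mem (hVM hf)) y hy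
      refine mul_inv_eq_iff_eq_mul.mp ?_
      calc g * f * g⁻¹ * f⁻¹ * y * (g * f * g⁻¹ * f⁻¹)⁻¹
          = g * f * (g⁻¹ * (f⁻¹ * y * f) * g) * f⁻¹ * g⁻¹ := by group
        _ = g * f * (f⁻¹ * y * f) * f⁻¹ * g⁻¹ := by
          rw [show g⁻¹ * (f⁻¹ * y * f) * g = f⁻¹ * y * f by rw [mul_assoc, ← hE1 _ hy', inv_mul_cancel_left]]
        _ = g * y * g⁻¹ := by group
        _ = y := mul_inv_eq_iff_eq_mul.mpr (hE1 y hy)
    have h2 := eq_one_of_inverted hgz hfz (hZz _ htZ) (r.Vodd.of_dvd_nat (Subgroup.orderOf_dvd_natCard V hf))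
      (r.Vodd.of_dvd_nat (Subgroup.orderOf_dvd_natCard V ht))
    exact (h1.mul_right (mul_inv_eq_iff_eq_mul.mp (mul_inv_eq_one.mp h2))).eq
  -- so `O` centralises `D`
  apply hOD
  intro o ho x hx
  have hq' : ∀ y ∈ d.D, o * y * o⁻¹ * y⁻¹ ∈ V ∧ ∀ s ∈ d.D, s * (o * y * o⁻¹ * y⁻¹) = o * y * o⁻¹ * y⁻¹ * s := by
    intro y hy
    set t := o * y * o⁻¹ * y⁻¹ with ht
    have htD : t ∈ d.D := mul_mem (d.D_conj (d.O_le ho) hy) (inv_mem hy)
    have htO : t ∈ d.O := by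
      rw [ht, show o * y * o⁻¹ * y⁻¹ = o * (y * o⁻¹ * y⁻¹) by group]
      exact mul_mem ho (Frame.Spec.O_conj (d.D_le hy) (inv_mem ho))
    have htV : t ∈ V := hself t (hDM htD) (hP t htD htO (r.OD_mem o ho y hy))
    exact ⟨htV, fun s hs => hfixD t htV (Frame.Spec.z_central (d.O_le htO)).symm s hs⟩
  let δ : ↥d.D →* ↥V := MonoidHom.mk' (fun y => ⟨o * y * o⁻¹ * (y : G)⁻¹, (hq' y y.2).1⟩)
    fun y₁ y₂ => Subtype.ext (by
      show o * ((y₁ : G) * y₂) * o⁻¹ * ((y₁ : G) * y₂)⁻¹ =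
        o * (y₁ : G) * o⁻¹ * (y₁ : G)⁻¹ * (o * (y₂ : G) * o⁻¹ * (y₂ : G)⁻¹)
      have h1 := (hq' y₂ y₂.2).2 y₁ y₁.2
      calc o * ((y₁ : G) * y₂) * o⁻¹ * ((y₁ : G) * y₂)⁻¹
          = o * (y₁ : G) * o⁻¹ * (y₁ : G)⁻¹ * ((y₁ : G) * (o * (y₂ : G) * o⁻¹ * (y₂ : G)⁻¹)) * (y₁ : G)⁻¹ := by group
        _ = _ := by rw [h1]; group)
  haveI : Group.IsPerfect δ.range := Group.IsPerfect.ofSurjective (f := δ.rangeRestrict) δ.rangeRestrict_surjective
  haveI : Group.IsNilpotent δ.range := (r.pV.to_subgroup δ.range).isNilpotent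
  have hδ : δ ⟨x, hx⟩ = 1 := by
    by_contra hne
    haveI : Nontrivial δ.range := ⟨⟨⟨δ ⟨x, hx⟩, _, rfl⟩, 1, fun e => hne (congrArg Subtype.val e)⟩⟩
    exact Group.IsPerfect.not_isSolvable δ.range inferInstance
  exact mul_inv_eq_iff_eq_mul.mp (mul_inv_eq_one.mp (congrArg Subtype.val hδ : o * x * o⁻¹ * x⁻¹ = 1))

end Red

variable {d : Frame G} (h : Hyp G) (hd : d.Spec) (hq : 3 < d.q)
  (hiso : ∀ N : Subgroup G, N ≠ ⊤ → d.C ≤ N → ∀ g ∈ N, Commute (g * d.z * g⁻¹) d.z → g * d.z * g⁻¹ = d.z)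
  (hOD : ¬ ∀ x ∈ d.O, ∀ y ∈ d.D, x * y = y * x)
  {p : ℕ} [hp : Fact p.Prime] {M : Subgroup G} (hM : BG.Bad d.z M) (hF : IsPGroup p (FF M))

include h hd hq hiso hOD hp hM hF in
/-- **A maximal subgroup over the centraliser is stable.** -/
theorem stable : Stab p ↥M := by
  intro V _ hV hcase a hap hquad
  by_contra hout
  have hp2 : p ≠ 2 := hM.ne_two fun e => hM.moved (by rw [FF_eq_OO hp.out hF, e]; exact bot_le)
  obtain ⟨Kp, c, r, hcD, hcO, hc, k, hck⟩ := exists_red h hd hq hM.cent (hiso M hM.coatom.1 hM.cent) hp2 V hV a hap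
    hquad hout
  rcases hcase with hab | hsc
  · obtain ⟨v, hv, hvz⟩ := r.zmove
    refine hvz (r.abelian_fixed h hd hq hOD hcD hcO hc hck le_rfl r.Vn ?_ v hv)
    rintro _ ⟨x, hx, rfl⟩ _ ⟨y, hy, rfl⟩
    exact congrArg (fun t : ↥V => ((t : ↥M) : G)) (hab.is_comm.comm ⟨x, hx⟩ ⟨y, hy⟩)
  · refine r.critical_false h hd hq hOD hcD hcO hc hck fun x hx hxc => ?_
    refine ⟨⟨x, hx⟩, hsc fun v hv => ?_, rfl⟩
    exact Subtype.ext (hxc v ⟨v, hv, rfl⟩).symm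

include h hd hq hiso hOD hp hM hF in
/-- **Such a subgroup is the normaliser of `Z(L(P))`.** -/
theorem central_of_bad : Central p M :=
  central_of_stable h hd hq hM hF (stable h hd hq hiso hOD hM hF)

end CfsgLib.RankTwoModel
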