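import Cfsg.Agent.Lib.RankTwoModel.PropCore
import Cfsg.Agent.Lib.RankTwo.Recognise

/-!
If `[O, D] ≠ 1` then no proper subgroup containing `N(U)` covers `D`, and `z` is isolated in every proper subgroup
containing `C`.

Blueprint: `blueprint/RankTwo_L5.md` (P1).
-/

set_option autoImplicit false
set_option linter.unusedSectionVars false
set_option linter.style.haveILetI false

namespace CfsgLib.RankTwoModel

open Cfsg CfsgLib.BG CfsgLib.GW

universe u

variable {G : Type u} [Group G] [Finite G] {d : Frame G}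

/-- **A proper subgroup covering `D` and fusing `z` to `v` in it, with `C_O(v)` inside, forces `[O, D] = 1`.** -/
theorem Frame.Spec.od_of_fused (hd : d.Spec) (h : Hyp G) (hq : 3 < d.q) {H : Subgroup G} (hH : H ≠ ⊤)
    (hcov : ∀ x ∈ d.D, ∃ o ∈ d.O, x * o ∈ H) {g : G} (hg : g ∈ H) (hne : g * d.z * g⁻¹ ≠ d.z)
    (hcm : g * d.z * g⁻¹ * d.z = d.z * (g * d.z * g⁻¹))
    (hCH : ∀ x ∈ d.O, g * d.z * g⁻¹ * x = x * (g * d.z * g⁻¹) → x ∈ H) :
    ∀ x ∈ d.O, ∀ y ∈ d.D, x * y = y * x := by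
  obtain ⟨X, hXH, hXn, hperf, hcore, hvX, hzX, hs, hqw, hm, hh, -, -⟩ := h.recognise hd hq hH hcov hg hne hcm
  exact hd.od_of_component h hq hcov hXn hperf hcore hzX hs hqw hm hh ((orderOf_cj g d.z).trans hd.zord) hne
    (Subgroup.mem_centralizer_singleton_iff.2 hcm) (hXH hvX) hCH

/-- **PROP: no proper subgroup containing `N(U)` covers `D`.** -/
theorem Frame.Spec.prop_no_cover (hd : d.Spec) (h : Hyp G) (hq : 3 < d.q)
    (hOD : ¬ ∀ x ∈ d.O, ∀ y ∈ d.D, x * y = y * x) {H : Subgroup G} (hH : H ≠ ⊤)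
    (hN : Subgroup.normalizer (d.U : Set G) ≤ H) : ¬ ∀ x ∈ d.D, ∃ o ∈ d.O, x * o ∈ H := by
  intro hcov
  obtain ⟨u, hu, huo, huz, huc, hcases⟩ := hd.exists_u
  obtain ⟨g, hgz, hgu, -⟩ := h.three hd.zord huo huc.symm huz
  have hgN : g ∈ Subgroup.normalizer (d.U : Set G) := by
    refine Subgroup.mem_normalizer_fintype fun x hx => ?_
    rcases hcases x hx with rfl | rfl | rfl | rfl
    · rw [mul_one, mul_inv_cancel]; exact one_mem _
    · rw [hgz]; exact hu
    · rw [hgu]; exact mul_mem hd.zU hu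
    · rw [show g * (u * d.z) * g⁻¹ = g * u * g⁻¹ * (g * d.z * g⁻¹) by group, hgu, hgz]
      exact mul_mem (mul_mem hd.zU hu) hu
  refine hOD (hd.od_of_fused h hq hH hcov (hN hgN) (by rw [hgz]; exact huz) (by rw [hgz]; exact huc) fun x hx hxu => hN ?_)
  rw [hgz] at hxu
  refine Subgroup.centralizer_le_normalizer _ (Subgroup.mem_centralizer_iff.2 fun y hy => ?_)
  have hxz : Commute x d.z := Frame.Spec.z_central (d.O_le hx)
  have hxu' : Commute x u := hxu.symm
  rcases hcases y hy with rfl | rfl | rfl | rfl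
  · rw [one_mul, mul_one]
  · exact hxz.symm.eq
  · exact hxu'.symm.eq
  · exact (hxu'.mul_right hxz).symm.eq

/-- **`z` is isolated in every proper subgroup containing `C`.** -/
theorem Frame.Spec.iso_overgroup (hd : d.Spec) (h : Hyp G) (hq : 3 < d.q)
    (hOD : ¬ ∀ x ∈ d.O, ∀ y ∈ d.D, x * y = y * x) {N : Subgroup G} (hN : N ≠ ⊤) (hC : d.C ≤ N) :
    ∀ g ∈ N, Commute (g * d.z * g⁻¹) d.z → g * d.z * g⁻¹ = d.z := by
  intro g hg hcm
  by_contra hne
  exact hOD (hd.od_of_fused h hq hN (fun x hx => ⟨1, one_mem _, by rw [mul_one]; exact hC (d.D_le hx)⟩) hg hne hcm.eq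
    fun x hx _ => hC (d.O_le hx))

end CfsgLib.RankTwoModel
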