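import Cfsg.Agent.Lib.RankTwoModel.CMax.Basic
import Cfsg.Agent.Lib.ZStar.Main

/-!
A perfect cover of `SL₂(q)` in `C` centralising `C_P(v)` centralises `P`, for a group `P` of odd order; hence `[O, D] = 1` if the cover centralises `C_O(u)`.

Blueprint: `blueprint/RankTwo_L5.md` (scalar remark).
-/

set_option autoImplicit false
set_option linter.unusedSectionVars false
set_option linter.style.haveILetI false

namespace CfsgLib.RankTwoModel

open Cfsg CfsgLib.BG CfsgLib.GW CfsgLib.BenderMax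

universe u

variable {G : Type u} [Group G] [Finite G] {d : Frame G}

/-- Involutions with the same fixed points whose actions on a group of odd order commute act in the same way. -/
theorem same_action {P : Subgroup G} (hPo : Odd (Nat.card P)) {σ τ : G} (hσ : orderOf σ = 2) (hτ : orderOf τ = 2)
    (hσP : σ ∈ Subgroup.normalizer (P : Set G)) (hτP : τ ∈ Subgroup.normalizer (P : Set G))
    (hfix : ∀ y ∈ P, σ * y = y * σ ↔ τ * y = y * τ)
    (hcm : ∀ y ∈ P, σ * (τ * y * τ⁻¹) * σ⁻¹ = τ * (σ * y * σ⁻¹) * τ⁻¹) :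
    ∀ y ∈ P, σ * y * σ⁻¹ = τ * y * τ⁻¹ := by
  intro y hy
  obtain ⟨p, ⟨hp1, hp2, hp3⟩, -⟩ := (Cfsg.Agent.S1124.result σ hσ P hPo
    fun x hx => mem_normalizer_of_mem hσP hx).1 y hy
  obtain ⟨hpP, hpc⟩ := Subgroup.mem_inf.1 hp1
  rw [Subgroup.mem_centralizer_singleton_iff] at hpc
  have hdec := (Cfsg.Agent.S1124.result τ hτ P hPo fun x hx => mem_normalizer_of_mem hτP hx).1
  obtain ⟨q, ⟨hq1, hq2, hq3⟩, -⟩ := hdec p.2 hp2.1
  obtain ⟨hqP, hqc⟩ := Subgroup.mem_inf.1 hq1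
  rw [Subgroup.mem_centralizer_singleton_iff] at hqc
  have haσ : σ * q.1 * σ⁻¹ = q.1 := mul_inv_eq_iff_eq_mul.2 ((hfix _ hqP).2 hqc.symm)
  have haτ : τ * q.1 * τ⁻¹ = q.1 := mul_inv_eq_iff_eq_mul.2 hqc.symm
  obtain ⟨c, -, huniq⟩ := hdec p.2⁻¹ (inv_mem hp2.1)
  have e1 : (q.1, σ * q.2 * σ⁻¹) = c := by
    refine huniq _ ⟨hq1, ⟨mem_normalizer_of_mem hσP hq2.1, ?_⟩, ?_⟩
    · show τ * (σ * q.2 * σ⁻¹) * τ⁻¹ = (σ * q.2 * σ⁻¹)⁻¹
      rw [← hcm _ hq2.1, hq2.2]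
      group
    · show p.2⁻¹ = q.1 * (σ * q.2 * σ⁻¹)
      rw [← hp2.2, hq3, show σ * (q.1 * q.2) * σ⁻¹ = σ * q.1 * σ⁻¹ * (σ * q.2 * σ⁻¹) by group, haσ]
  have e2 : (q.1⁻¹, q.1 * q.2⁻¹ * q.1⁻¹) = c := by
    refine huniq _ ⟨inv_mem hq1, ⟨mul_mem (mul_mem hqP (inv_mem hq2.1)) (inv_mem hqP), ?_⟩, ?_⟩
    · show τ * (q.1 * q.2⁻¹ * q.1⁻¹) * τ⁻¹ = (q.1 * q.2⁻¹ * q.1⁻¹)⁻¹
      rw [show τ * (q.1 * q.2⁻¹ * q.1⁻¹) * τ⁻¹ = τ * q.1 * τ⁻¹ * (τ * q.2 * τ⁻¹)⁻¹ * (τ * q.1 * τ⁻¹)⁻¹ by group,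
        haτ, hq2.2]
      group
    · show p.2⁻¹ = q.1⁻¹ * (q.1 * q.2⁻¹ * q.1⁻¹)
      rw [hq3]
      group
  have ha : q.1 = 1 := eq_one_of_sq hPo hqP (by
    have e := congrArg Prod.fst (e1.trans e2.symm)
    nth_rewrite 2 [show q.1 = q.1⁻¹ from e]
    exact mul_inv_cancel _)
  have h2 : τ * p.2 * τ⁻¹ = p.2⁻¹ := by rw [hq3, ha, one_mul]; exact hq2.2
  have hp1σ : σ * p.1 * σ⁻¹ = p.1 := mul_inv_eq_iff_eq_mul.2 hpc.symm
  have hp1τ : τ * p.1 * τ⁻¹ = p.1 := mul_inv_eq_iff_eq_mul.2 ((hfix _ hpP).1 hpc.symm)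
  rw [hp3, show σ * (p.1 * p.2) * σ⁻¹ = (σ * p.1 * σ⁻¹) * (σ * p.2 * σ⁻¹) by group,
    show τ * (p.1 * p.2) * τ⁻¹ = (τ * p.1 * τ⁻¹) * (τ * p.2 * τ⁻¹) by group, hp1σ, hp1τ, h2, hp2.2]

variable (h : Hyp G)
include h

/-- **The scalar lemma.** -/
theorem Frame.Spec.scalar_trivial (hd : d.Spec) (hq : 3 < d.q) {E : Subgroup G} [Group.IsPerfect E] (hED : E ≤ d.D)
    (hcov : ∀ x ∈ d.D, ∃ o ∈ d.O, x * o ∈ E) {v : G} (hv : orderOf v = 2) (hvC : v ∈ d.C) (hvz : v ≠ d.z)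
    (hvE : ∀ x ∈ E, v * x * v⁻¹ ∈ E) {P : Subgroup G} (hPo : Odd (Nat.card P))
    (hEP : E ≤ Subgroup.normalizer (P : Set G)) (hvP : v ∈ Subgroup.normalizer (P : Set G))
    (hfix : ∀ y ∈ P, v * y = y * v → ∀ x ∈ E, x * y = y * x) : ∀ x ∈ E, ∀ y ∈ P, x * y = y * x := by
  haveI : Fact (Nat.Prime 2) := ⟨Nat.prime_two⟩
  set H : Subgroup G := E ⊔ Subgroup.zpowers v with hH
  have hHP : H ≤ Subgroup.normalizer (P : Set G) := sup_le hEP (Subgroup.zpowers_le.2 hvP)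
  have hvH : v ∈ H := Subgroup.mem_sup_right (Subgroup.mem_zpowers v)
  have hEH : E ≤ H := le_sup_left
  have hvn : Subgroup.zpowers v ≤ Subgroup.normalizer (E : Set G) := zpowers_le_normalizer hvE
  have hdec : ∀ a ∈ H, ∃ x ∈ E, ∃ i : ℤ, a = x * v ^ i := fun a ha => by
    rw [hH, ← SetLike.mem_coe, Subgroup.coe_mul_of_right_le_normalizer_left E (Subgroup.zpowers v) hvn] at ha
    obtain ⟨x, hx, _, ⟨i, rfl⟩, rfl⟩ := ha
    exact ⟨x, hx, i, rfl⟩
  set N : Subgroup ↥H := (Subgroup.centralizer (P : Set G)).subgroupOf H with hN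
  haveI hNn : N.Normal := by
    refine ⟨fun a ha g => Subgroup.mem_centralizer_iff.2 fun y hy => ?_⟩
    have h1 : Commute ((g : G)⁻¹ * y * g) (a : G) :=
      Subgroup.mem_centralizer_iff.1 ha _ (by simpa using mem_normalizer_of_mem (inv_mem (hHP g.2)) hy)
    show y * ((g : G) * (a : G) * (g : G)⁻¹) = (g : G) * (a : G) * (g : G)⁻¹ * y
    calc y * ((g : G) * (a : G) * (g : G)⁻¹) = g * (((g : G)⁻¹ * y * g) * a) * (g : G)⁻¹ := by group
      _ = g * (a * ((g : G)⁻¹ * y * g)) * (g : G)⁻¹ := by rw [h1.eq]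
      _ = _ := by group
  by_cases hvc : (⟨v, hvH⟩ : ↥H) ∈ N
  · -- `v` centralises `P`
    have hle := hd.cover_le_of_comm h hq hv hvC hvz hED hcov hvE
      (K := Subgroup.centralizer (P : Set G))
      (fun x hx k hk hkE => (hNn.conj_mem ⟨k, hEH hkE⟩ hk ⟨x, hEH hx⟩ :))
      (fun x hx => (mul_mem hvc (hNn.conj_mem _ (inv_mem hvc) ⟨x, hEH hx⟩) :
        (⟨v, hvH⟩ : ↥H) * (⟨x, hEH hx⟩ * (⟨v, hvH⟩ : ↥H)⁻¹ * (⟨x, hEH hx⟩ : ↥H)⁻¹) ∈ N) |> fun e => by
          have e' : v * (x * v⁻¹ * x⁻¹) ∈ Subgroup.centralizer (P : Set G) := e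
          simpa [mul_assoc] using e')
    exact fun x hx y hy => (Subgroup.mem_centralizer_iff.1 (hle hx) y hy).symm
  set Y := ↥H ⧸ N
  set f := QuotientGroup.mk' N
  set vb := f ⟨v, hvH⟩ with hvb
  have hvb2 : vb * vb = 1 := by
    rw [hvb, ← map_mul, show (⟨v, hvH⟩ : ↥H) * ⟨v, hvH⟩ = 1 from Subtype.ext (invol_mul_self hv), map_one]
  have hvo : orderOf vb = 2 := orderOf_eq_prime (by rw [sq, hvb2]) fun e => hvc ((QuotientGroup.eq_one_iff _).1 e)
  have hiso : ∀ g : Y, g * vb * g⁻¹ * vb = vb * (g * vb * g⁻¹) → g * vb * g⁻¹ = vb := by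
    intro g hg
    obtain ⟨a, rfl⟩ := QuotientGroup.mk'_surjective N g
    obtain ⟨x, hx, i, hai⟩ := hdec a a.2
    have ha : a = (⟨x, hEH hx⟩ : ↥H) * (⟨v, hvH⟩ : ↥H) ^ i := Subtype.ext (by simpa using hai)
    have hc : f a * vb * (f a)⁻¹ = f ⟨x, hEH hx⟩ * vb * (f ⟨x, hEH hx⟩)⁻¹ := by
      rw [ha, map_mul, map_zpow, ← hvb, mul_assoc (f ⟨x, hEH hx⟩), (Commute.refl vb).zpow_left i |>.eq]
      group
    rw [hc] at hg ⊢
    set b := f ⟨x, hEH hx⟩ with hb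
    set v' : G := x * v * x⁻¹ with hv'
    have hv'P : v' ∈ Subgroup.normalizer (P : Set G) := mul_mem (mul_mem (hEP hx) hvP) (inv_mem (hEP hx))
    have hv'H : v' ∈ H := mul_mem (mul_mem (hEH hx) hvH) (inv_mem (hEH hx))
    have hbv : b * vb * b⁻¹ = f ⟨v', hv'H⟩ := by
      rw [hb, hvb, ← map_inv, ← map_mul, ← map_mul]
      rfl
    rw [hbv] at hg ⊢
    have hvi : v⁻¹ = v := invol_inv hv
    have hvi' : v'⁻¹ = v' := by rw [hv', mul_inv_rev, mul_inv_rev, inv_inv, hvi, mul_assoc]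
    have hg' : (v' * v)⁻¹ * (v * v') ∈ Subgroup.centralizer (P : Set G) := by
      rw [hvb, ← map_mul, ← map_mul] at hg
      exact (QuotientGroup.eq (s := N)).1 hg
    refine (QuotientGroup.eq (s := N)).2 (Subgroup.mem_centralizer_iff.2 fun y hy => ?_)
    have hfx : ∀ y ∈ P, v * y = y * v ↔ v' * y = y * v' := fun y hy => by
      constructor
      · intro e
        have c1 : Commute x y := hfix y hy e x hx
        exact ((c1.mul_left (show Commute v y from e)).mul_left c1.inv_left).eq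
      · intro e
        have hy' : x⁻¹ * y * x ∈ P := by simpa using mem_normalizer_of_mem (inv_mem (hEP hx)) hy
        have h1 : v * (x⁻¹ * y * x) = x⁻¹ * y * x * v := by
          calc v * (x⁻¹ * y * x) = x⁻¹ * (v' * y) * x := by rw [hv']; group
            _ = x⁻¹ * (y * v') * x := by rw [e]
            _ = _ := by rw [hv']; group
        have h2 := hfix _ hy' h1 x hx
        rw [show x * (x⁻¹ * y * x) = y * x by group] at h2
        have h3 : x⁻¹ * y * x = y := (mul_right_cancel h2).symm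
        rwa [h3] at h1
    have hsame := same_action hPo ((orderOf_cj x v).trans hv) hv hv'P hvP (fun y hy => (hfx y hy).symm)
      (fun y hy => by
        have h5 : Commute y ((v' * v)⁻¹ * (v * v')) := Subgroup.mem_centralizer_iff.1 hg' y hy
        symm
        calc v * (v' * y * v'⁻¹) * v⁻¹ =
              (v' * v) * ((v' * v)⁻¹ * (v * v') * y) * ((v' * v)⁻¹ * (v * v'))⁻¹ * (v' * v)⁻¹ := by group
          _ = (v' * v) * (y * ((v' * v)⁻¹ * (v * v'))) * ((v' * v)⁻¹ * (v * v'))⁻¹ * (v' * v)⁻¹ := by rw [h5.eq]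
          _ = v' * (v * y * v⁻¹) * v'⁻¹ := by group)
    show y * (v'⁻¹ * v) = v'⁻¹ * v * y
    have h6 := hsame y hy
    calc y * (v'⁻¹ * v) = v'⁻¹ * (v' * y * v'⁻¹) * v := by group
      _ = v'⁻¹ * (v * y * v⁻¹) * v := by rw [h6]
      _ = _ := by group
  have hZ := CfsgLib.ZStar.commutator_mem hvo (fun g hg => hiso g hg.symm.eq)
  set K : Subgroup G := ((oddCore Y).comap f).map H.subtype with hK
  have hle := hd.cover_le_of_comm h hq hv hvC hvz hED hcov hvE (K := K)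
    (fun x hx k hk hkE => by
      obtain ⟨a, ha, rfl⟩ := hk
      exact ⟨_, ((inferInstance : ((oddCore Y).comap f).Normal)).conj_mem a ha ⟨x, hEH hx⟩, rfl⟩)
    (fun x hx => ⟨⟨v, hvH⟩ * ⟨x, hEH hx⟩ * (⟨v, hvH⟩ : ↥H)⁻¹ * (⟨x, hEH hx⟩ : ↥H)⁻¹, by
      show f _ ∈ oddCore Y
      rw [map_mul, map_mul, map_mul, map_inv, map_inv]
      exact hZ _, rfl⟩)
  set g : E →* Y := f.comp (Subgroup.inclusion hEH)
  haveI : Group.IsPerfect g.range :=
    Group.IsPerfect.ofSurjective (f := g.rangeRestrict) g.rangeRestrict_surjective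
  haveI : Subsingleton g.range := CfsgLib.GW.subsingleton_of_odd (CfsgLib.odd_card_oddCore.of_dvd_nat
    (Subgroup.card_dvd_of_le (show g.range ≤ oddCore Y from by
      rintro _ ⟨x, rfl⟩
      obtain ⟨a, ha, hax⟩ := hle x.2
      show f (Subgroup.inclusion hEH x) ∈ oddCore Y
      rw [← show a = Subgroup.inclusion hEH x from Subtype.ext hax]
      exact ha)))
  intro x hx y hy
  have h1 : g ⟨x, hx⟩ = 1 := congrArg Subtype.val (Subsingleton.elim (⟨g ⟨x, hx⟩, ⟨_, rfl⟩⟩ : g.range) 1)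
  exact (Subgroup.mem_centralizer_iff.1 ((QuotientGroup.eq_one_iff _).1 h1 : (⟨x, hEH hx⟩ : ↥H) ∈ N) y hy).symm

/-- **`[O, D] = 1` as soon as a perfect cover of `SL₂(q)` centralises `C_O(u)`.** -/
theorem od_of_centralizes (hd : d.Spec) (hq : 3 < d.q) (D0 : Subgroup G) (hD0 : D0 ≤ d.C) [Group.IsPerfect D0]
    (hcov : ∀ x ∈ d.D, ∃ o ∈ d.O, x * o ∈ D0) (u : G) (hu : u ∈ d.U) (hu1 : u ≠ 1) (huz : u ≠ d.z)
    (hfix : ∀ x ∈ d.O, x * u = u * x → ∀ y ∈ D0, x * y = y * x) : ∀ x ∈ d.O, ∀ y ∈ d.D, x * y = y * x := by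
  haveI := hd.klein
  haveI := IsKleinFour.isMulCommutative (G := d.U)
  have huo : orderOf u = 2 := orderOf_eq_prime (by
    rw [sq]; exact congrArg Subtype.val (IsKleinFour.mul_self (⟨u, hu⟩ : d.U))) hu1
  have huC : u ∈ d.C := Subgroup.mem_centralizer_singleton_iff.2 (setLike_mul_comm hu hd.zU)
  set E := D0 ⊔ cj u D0 with hE
  haveI : Group.IsPerfect (cj u D0) := Group.IsPerfect.map _
  haveI : Group.IsPerfect E := Subgroup.isPerfect_iff.2 (le_antisymm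
    ((Subgroup.commutator_le.2 fun a ha b hb =>
      mul_mem (mul_mem (mul_mem ha hb) (inv_mem ha)) (inv_mem hb)))
    (sup_le ((Subgroup.commutator_eq_self (H := D0)).ge.trans (Subgroup.commutator_mono le_sup_left le_sup_left))
      ((Subgroup.commutator_eq_self (H := cj u D0)).ge.trans (Subgroup.commutator_mono le_sup_right le_sup_right))))
  have hD0D : D0 ≤ d.D := d.le_D hD0
  have hED : E ≤ d.D := sup_le hD0D (by
    rintro _ ⟨x, hx, rfl⟩
    exact d.D_conj huC (hD0D hx))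
  have huE : ∀ x ∈ E, u * x * u⁻¹ ∈ E := by
    intro x hx
    have huu : cj u E ≤ E := by
      rw [hE, cj, Subgroup.map_sup]
      refine sup_le le_sup_right (le_trans (le_of_eq ?_) le_sup_left)
      show cj u (cj u D0) = D0
      rw [cj_cj, invol_mul_self huo, cj_one]
    exact huu (conj_mem_cj hx)
  have hEn : d.C ≤ Subgroup.normalizer (d.O : Set G) := fun c hc =>
    Subgroup.mem_normalizer_fintype fun x hx => Frame.Spec.O_conj hc hx
  have hEfix : ∀ y ∈ d.O, u * y = y * u → ∀ x ∈ E, x * y = y * x := by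
    intro y hy hyu x hx
    have hle : E ≤ Subgroup.centralizer ({y} : Set G) := by
      refine sup_le (fun a ha => mem_cent.2 (hfix y hy hyu.symm a ha).symm) ?_
      rintro _ ⟨a, ha, rfl⟩
      refine mem_cent.2 ?_
      have c1 : Commute u y := hyu
      exact ((c1.mul_left (show Commute a y from (hfix y hy hyu.symm a ha).symm)).mul_left c1.inv_left).eq
    exact mem_cent.1 (hle hx)
  have hcen := hd.scalar_trivial h hq hED
    (fun x hx => by obtain ⟨o, ho, hxo⟩ := hcov x hx; exact ⟨o, ho, (le_sup_left : D0 ≤ E) hxo⟩)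
    huo huC huz huE d.O_odd ((hED.trans d.D_le).trans hEn) (hEn huC) hEfix
  haveI := d.D_perfect
  set M : Subgroup ↥d.D := (Subgroup.centralizer (d.O : Set G)).subgroupOf d.D
  haveI : M.Normal := ⟨fun a ha g => Subgroup.mem_centralizer_iff.2 fun y hy => by
    have h1 : Commute ((g : G)⁻¹ * y * g) (a : G) := Subgroup.mem_centralizer_iff.1 ha _
      (by simpa using Frame.Spec.O_conj (inv_mem (d.D_le g.2)) hy)
    show y * ((g : G) * (a : G) * (g : G)⁻¹) = (g : G) * (a : G) * (g : G)⁻¹ * y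
    calc y * ((g : G) * (a : G) * (g : G)⁻¹) = g * (((g : G)⁻¹ * y * g) * a) * (g : G)⁻¹ := by group
      _ = g * (a * ((g : G)⁻¹ * y * g)) * (g : G)⁻¹ := by rw [h1.eq]
      _ = _ := by group⟩
  haveI : Group.IsPerfect (↥d.D ⧸ M) :=
    Group.IsPerfect.ofSurjective (f := QuotientGroup.mk' M) (QuotientGroup.mk'_surjective _)
  have hsurj : Function.Surjective ((QuotientGroup.mk' M).comp (d.O.subgroupOf d.D).subtype) := fun q => by
    obtain ⟨x, rfl⟩ := QuotientGroup.mk'_surjective M q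
    obtain ⟨o, ho, hxo⟩ := hcov x x.2
    have hoD : o ∈ d.D := by simpa using mul_mem (inv_mem x.2) (hD0D hxo)
    refine ⟨⟨⟨o⁻¹, inv_mem hoD⟩, inv_mem ho⟩, ((QuotientGroup.eq (s := M)).2 ?_)⟩
    show ((⟨o⁻¹, inv_mem hoD⟩ : ↥d.D)⁻¹ * x : G) ∈ Subgroup.centralizer (d.O : Set G)
    refine Subgroup.mem_centralizer_iff.2 fun y hy => ?_
    have h1 : Commute ((x : G) * o) (o⁻¹ * y * o) := hcen _ ((le_sup_left : D0 ≤ E) hxo) _
      (by simpa using Frame.Spec.O_conj (inv_mem (d.O_le ho)) hy)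
    simp only [Subgroup.coe_inv, inv_inv]
    calc y * (o * x) = o * ((o⁻¹ * y * o) * (x * o)) * o⁻¹ := by group
      _ = o * ((x * o) * (o⁻¹ * y * o)) * o⁻¹ := by rw [h1.eq]
      _ = o * x * y := by group
  haveI := CfsgLib.GW.subsingleton_of_odd (X := ↥d.D ⧸ M)
    ((odd_subgroupOf d.O_odd).of_dvd_nat (Subgroup.card_dvd_of_surjective _ hsurj))
  intro x hx y hy
  exact Subgroup.mem_centralizer_iff.1
    ((QuotientGroup.eq_one_iff (N := M) (⟨y, hy⟩ : ↥d.D)).1 (Subsingleton.elim _ _) :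
      (⟨y, hy⟩ : ↥d.D) ∈ M) x hx

end CfsgLib.RankTwoModel
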