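import Cfsg.Agent.Lib.RankTwoModel.Quad
import Cfsg.Agent.Lib.RankTwoModel.SL2Semi
import Cfsg.Agent.Lib.A8Classes.Cores
import Cfsg.Agent.Lib.JankoReeMult.PSLTwo

/-!
A quadratic `p`-element induces an inner automorphism of `SL₂(q)`.

* `sl2_normal_or_top`: normal subgroups of `SL₂(q)` are central or everything;
* `not_field`: an automorphism with field part of order `p` cannot commute with odd invariant subgroups up to
  `p`-elements;
* `exists_inner`: a `p`-element acting quadratically on a faithful module induces an inner automorphism.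

Blueprint: `blueprint/RankTwo_P3.md`, section 1.
-/

set_option autoImplicit false
set_option linter.unusedSectionVars false
set_option linter.style.haveILetI false

namespace CfsgLib.RankTwoModel

open Subgroup Cfsg
open scoped MatrixGroups Pointwise

namespace SL2

open Matrix CfsgLib.PSL2

variable {F : Type} [Field F] [Fintype F]

local notation "M2" => Matrix (Fin 2) (Fin 2) F
local notation "SL" => Matrix.SpecialLinearGroup (Fin 2) F

theorem val_mul' (a b : SL) : (a * b).1 = a.1 * b.1 := rfl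

theorem val_inv' (a : SL) : (a⁻¹).1 = a.1.adjugate := rfl

theorem val_one' : (1 : SL).1 = 1 := rfl

/-- A normal subgroup of `SL₂(q)` is central or everything. -/
theorem sl2_normal_or_top (h3 : 3 < Fintype.card F) (N : Subgroup SL) [N.Normal] :
    N ≤ Subgroup.center SL ∨ N = ⊤ := by
  haveI := JankoReeMult.psl_simple (F := F) h3
  haveI : Group.IsPerfect SL := ⟨CfsgLib.StSL.perfect_SL2 h3⟩
  set π := QuotientGroup.mk' (Subgroup.center SL)
  rcases ((inferInstance : N.Normal).map π (QuotientGroup.mk'_surjective _)).eq_bot_or_eq_top with e | e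
  · left
    rwa [Subgroup.map_eq_bot_iff, QuotientGroup.ker_mk'] at e
  · right
    have h1 : ∀ a, ∃ n ∈ N, ∃ c ∈ Subgroup.center SL, a = n * c := fun a => by
      obtain ⟨n, hn, hna⟩ := e.ge (Subgroup.mem_top (π a))
      exact ⟨n, hn, n⁻¹ * a, (QuotientGroup.eq (s := Subgroup.center _)).1 hna, by group⟩
    rw [eq_top_iff, ← Group.IsPerfect.commutator_eq_top (G := SL), commutator_def, Subgroup.commutator_le]
    intro a _ b _
    obtain ⟨n, hn, c, hc, rfl⟩ := h1 a
    rw [commutatorElement_def, show n * c * b * (n * c)⁻¹ * b⁻¹ = n * (c * b * c⁻¹) * n⁻¹ * b⁻¹ by group,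
      ← Subgroup.mem_center_iff.1 hc b, mul_inv_cancel_right,
      show n * b * n⁻¹ * b⁻¹ = n * (b * n⁻¹ * b⁻¹) by group]
    exact mul_mem hn ((inferInstance : N.Normal).conj_mem _ (inv_mem hn) b)

/-- Conjugation is semilinear with trivial field part. -/
theorem semi_conj (x : SL) : Semi (MulAut.conj x) (SpecialLinearGroup.toGL x) (RingEquiv.refl F) := fun A => by
  rw [show A.1.map (RingEquiv.refl F) = A.1 from Matrix.ext fun _ _ => rfl, ← map_inv]
  rfl

/-- `d(a) = diag(a, a⁻¹)` on units. -/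
def diagU : Fˣ →* SL where
  toFun a := ⟨!![(a : F), 0; 0, ((a⁻¹ : Fˣ) : F)], by simp [Matrix.det_fin_two_of]⟩
  map_one' := by ext i j; fin_cases i <;> fin_cases j <;> simp
  map_mul' a b := by
    refine Subtype.ext ?_
    show _ = (_ * _ : M2)
    ext i j
    fin_cases i <;> fin_cases j <;> simp [Matrix.mul_apply, Fin.sum_univ_two, mul_comm]

theorem diagU_val (a : Fˣ) : (diagU a).1 = !![(a : F), 0; 0, ((a⁻¹ : Fˣ) : F)] := rfl

/-- The upper triangular matrices with corner entry an `s`-th root of unity. -/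
def upperS (s : ℕ) : Subgroup SL where
  carrier := {g | g.1 1 0 = 0 ∧ g.1 0 0 ^ s = 1}
  one_mem' := ⟨by simp, by simp⟩
  mul_mem' := fun {a b} ha hb => ⟨by
    rw [val_mul', Matrix.mul_apply, Fin.sum_univ_two, ha.1, hb.1]; ring, by
    rw [val_mul', Matrix.mul_apply, Fin.sum_univ_two, hb.1, mul_zero, add_zero, mul_pow,
      ha.2, hb.2, one_mul]⟩
  inv_mem' := fun {a} ha => by
    have hdet := a.2
    rw [Matrix.det_fin_two, ha.1, mul_zero, sub_zero] at hdet
    refine ⟨by simp [val_inv', Matrix.adjugate_fin_two, ha.1], ?_⟩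
    rw [show (a⁻¹).1 0 0 = (a.1 0 0)⁻¹ by
      rw [← eq_inv_of_mul_eq_one_right hdet]; simp [val_inv', Matrix.adjugate_fin_two],
      inv_pow, ha.2, inv_one]

theorem mem_upperS {s : ℕ} {g : SL} : g ∈ upperS s ↔ g.1 1 0 = 0 ∧ g.1 0 0 ^ s = 1 := Iff.rfl

theorem pow_upper {g : SL} (h10 : g.1 1 0 = 0) : ∀ n : ℕ, (g ^ n).1 1 0 = 0 ∧ (g ^ n).1 0 0 = g.1 0 0 ^ n
  | 0 => by simp
  | n + 1 => by
    obtain ⟨h1, h2⟩ := pow_upper h10 n
    rw [pow_succ, val_mul', Matrix.mul_apply, Matrix.mul_apply, Fin.sum_univ_two,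
      Fin.sum_univ_two, h1, h2, h10, pow_succ]
    constructor <;> ring

theorem upper_one {g : SL} (h10 : g.1 1 0 = 0) (h00 : g.1 0 0 = 1) : ∃ t, g = uSL t := by
  have hdet := g.2
  rw [Matrix.det_fin_two, h10, h00, mul_zero, sub_zero, one_mul] at hdet
  refine ⟨g.1 0 1, Subtype.ext ?_⟩
  rw [coe_uSL, Matrix.eta_fin_two g.1, h10, h00, hdet]
  simp

theorem uSL_pow (t : F) : ∀ n : ℕ, uSL t ^ n = uSL ((n : F) * t)
  | 0 => by
    refine Subtype.ext ?_
    ext i j; fin_cases i <;> fin_cases j <;> simp [coe_uSL]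
  | n + 1 => by
    rw [pow_succ, uSL_pow t n]
    refine Subtype.ext ?_
    rw [val_mul', coe_uSL, coe_uSL, coe_uSL]
    push_cast
    ext i j; fin_cases i <;> fin_cases j <;> simp [Matrix.mul_apply, Fin.sum_univ_two] <;> ring

theorem pow_upperS (l : ℕ) [Fact l.Prime] [CharP F l] {s : ℕ} {g : SL} (hg : g ∈ upperS s) : g ^ (s * l) = 1 := by
  obtain ⟨h1, h2⟩ := pow_upper hg.1 s
  obtain ⟨t, ht⟩ := upper_one h1 (h2.trans hg.2)
  rw [pow_mul, ht, uSL_pow, CharP.cast_eq_zero, zero_mul]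
  refine Subtype.ext ?_
  ext i j; fin_cases i <;> fin_cases j <;> simp [coe_uSL]

theorem odd_upperS (l : ℕ) [Fact l.Prime] [CharP F l] {s : ℕ} (hs : Odd s) (hl : l ≠ 2) :
    Odd (Nat.card (upperS (F := F) s)) := by
  classical
  by_contra h
  haveI : Fact (Nat.Prime 2) := ⟨Nat.prime_two⟩
  obtain ⟨g, hg⟩ := exists_prime_orderOf_dvd_card' 2
    (even_iff_two_dvd.mp (Nat.not_odd_iff_even.mp h))
  have h1 : g ^ (s * l) = 1 := Subtype.ext (pow_upperS l g.2)
  have hodd : Odd (s * l) := hs.mul ((Fact.out : l.Prime).odd_of_ne_two hl)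
  have h2 := orderOf_dvd_of_pow_eq_one h1
  rw [hg] at h2
  exact hodd.not_two_dvd_nat h2

/-- An element normalising the upper unitriangular group is upper triangular. -/
theorem upper_of_conj {g : SL} {t : F} (h : g * uSL 1 * g⁻¹ = uSL t) : g.1 1 0 = 0 := by
  have h' := congrFun (congrFun (congrArg Subtype.val h) 1) 0
  simp [val_mul', val_inv', coe_uSL, Matrix.adjugate_fin_two,
    Matrix.mul_apply, Fin.sum_univ_two] at h'
  have : g.1 1 0 * g.1 1 0 = 0 := by linear_combination -h'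
  exact mul_self_eq_zero.mp this

/-- **The key contradiction**: an automorphism with field part of odd prime order `p` moves some element of
every odd invariant subgroup by more than a `p`-element. -/
theorem not_field (l : ℕ) [Fact l.Prime] [CharP F l] (hodd : Odd (Fintype.card F)) (h3 : 3 < Fintype.card F)
    {p : ℕ} [Fact p.Prime] (hp : p ≠ 2) {φ : MulAut SL} {g : GL (Fin 2) F} {e : F ≃+* F} (hφ : Semi φ g e)
    (hord : orderOf (e : RingAut F) = p) (hpow : ∃ k, φ ^ p ^ k = 1)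
    (hkey : ∀ B : Subgroup SL, Odd (Nat.card B) → (∀ y ∈ B, φ y ∈ B) → ∀ y ∈ B, ∃ i : ℕ,
      (φ y * y⁻¹) ^ p ^ i = 1) : False := by
  classical
  have hpP : p.Prime := Fact.out
  have hlP : l.Prime := Fact.out
  have hl2 : l ≠ 2 := GW.Model.p_ne_two l hodd
  obtain ⟨k, hk⟩ := hpow
  have hZ : IsPGroup p (Subgroup.zpowers φ) := by
    refine IsPGroup.of_card_dvd_pow (n := k) ?_
    rw [Nat.card_zpowers]
    exact orderOf_dvd_of_pow_eq_one hk
  have hfixP : ∀ {r : ℕ} [Fact r.Prime], ¬ p ∣ Nat.card (Sylow r SL) →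
      ∃ P : Sylow r SL, ∀ y ∈ (P : Subgroup SL), φ y ∈ (P : Subgroup SL) := by
    intro r _ hnd
    obtain ⟨P, hP⟩ := hZ.nonempty_fixed_point_of_prime_not_dvd_card (Sylow r SL) hnd
    refine ⟨P, fun y hy => ?_⟩
    have h1 : φ y ∈ ((φ • P : Sylow r SL) : Subgroup SL) := ⟨y, hy, rfl⟩
    rwa [show φ • P = P from hP ⟨φ, Subgroup.mem_zpowers φ⟩] at h1
  have hexp : ∀ P : ℕ, ∀ {s i : ℕ} {w : SL}, s.Prime → s ≠ P → P.Prime → (∃ j, w ^ s ^ j = 1) →
      w ^ P ^ i = 1 → w = 1 := by
    intro P s i w hs hne hP hj hw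
    obtain ⟨j, hj⟩ := hj
    have hco : Nat.Coprime (s ^ j) (P ^ i) :=
      Nat.Coprime.pow j i ((Nat.coprime_primes hs hP).mpr hne)
    have h1 := pow_gcd_eq_one.mpr ⟨hj, hw⟩
    rwa [hco.gcd_eq_one, pow_one] at h1
  have hcard : Nat.card SL = Fintype.card F * ((Fintype.card F + 1) * (Fintype.card F - 1)) := by
    rw [SLCard.card_SL_two]
    congr 1
    simpa using Nat.sq_sub_sq (Fintype.card F) 1
  by_cases hpl : p = l
  · subst hpl
    obtain ⟨s, hs, hsp, hs2, hsN, -, hfree⟩ :=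
      exists_prime p hodd hpP hp hord (N := Fintype.card F - 1) (Or.inl rfl)
    obtain ⟨P, hP⟩ := hfixP (r := p) (fun h => by
      have := card_sylow_modEq_one p SL
      rw [Nat.ModEq, Nat.mod_eq_zero_of_dvd h, Nat.one_mod_eq_one.mpr hpP.ne_one] at this
      exact zero_ne_one this)
    -- the upper unitriangular group
    let U : Subgroup SL :=
      { carrier := Set.range (uSL (F := F))
        one_mem' := ⟨0, Subtype.ext (by ext i j; fin_cases i <;> fin_cases j <;> simp [coe_uSL])⟩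
        mul_mem' := by
          rintro _ _ ⟨a, rfl⟩ ⟨b, rfl⟩
          exact ⟨a + b, Subtype.ext (by
            rw [val_mul', coe_uSL, coe_uSL, coe_uSL]
            ext i j; fin_cases i <;> fin_cases j <;> simp [Matrix.mul_apply, Fin.sum_univ_two, add_comm])⟩
        inv_mem' := by
          rintro _ ⟨a, rfl⟩
          exact ⟨-a, Subtype.ext (by
            rw [val_inv', coe_uSL, coe_uSL]
            ext i j; fin_cases i <;> fin_cases j <;> simp [Matrix.adjugate_fin_two])⟩ }
    have hUp : IsPGroup p U := by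
      rintro ⟨_, t, rfl⟩
      refine ⟨1, Subtype.ext ?_⟩
      show uSL t ^ p ^ 1 = 1
      rw [pow_one, uSL_pow, CharP.cast_eq_zero, zero_mul]
      exact Subtype.ext (by ext i j; fin_cases i <;> fin_cases j <;> simp [coe_uSL])
    obtain ⟨P₀, hP₀⟩ := hUp.exists_le_sylow
    have hUcard : Nat.card U = Fintype.card F := by
      rw [← Nat.card_eq_fintype_card]
      refine (Nat.card_congr (Equiv.ofBijective (fun t : F => (⟨uSL t, t, rfl⟩ : U)) ⟨fun a b h => ?_, ?_⟩)).symm
      · simpa [coe_uSL] using congrFun (congrFun (congrArg (fun x : U => (x : SL).1) h) 0) 1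
      · rintro ⟨_, t, rfl⟩
        exact ⟨t, rfl⟩
    obtain ⟨m, -, hm⟩ := FiniteField.card F p
    have hP₀U : (P₀ : Subgroup SL) = U := by
      refine (Subgroup.eq_of_le_of_card_ge hP₀ ?_).symm
      obtain ⟨a, ha⟩ := IsPGroup.iff_card.mp P₀.2
      rw [ha, hUcard, hm]
      refine Nat.pow_le_pow_right hpP.pos ?_
      by_contra hlt
      have h1 : p ^ ((m : ℕ) + 1) ∣ Nat.card SL :=
        (pow_dvd_pow p (by omega : (m : ℕ) + 1 ≤ a)).trans (ha ▸ card_subgroup_dvd_card _)
      rw [hcard, hm, pow_succ] at h1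
      have h2 : p ∣ (p ^ (m : ℕ) + 1) * (p ^ (m : ℕ) - 1) :=
        (Nat.mul_dvd_mul_iff_left (pow_pos hpP.pos _)).mp h1
      rw [← hm] at h2
      rcases hpP.dvd_mul.mp h2 with h | h
      · exact SL2Tori.not_dvd_char (F := F) p p hpP (Or.inr h) rfl
      · exact SL2Tori.not_dvd_char (F := F) p p hpP (Or.inl h) rfl
    obtain ⟨x, hx⟩ := MulAction.exists_smul_eq SL P₀ P
    set φ' : MulAut SL := MulAut.conj x⁻¹ * (φ * MulAut.conj x) with hφ'
    have hmemP : ∀ y : SL, y ∈ (P : Subgroup SL) ↔ x⁻¹ * y * x ∈ U := fun y => by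
      rw [← hx, Sylow.coe_subgroup_smul, hP₀U, Subgroup.mem_pointwise_smul_iff_inv_smul_mem]
      simp [MulAut.smul_def, MulAut.conj_apply, mul_assoc]
    have hφ'val : ∀ y : SL, φ' y = x⁻¹ * φ (x * y * x⁻¹) * x := fun y => by
      simp [hφ', MulAut.conj_apply]
    have hU' : ∀ y ∈ U, φ' y ∈ U := fun y hy => by
      rw [hφ'val, ← hmemP]
      refine hP _ ((hmemP _).mpr ?_)
      simpa [mul_assoc] using hy
    have hS' : ∃ g', Semi φ' g' e := ⟨_, by
      have h := semi_comp (semi_conj x⁻¹) (semi_comp hφ (semi_conj x))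
      rw [hφ']
      rwa [show ((RingEquiv.refl F).trans e).trans (RingEquiv.refl F) = e from RingEquiv.ext fun _ => rfl] at h⟩
    obtain ⟨g', hφ'S⟩ := hS'
    -- invariance of the group `upperS s`
    have hupper : ∀ y ∈ upperS s, φ' y ∈ upperS s := by
      intro y hy
      have hnorm : ∃ t, φ' y * uSL 1 * (φ' y)⁻¹ = uSL t := by
        have hsurj : ∀ u ∈ U, ∃ v ∈ U, φ' v = u := fun u hu => by
          obtain ⟨v, hv⟩ := ((Finite.injective_iff_surjective (f := fun v : U => (⟨φ' v, hU' v v.2⟩ : U))).mp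
            (fun a b h => Subtype.ext (φ'.injective (congrArg Subtype.val h)))) ⟨u, hu⟩
          exact ⟨v, v.2, congrArg Subtype.val hv⟩
        obtain ⟨v, ⟨t, rfl⟩, hv⟩ := hsurj (uSL 1) ⟨1, rfl⟩
        have hmem : y * uSL t * y⁻¹ ∈ U := by
          have hdet := y.2
          rw [Matrix.det_fin_two, hy.1, mul_zero, sub_zero] at hdet
          refine ⟨y.1 0 0 * y.1 0 0 * t, Subtype.ext ?_⟩
          rw [val_mul', val_mul', val_inv', coe_uSL,
            coe_uSL]
          ext i j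
          fin_cases i <;> fin_cases j <;>
            simp [Matrix.adjugate_fin_two, Matrix.mul_apply, Fin.sum_univ_two, hy.1] <;>
            first | linear_combination hdet | linear_combination -hdet | ring1
        obtain ⟨r, hr⟩ := hU' _ hmem
        exact ⟨r, by rw [← hv, ← map_inv, ← map_mul, ← map_mul, ← hr]⟩
      obtain ⟨t, ht⟩ := hnorm
      have h10 := upper_of_conj ht
      refine ⟨h10, ?_⟩
      have h1 : (φ' y) ^ (s * p) = 1 := by rw [← map_pow, pow_upperS p hy, map_one]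
      have h2 := (pow_upper h10 (s * p)).2
      rw [h1, val_one', Matrix.one_apply_eq, pow_mul] at h2
      exact frobenius_inj F p (by rw [frobenius_def, frobenius_def, one_pow]; exact h2.symm)
    -- the torus element
    haveI : Fact s.Prime := ⟨hs⟩
    obtain ⟨a, ha⟩ := exists_prime_orderOf_dvd_card' s (G := Fˣ)
      (by rw [Nat.card_units, Nat.card_eq_fintype_card]; exact hsN)
    have hinj : Function.Injective (diagU (F := F)) := fun b c h =>
      Units.ext (by simpa [diagU_val] using congrFun (congrFun (congrArg Subtype.val h) 0) 0)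
    set y := diagU a with hy
    have hyord : orderOf y = s := by rw [hy, orderOf_injective _ hinj, ha]
    have hyS : y ∈ upperS s := ⟨by simp [hy, diagU_val], by
      rw [show y.1 0 0 = (a : F) by simp [hy, diagU_val], ← Units.val_pow_eq_pow_val, ← ha, pow_orderOf_eq_one,
        Units.val_one]⟩
    obtain ⟨i, hi⟩ : ∃ i : ℕ, (φ' y * y⁻¹) ^ p ^ i = 1 := by
      have hB : Odd (Nat.card ((upperS (F := F) s).map (MulAut.conj x).toMonoidHom)) := by
        rw [← Nat.card_congr ((upperS s).equivMapOfInjective _ (MulAut.conj x).injective).toEquiv]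
        exact odd_upperS p (hs.odd_of_ne_two hs2) hl2
      obtain ⟨i, hi⟩ := hkey _ hB (by
        rintro _ ⟨b, hb, rfl⟩
        refine ⟨φ' b, hupper b hb, ?_⟩
        simp [hφ'val, MulAut.conj_apply, mul_assoc]) _ ⟨y, hyS, rfl⟩
      refine ⟨i, ?_⟩
      have he : φ' y * y⁻¹ = x⁻¹ * (φ (x * y * x⁻¹) * (x * y * x⁻¹)⁻¹) * x⁻¹⁻¹ := by
        rw [hφ'val]; group
      rw [he, conj_pow]
      have h' : (φ (x * y * x⁻¹) * (x * y * x⁻¹)⁻¹) ^ p ^ i = 1 := by simpa [MulAut.conj_apply] using hi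
      rw [h', mul_one, mul_inv_cancel]
    obtain ⟨h10, hs1⟩ := hupper y hyS
    set b := (φ' y).1 0 0 with hb
    have hy00 : y.1 0 0 = (a : F) := by simp [hy, diagU_val]
    have hba : b = a := by
      have hw10 : (φ' y * y⁻¹).1 1 0 = 0 := (mul_mem (hupper y hyS) (inv_mem hyS)).1
      have hw00 : (φ' y * y⁻¹).1 0 0 = b * (a : F)⁻¹ := by
        rw [val_mul', val_inv', Matrix.mul_apply, Fin.sum_univ_two, ← hb]
        simp [hy, diagU_val, Matrix.adjugate_fin_two]
      have h2 := (pow_upper hw10 (p ^ i)).2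
      rw [hi, val_one', Matrix.one_apply_eq, hw00] at h2
      have h4 : b * (a : F)⁻¹ = 1 := iterateFrobenius_inj F p i (by simpa [iterateFrobenius_def] using h2.symm)
      exact (mul_inv_eq_one₀ a.ne_zero).mp h4
    have hdet := (φ' y).2
    rw [Matrix.det_fin_two, h10, mul_zero, sub_zero, ← hb, hba] at hdet
    have ha1 : ((a⁻¹ : Fˣ) : F) - (a : F) ≠ 0 := by
      rw [sub_ne_zero]
      intro h
      have : (a⁻¹ : Fˣ) = a := Units.ext h
      have h1 : a ^ 2 = 1 := by rw [sq]; nth_rw 1 [← this]; exact inv_mul_cancel a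
      have := orderOf_dvd_of_pow_eq_one h1
      rw [ha] at this
      exact hs2 ((Nat.prime_dvd_prime_iff_eq hs Nat.prime_two).mp this)
    set t := (φ' y).1 0 1 / (((a⁻¹ : Fˣ) : F) - (a : F)) with ht
    have hconj : φ' y = uSL t * y * (uSL t)⁻¹ := by
      refine Subtype.ext ?_
      rw [Matrix.eta_fin_two (φ' y).1, h10, ← hb, hba,
        show (φ' y).1 1 1 = ((a⁻¹ : Fˣ) : F) by
          rw [Units.val_inv_eq_inv_val]; exact eq_inv_of_mul_eq_one_right hdet,
        show (φ' y).1 0 1 = t * (((a⁻¹ : Fˣ) : F) - (a : F)) by rw [ht, div_mul_cancel₀ _ ha1]]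
      rw [val_mul', val_mul', val_inv', coe_uSL]
      ext i j
      fin_cases i <;> fin_cases j <;>
        simp [hy, diagU_val, Matrix.adjugate_fin_two, Matrix.mul_apply, Fin.sum_univ_two] <;> ring
    refine hfree _ _ (semi_comp (semi_conj (uSL t)⁻¹) hφ'S) y hyord ?_
    rw [MulAut.mul_apply, hconj, MulAut.conj_apply]
    group
  · obtain ⟨N, hN, hother⟩ : ∃ N, (N = Fintype.card F - 1 ∨ N = Fintype.card F + 1) ∧
        ∀ M, N * M = (Fintype.card F + 1) * (Fintype.card F - 1) → ¬ p ∣ M := by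
      by_cases hd : p ∣ Fintype.card F + 1
      · refine ⟨_, Or.inr rfl, fun M hM hpM => ?_⟩
        rw [Nat.mul_left_cancel (Nat.succ_pos _) hM] at hpM
        have h2 := Nat.dvd_sub hd hpM
        rw [show Fintype.card F + 1 - (Fintype.card F - 1) = 2 by omega] at h2
        exact hp ((Nat.prime_dvd_prime_iff_eq hpP Nat.prime_two).mp h2)
      · refine ⟨_, Or.inl rfl, fun M hM hpM => ?_⟩
        rw [mul_comm (Fintype.card F + 1)] at hM
        rw [Nat.mul_left_cancel (by omega) hM] at hpM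
        exact hd hpM
    obtain ⟨s, hs, hsp, hs2, hsN, hsl, hfree⟩ := exists_prime l hodd hpP hp hord (N := N) hN
    haveI : Fact s.Prime := ⟨hs⟩
    have hsdvd : s ∣ Fintype.card F - 1 ∨ s ∣ Fintype.card F + 1 := by
      rcases hN with h | h <;> subst h <;> simp [hsN]
    have hpq : ¬ p ∣ Fintype.card F := fun h => by
      obtain ⟨m, -, hm⟩ := FiniteField.card F l
      rw [hm] at h
      exact hpl ((Nat.prime_dvd_prime_iff_eq hpP hlP).mp (hpP.dvd_of_dvd_pow h))
    obtain ⟨P, hP⟩ := hfixP (r := s) (fun h => by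
      obtain ⟨P⟩ : Nonempty (Sylow s SL) := inferInstance
      obtain ⟨x, hx, -, hnorm, hsx⟩ := SL2Tori.sylow_odd hodd hs2 hsdvd P
      have h1 := (Subgroup.normalizer (P : Set SL)).card_mul_index
      rw [← P.card_eq_index_normalizer, show Subgroup.normalizer (P : Set SL) = _ from hnorm,
        SL2Tori.card_normalizer (SL2Orders.two_ne_zero_of_odd hodd) hx, hcard] at h1
      have hA : Nat.card (Subgroup.centralizer ({x} : Set SL)) = N := by
        have hne : ∀ a b : ℕ, s ∣ a → s ∣ b → b = a + 2 → False := fun a b ha hb hab => by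
          subst hab
          exact hs2 ((Nat.prime_dvd_prime_iff_eq hs Nat.prime_two).mp ((Nat.dvd_add_right ha).mp hb))
        rcases (SL2Tori.isCyclic_centralizer hx).2 with e | e <;> rw [e] at hsx ⊢ <;>
          rcases hN with h' | h' <;> subst h'
        · rfl
        · exact (hne _ _ hsx hsN (by omega)).elim
        · exact (hne _ _ hsN hsx (by omega)).elim
        · rfl
      rw [hA] at h1
      have hNd : N ∣ (Fintype.card F + 1) * (Fintype.card F - 1) := by
        rcases hN with h' | h' <;> subst h'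
        · exact dvd_mul_left _ _
        · exact dvd_mul_right _ _
      obtain ⟨M, hM⟩ := hNd
      rw [hM] at h1
      have hN0 : 0 < N := by rcases hN with h' | h' <;> omega
      have h2 : 2 * Nat.card (Sylow s SL) = Fintype.card F * M :=
        Nat.mul_left_cancel hN0 (by linarith)
      rcases hpP.dvd_mul.mp (h2 ▸ dvd_mul_of_dvd_right h 2) with h' | h'
      · exact hpq h'
      · exact hother M hM.symm h')
    haveI : Nontrivial (P : Subgroup SL) := (Subgroup.nontrivial_iff_ne_bot _).mpr (P.ne_bot_of_dvd_card (by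
      rw [hcard]
      rcases hsdvd with h | h
      · exact Dvd.dvd.mul_left (Dvd.dvd.mul_left h _) _
      · exact Dvd.dvd.mul_left (Dvd.dvd.mul_right h _) _))
    obtain ⟨n, hn0, hn⟩ := P.2.nontrivial_iff_card.mp inferInstance
    obtain ⟨y, hy⟩ := exists_prime_orderOf_dvd_card' s (G := (P : Subgroup SL))
      (hn ▸ dvd_pow_self s hn0.ne')
    have hoddP : Odd (Nat.card (P : Subgroup SL)) := by
      rw [hn]; exact (hs.odd_of_ne_two hs2).pow
    obtain ⟨i, hi⟩ := hkey _ hoddP hP (y : SL) y.2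
    obtain ⟨j, hj⟩ := P.2 ⟨φ (y : SL) * (y : SL)⁻¹, mul_mem (hP _ y.2) (inv_mem y.2)⟩
    have h1 := hexp p hs hsp hpP ⟨j, congrArg Subtype.val hj⟩ hi
    exact hfree φ g hφ (y : SL) (by rw [Subgroup.orderOf_coe, hy]) (mul_inv_eq_one.mp h1)

end SL2

universe u

variable {C : Type u} [Group C] [Finite C] {V : Type u} [CommGroup V]

/-- Powers of quadratic automorphisms are quadratic. -/
theorem IsQuad.pow {φ : MulAut V} (hq : IsQuad φ) (n : ℕ) : IsQuad (φ ^ n) := by
  have key : ∀ (m : ℕ) (v : V), (φ ^ m) v = v * (φ v * v⁻¹) ^ m := by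
    intro m
    induction m with
    | zero => simp
    | succ m ih =>
      intro v
      rw [pow_succ' φ, MulAut.mul_apply, ih, map_mul, map_pow, hq v, pow_succ' (φ v * v⁻¹) m, ← mul_assoc v,
        mul_comm v, mul_assoc (φ v), inv_mul_cancel, mul_one]
  intro v
  rw [key n v, mul_inv_cancel_comm, key n, ← mul_inv_cancel_comm ((φ v * v⁻¹) ^ n) ((φ v * v⁻¹) ^ n)]
  simp [map_pow, hq v]

/-- **A quadratic `p`-element induces an inner automorphism of `SL₂(q)`.** -/
theorem exists_inner [Finite V] [Nontrivial V] {p : ℕ} [Fact p.Prime] (hp : p ≠ 2) (hV : IsPGroup p V)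
    {F : Type} [Field F] [Fintype F] (hodd : Odd (Fintype.card F)) (h3 : 3 < Fintype.card F)
    (D : Subgroup C) [D.Normal] (pi : D →* SL(2, F)) (hsurj : Function.Surjective pi)
    (hker : Odd (Nat.card pi.ker)) (sigma : C →* MulAut SL(2, F))
    (hsigma : ∀ c (x : D), sigma c (pi x) = pi ⟨c * x * c⁻¹, Subgroup.Normal.conj_mem inferInstance _ x.2 c⟩)
    (rho : C →* MulAut V) (z : D) (hz : pi z = -1) (hrz : ∀ v, rho z v = v⁻¹)
    {c : C} (hc : ∃ k : ℕ, c ^ p ^ k = 1) (hq : IsQuad (rho c)) :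
    ∃ A : SL(2, F), sigma c = MulAut.conj A := by
  classical
  obtain ⟨l, hl⟩ := CharP.exists F
  haveI := hl
  haveI : Fact l.Prime := ⟨CharP.char_is_prime F l⟩
  have hpP : p.Prime := Fact.out
  obtain ⟨k, hk⟩ := hc
  obtain ⟨g, e, hge⟩ := SL2.exists_semi l h3 (sigma c)
  by_cases he : e = RingEquiv.refl F
  · subst he
    have hσ : sigma c = PSL2.conjSL g := MulEquiv.ext fun A => Subtype.ext (by
      rw [hge, show A.1.map (RingEquiv.refl F) = A.1 from Matrix.ext fun _ _ => rfl, PSL2.coe_conjSL])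
    have h1 : PSL2.diagAut (g ^ p ^ k) = PSL2.fieldAut (RingEquiv.refl F) := by
      rw [PSL2.fieldAut_refl]
      refine MulEquiv.ext fun x => ?_
      obtain ⟨A, rfl⟩ := QuotientGroup.mk'_surjective _ x
      rw [PSL2.diagAut_apply, map_pow PSL2.conjSL, ← hσ, ← map_pow, hk, map_one]
      rfl
    obtain ⟨-, r, hr⟩ := PSL2.scalar_of_fix _ _ h1
    set δ := g.1.det with hδ
    have hδ0 : δ ≠ 0 := GW.Model.det_ne g
    have hd : δ ^ p ^ k = r ^ 2 := by
      have := congrArg Matrix.det hr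
      rw [Units.val_pow_eq_pow_val, Matrix.det_pow, Matrix.scalar_apply, Matrix.det_diagonal,
        Finset.prod_const, Finset.card_univ, Fintype.card_fin] at this
      exact this
    obtain ⟨j, hj⟩ := (hpP.odd_of_ne_two hp).pow (n := k)
    set s := r / δ ^ j with hs
    have hs2 : s ^ 2 = δ := by
      have h0 := pow_ne_zero j hδ0
      rw [hs, div_pow, ← hd, hj, pow_succ, pow_mul, div_eq_iff (pow_ne_zero 2 h0)]
      ring
    have hs0 : s ≠ 0 := fun h => hδ0 (by rw [← hs2, h]; ring)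
    have hdetS : (s⁻¹ • g.1).det = 1 := by
      rw [Matrix.det_smul, Fintype.card_fin, inv_pow, hs2, ← hδ, inv_mul_cancel₀ hδ0]
    let S : SL(2, F) := ⟨s⁻¹ • g.1, hdetS⟩
    refine ⟨S, ?_⟩
    · rw [hσ]
      refine MulEquiv.ext fun A => Subtype.ext ?_
      show _ = (S * A * S⁻¹).1
      rw [PSL2.coe_conjSL, SL2.val_mul', SL2.val_mul']
      have hinv : (S⁻¹).1 = s • (g⁻¹).1 := by
        have h1 : S.1 * (s • (g⁻¹).1) = 1 := by
          show (s⁻¹ • g.1) * (s • (g⁻¹).1) = 1
          rw [smul_mul_smul_comm, inv_mul_cancel₀ hs0, one_smul, ← Units.val_mul, mul_inv_cancel, Units.val_one]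
        rw [← mul_one (S⁻¹).1, ← h1, ← Matrix.mul_assoc, ← SL2.val_mul', inv_mul_cancel,
          SL2.val_one', one_mul]
      rw [hinv]
      show _ = (s⁻¹ • g.1) * A.1 * (s • (g⁻¹).1)
      rw [Matrix.smul_mul, smul_mul_smul_comm, inv_mul_cancel₀ hs0, one_smul]
  exfalso
  let f : C →* RingAut F :=
    ((CfsgLib.PSL2.fieldPart l).comp (CfsgLib.PSL2.centreQuotAut SL(2, F))).comp sigma
  have hfc : f c = e := SL2.fieldPart_toPSL l hge
  obtain ⟨j, -, hj⟩ := (Nat.dvd_prime_pow hpP).mp (orderOf_dvd_of_pow_eq_one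
    (show f c ^ p ^ k = 1 by rw [← map_pow, hk, map_one]))
  obtain ⟨j, rfl⟩ : ∃ j', j = j' + 1 := Nat.exists_eq_succ_of_ne_zero (fun h0 => he (by
    rw [h0, pow_zero, orderOf_eq_one_iff, hfc] at hj
    exact hj))
  set c1 := c ^ p ^ j with hc1
  obtain ⟨g1, e1, hge1⟩ := SL2.exists_semi l h3 (sigma c1)
  have hord : orderOf (e1 : RingAut F) = p := by
    have h1 : f c1 = e1 := SL2.fieldPart_toPSL l hge1
    rw [← h1, hc1, map_pow, orderOf_pow' _ (pow_ne_zero _ hpP.ne_zero), hj,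
      Nat.gcd_eq_right (pow_dvd_pow p (Nat.le_succ j)), pow_succ, Nat.mul_div_cancel_left _ (pow_pos hpP.pos _)]
  have hq1 : IsQuad (rho c1) := by rw [hc1, map_pow]; exact hq.pow _
  have hk1 : c1 ^ p ^ k = 1 := by rw [hc1, ← pow_mul, mul_comm, pow_mul, hk, one_pow]
  refine SL2.not_field l hodd h3 hp hge1 hord ⟨k, by rw [← map_pow, hk1, map_one]⟩ fun B hB hinv y hy => ?_
  -- the odd group over `B` with `c1`
  set B0 := (B.comap pi).map D.subtype with hB0
  have hB0odd : Odd (Nat.card B0) := by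
    rw [hB0, ← Nat.card_congr ((B.comap pi).equivMapOfInjective _ D.subtype_injective).toEquiv]
    let π' : B.comap pi →* B := pi.subgroupComap B
    have hπ's : Function.Surjective π' := fun b => by
      obtain ⟨x, hx⟩ := hsurj b
      exact ⟨⟨x, show pi x ∈ B from hx ▸ b.2⟩, Subtype.ext hx⟩
    rw [Subgroup.card_eq_card_quotient_mul_card_subgroup π'.ker,
      Nat.card_congr (QuotientGroup.quotientKerEquivOfSurjective π' hπ's).toEquiv]
    refine hB.mul (hker.of_dvd_nat ?_)
    rw [Nat.card_congr (π'.ker.equivMapOfInjective _ (B.comap pi).subtype_injective).toEquiv]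
    exact Subgroup.card_dvd_of_le (by
      rintro _ ⟨x, hx, rfl⟩
      exact congrArg Subtype.val hx)
  have hc1odd : Odd (Nat.card (Subgroup.zpowers c1)) := by
    rw [Nat.card_zpowers]
    exact ((hpP.odd_of_ne_two hp).pow).of_dvd_nat (orderOf_dvd_of_pow_eq_one hk1)
  have hnorm : ∀ x ∈ Subgroup.zpowers c1, ∀ d ∈ B0, x * d * x⁻¹ ∈ B0 := by
    have hstep : ∀ d ∈ B0, c1 * d * c1⁻¹ ∈ B0 := by
      rintro _ ⟨d, hd, rfl⟩
      exact ⟨⟨c1 * d * c1⁻¹, Subgroup.Normal.conj_mem inferInstance _ d.2 c1⟩,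
        show pi _ ∈ B by rw [← hsigma]; exact hinv _ hd, rfl⟩
    intro x hx
    obtain ⟨n, rfl⟩ := (Submonoid.mem_powers_iff _ _).mp (mem_powers_iff_mem_zpowers.mpr hx)
    induction n with
    | zero => simp
    | succ n ih =>
      intro d hd
      rw [pow_succ' c1, show c1 * c1 ^ n * d * (c1 * c1 ^ n)⁻¹ = c1 * (c1 ^ n * d * (c1 ^ n)⁻¹) * c1⁻¹ by group]
      exact hstep _ (ih (Subgroup.pow_mem _ (Subgroup.mem_zpowers c1) n) d hd)
  have hXodd : Odd (Nat.card ((B0 ⊔ Subgroup.zpowers c1).map rho)) :=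
    (_root_.CfsgA8C.odd_sup hB0odd hc1odd hnorm).of_dvd_nat (Subgroup.card_map_dvd _ _)
  set X := (B0 ⊔ Subgroup.zpowers c1).map rho
  have hc1X : rho c1 ∈ X := Subgroup.mem_map_of_mem _ (Subgroup.mem_sup_right (Subgroup.mem_zpowers c1))
  have hcore := mem_pCore_of_quad_odd hp hV X hXodd hc1X hq1
  obtain ⟨t, rfl⟩ := hsurj y
  have htB0 : (t : C) ∈ B0 := ⟨t, hy, rfl⟩
  have htX : rho t ∈ X := Subgroup.mem_map_of_mem _ (Subgroup.mem_sup_left htB0)
  have hw : (⟨rho c1, hc1X⟩ : X) * ((⟨rho t, htX⟩ : X) * (⟨rho c1, hc1X⟩ : X)⁻¹ * (⟨rho t, htX⟩ : X)⁻¹) ∈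
      pCore p X := mul_mem hcore ((inferInstance : (pCore p X).Normal).conj_mem _ (inv_mem hcore) _)
  obtain ⟨i, hi⟩ := (CfsgLib.isPGroup_pCore p) ⟨_, hw⟩
  set w : D := ⟨c1 * t * c1⁻¹, Subgroup.Normal.conj_mem inferInstance _ t.2 c1⟩ * t⁻¹ with hwdef
  have hrw : rho (w ^ p ^ i : D) = 1 := by
    have h1 := congrArg Subtype.val (congrArg Subtype.val hi)
    simp only [SubmonoidClass.coe_pow, Subgroup.coe_mul, Subgroup.coe_inv, Subgroup.coe_one] at h1
    rw [SubmonoidClass.coe_pow, map_pow, hwdef, Subgroup.coe_mul, Subgroup.coe_inv, map_mul, map_inv, map_mul,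
      map_mul, map_inv]
    simpa [mul_assoc] using h1
  set y' := (sigma c1 (pi t) * (pi t)⁻¹) ^ p ^ i with hy'
  have hpiw : pi (w ^ p ^ i) = y' := by rw [hy', hsigma, map_pow, hwdef, map_mul, map_inv]
  haveI : ((rho.comp D.subtype).ker.map pi).Normal := (MonoidHom.normal_ker _).map pi hsurj
  rcases SL2.sl2_normal_or_top h3 ((rho.comp D.subtype).ker.map pi) with hcen | htop
  · have hyc : y' ∈ Subgroup.center SL(2, F) := hcen ⟨_, hrw, hpiw⟩
    refine ⟨i, ?_⟩
    have hyB : y' ∈ B := Subgroup.pow_mem _ (mul_mem (hinv _ hy) (inv_mem hy)) _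
    have h2 : y' ^ 2 = 1 := by
      obtain ⟨r, hr, hA⟩ := Matrix.SpecialLinearGroup.mem_center_iff.mp hyc
      rw [Fintype.card_fin] at hr
      exact Subtype.ext (by
        show (y' ^ 2).1 = 1
        rw [Matrix.SpecialLinearGroup.coe_pow, ← hA, ← map_pow, hr, map_one])
    have h3' : y' ^ Nat.card B = 1 := congrArg Subtype.val (pow_card_eq_one' (x := (⟨y', hyB⟩ : B)))
    have h4 := pow_gcd_eq_one.mpr ⟨h2, h3'⟩
    rwa [(Nat.coprime_two_left.mpr hB).gcd_eq_one, pow_one] at h4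
  · exfalso
    obtain ⟨d, hd, hpd⟩ : (-1 : SL(2, F)) ∈ (rho.comp D.subtype).ker.map pi := htop ▸ Subgroup.mem_top _
    have hk0 : z⁻¹ * d ∈ pi.ker := by rw [MonoidHom.mem_ker, map_mul, map_inv, hz, hpd, inv_mul_cancel]
    have hd1 : rho (d : C) = 1 := hd
    have h2 : rho ((z⁻¹ * d : D) : C) = rho (z : C) := by
      rw [Subgroup.coe_mul, map_mul, hd1, mul_one, Subgroup.coe_inv, map_inv]
      refine inv_eq_of_mul_eq_one_right (MulEquiv.ext fun v => ?_)
      rw [MulAut.mul_apply, hrz, hrz, inv_inv]; rfl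
    have h3' : rho (z : C) ^ 2 = 1 := MulEquiv.ext fun v => by
      rw [sq, MulAut.mul_apply, hrz, hrz, inv_inv]; rfl
    have h4 : rho (z : C) ^ Nat.card pi.ker = 1 := by
      rw [← h2, ← map_pow, ← SubmonoidClass.coe_pow]
      have : (z⁻¹ * d) ^ Nat.card pi.ker = 1 := congrArg Subtype.val (pow_card_eq_one' (x := (⟨_, hk0⟩ : pi.ker)))
      rw [this, Subgroup.coe_one, map_one]
    have h5 := pow_gcd_eq_one.mpr ⟨h3', h4⟩
    rw [(Nat.coprime_two_left.mpr hker).gcd_eq_one, pow_one] at h5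
    obtain ⟨v, hv⟩ := exists_ne (1 : V)
    have hv2 : v ^ 2 = 1 := by
      rw [sq]; exact mul_eq_one_iff_eq_inv.mpr (by rw [← hrz, h5]; rfl)
    obtain ⟨m, hm⟩ := hV v
    have h6 := pow_gcd_eq_one.mpr ⟨hv2, hm⟩
    rw [(Nat.coprime_two_left.mpr (hpP.odd_of_ne_two hp).pow).gcd_eq_one, pow_one] at h6
    exact hv h6

end CfsgLib.RankTwoModel
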