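import Cfsg.Agent.Lib.RankTwoModel.RadLinear
import Cfsg.Agent.Lib.PSLThreeInvolution

/-!
The elements of `PSL₃` used for the moved radicals: the involution, the two radicals, the centraliser and the
automorphism exchanging the radicals.
-/

set_option autoImplicit false
set_option linter.unusedSectionVars false

namespace CfsgLib.RankTwoModel.L3

open Matrix
open scoped MatrixGroups

variable {F : Type} [Field F]

/-- The special linear group. -/
abbrev SL3 (F : Type) [Field F] := Matrix.SpecialLinearGroup (Fin 3) F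

/-- The projective group. -/
abbrev P3 (F : Type) [Field F] := Matrix.ProjectiveSpecialLinearGroup (Fin 3) F

/-- The quotient map. -/
def pr : SL3 F →* P3 F := QuotientGroup.mk' _

theorem pr_surjective : Function.Surjective (pr (F := F)) := QuotientGroup.mk'_surjective _

/-- The involution in `SL₃`. -/
def tS : SL3 F := ⟨dgT F, by simp [dgT, Matrix.det_fin_three]⟩

/-- An upper radical element. -/
def upR (x y : F) : SL3 F := ⟨!![1, 0, x; 0, 1, y; 0, 0, 1], by simp [Matrix.det_fin_three]⟩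

/-- A lower radical element. -/
def lowR (x y : F) : SL3 F := ⟨!![1, 0, 0; 0, 1, 0; x, y, 1], by simp [Matrix.det_fin_three]⟩

/-- An upper block root element. -/
def upB (a : F) : SL3 F := ⟨xUp a, by simp [xUp, Matrix.det_fin_three]⟩

/-- A lower block root element. -/
def lowB (a : F) : SL3 F := ⟨xLo a, by simp [xLo, Matrix.det_fin_three]⟩

theorem tS_val : (tS : SL3 F).1 = dgT F := rfl

theorem upR_val (x y : F) : (upR x y).1 = !![1, 0, x; 0, 1, y; 0, 0, 1] := rfl

theorem lowR_val (x y : F) : (lowR x y).1 = !![1, 0, 0; 0, 1, 0; x, y, 1] := rfl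

theorem upB_val (a : F) : (upB a).1 = xUp a := rfl

theorem lowB_val (a : F) : (lowB a).1 = xLo a := rfl

/-- The image of an upper radical element. -/
def U (v : F × F) : P3 F := pr (upR v.1 v.2)

/-- The involution. -/
def w₀ (F : Type) [Field F] : P3 F := pr (tS (F := F))

theorem pr_eq_iff {A B : SL3 F} : pr A = pr B ↔ ∃ k : F, k ^ 3 = 1 ∧ A.1 = k • B.1 := by
  rw [pr, QuotientGroup.mk'_eq_mk']
  constructor
  · rintro ⟨c, hc, rfl⟩
    obtain ⟨r, hr, hrc⟩ := Matrix.SpecialLinearGroup.mem_center_iff.mp hc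
    have hr3 : r ^ 3 = 1 := by simpa using hr
    refine ⟨r⁻¹, by rw [inv_pow, hr3, inv_one], ?_⟩
    have hr0 : r ≠ 0 := fun e => by rw [e] at hr3; simp at hr3
    rw [Matrix.SpecialLinearGroup.coe_mul, ← hrc, scalar_apply, ← smul_one_eq_diagonal, Matrix.mul_smul, mul_one,
      smul_smul, inv_mul_cancel₀ hr0, one_smul]
  · rintro ⟨k, hk, hA⟩
    have hk0 : k ≠ 0 := fun e => by rw [e] at hk; simp at hk
    refine ⟨A⁻¹ * B, Matrix.SpecialLinearGroup.mem_center_iff.mpr ⟨k⁻¹, by simp [inv_pow, hk], ?_⟩, mul_inv_cancel_left A B⟩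
    rw [scalar_apply, ← smul_one_eq_diagonal]
    have e : A.1 * (A⁻¹ * B).1 = B.1 := by rw [← Matrix.SpecialLinearGroup.coe_mul, mul_inv_cancel_left]
    calc k⁻¹ • (1 : Matrix (Fin 3) (Fin 3) F) = k⁻¹ • ((A⁻¹).1 * A.1) := by
          rw [← Matrix.SpecialLinearGroup.coe_mul, inv_mul_cancel, Matrix.SpecialLinearGroup.coe_one]
      _ = (A⁻¹).1 * (k⁻¹ • A.1) := by rw [Matrix.mul_smul]
      _ = (A⁻¹).1 * B.1 := by rw [hA, smul_smul, inv_mul_cancel₀ hk0, one_smul]
      _ = _ := rfl

theorem pr_eq_of_smul {A B : SL3 F} {k : F} (h : A.1 = k • B.1) : pr A = pr B :=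
  pr_eq_iff.mpr ⟨k, pow_three_of_det A.2 B.2 h, h⟩

theorem ker_le : (pr (F := F)).ker ≤ Subgroup.center (SL3 F) := (QuotientGroup.ker_mk' _).le

theorem upR_mul (a b c d : F) : upR a b * upR c d = upR (a + c) (b + d) := by
  apply Subtype.ext
  ext i j; fin_cases i <;> fin_cases j <;> simp [Matrix.SpecialLinearGroup.coe_mul, upR_val, Matrix.mul_apply, Fin.sum_univ_three, add_comm]

theorem upR_zero : upR (0 : F) 0 = 1 := by
  apply Subtype.ext
  ext i j; fin_cases i <;> fin_cases j <;> simp [upR_val]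

theorem U_mul (v w : F × F) : U v * U w = U (v + w) := by
  rw [U, U, ← map_mul, upR_mul]; rfl

theorem U_zero : U (0 : F × F) = 1 := by
  show pr (upR (0 : F) 0) = 1
  rw [upR_zero, map_one]

theorem U_inv (v : F × F) : (U v)⁻¹ = U (-v) := inv_eq_of_mul_eq_one_right (by rw [U_mul, add_neg_cancel, U_zero])

theorem U_pow (v : F × F) (n : ℕ) : U v ^ n = U ((n : F) * v.1, (n : F) * v.2) := by
  induction n with
  | zero => simpa [Prod.zero_eq_mk] using U_zero.symm
  | succ n ih => rw [pow_succ, ih, U_mul]; congr 1; ext <;> simp [add_mul]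

theorem U_injective : Function.Injective (U (F := F)) := by
  intro v w h
  obtain ⟨k, -, hk⟩ := pr_eq_iff.mp h
  have h22 : (1 : F) = k := by simpa [upR_val] using congrFun (congrFun hk 2) 2
  subst h22
  rw [one_smul] at hk
  exact Prod.ext (by simpa [upR_val] using congrFun (congrFun hk 0) 2) (by simpa [upR_val] using congrFun (congrFun hk 1) 2)

theorem dgT_upR (x y : F) : tS * upR x y * tS = upR (-x) (-y) := by
  apply Subtype.ext
  ext i j
  simp only [Matrix.SpecialLinearGroup.coe_mul, tS_val, upR_val]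
  rw [mul_three]
  fin_cases i <;> fin_cases j <;> simp [dgT]

theorem w₀_U (v : F × F) : w₀ F * U v * w₀ F = U (-v) := by
  rw [U, w₀, ← map_mul, ← map_mul, dgT_upR]; rfl

theorem w₀_sq : w₀ F * w₀ F = 1 := by
  rw [w₀, ← map_mul, show tS * tS = (1 : SL3 F) from Subtype.ext dgT_sq, map_one]

theorem upB_comm (a : F) : pr (upB a) * w₀ F = w₀ F * pr (upB a) := by
  rw [w₀, ← map_mul, ← map_mul]
  congr 1
  apply Subtype.ext
  ext i j
  simp only [Matrix.SpecialLinearGroup.coe_mul, tS_val, upB_val]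
  rw [mul_two, mul_two]
  fin_cases i <;> fin_cases j <;> simp [dgT, xUp]

theorem lowB_comm (a : F) : pr (lowB a) * w₀ F = w₀ F * pr (lowB a) := by
  rw [w₀, ← map_mul, ← map_mul]
  congr 1
  apply Subtype.ext
  ext i j
  simp only [Matrix.SpecialLinearGroup.coe_mul, tS_val, lowB_val]
  rw [mul_two, mul_two]
  fin_cases i <;> fin_cases j <;> simp [dgT, xLo]

theorem upB_U (a : F) (v : F × F) : pr (upB a) * U v * (pr (upB a))⁻¹ = U (v.1 + a * v.2, v.2) := by
  rw [mul_inv_eq_iff_eq_mul, U, U, ← map_mul, ← map_mul]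
  congr 1
  apply Subtype.ext
  ext i j
  simp only [Matrix.SpecialLinearGroup.coe_mul, upB_val, upR_val]
  rw [mul_two, mul_two]
  fin_cases i <;> fin_cases j <;> simp [xUp]

theorem lowB_U (a : F) (v : F × F) : pr (lowB a) * U v * (pr (lowB a))⁻¹ = U (v.1, v.2 + a * v.1) := by
  rw [mul_inv_eq_iff_eq_mul, U, U, ← map_mul, ← map_mul]
  congr 1
  apply Subtype.ext
  ext i j
  simp only [Matrix.SpecialLinearGroup.coe_mul, lowB_val, upR_val]
  rw [mul_two, mul_two]
  fin_cases i <;> fin_cases j <;> simp [xLo, add_comm]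

/-- Centralising the involution means being a block. -/
theorem block_of_comm (h2 : (2 : F) ≠ 0) {g : SL3 F} (h : pr g * w₀ F = w₀ F * pr g) :
    g.1 0 2 = 0 ∧ g.1 1 2 = 0 ∧ g.1 2 0 = 0 ∧ g.1 2 1 = 0 := by
  rw [w₀, ← map_mul, ← map_mul] at h
  obtain ⟨k, hk, e⟩ := pr_eq_iff.mp h.symm
  simp only [Matrix.SpecialLinearGroup.coe_mul, tS_val] at e
  have key : dgT F * g.1 = g.1 * dgT F := by
    have h3 : g.1 = (k * k) • g.1 := by
      calc g.1 = dgT F * (dgT F * g.1) := by rw [← Matrix.mul_assoc, dgT_sq, Matrix.one_mul]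
        _ = k • ((dgT F * g.1) * dgT F) := by
          conv_lhs => rw [e]
          rw [Matrix.mul_smul, ← Matrix.mul_assoc]
        _ = k • ((k • (g.1 * dgT F)) * dgT F) := by rw [e]
        _ = _ := by rw [Matrix.smul_mul, Matrix.mul_assoc, dgT_sq, Matrix.mul_one, smul_smul]
    have hg0 : g.1 ≠ 0 := fun e0 => by
      have := g.2; rw [e0, Matrix.det_zero] at this; exact zero_ne_one this
    have hkk : k * k = 1 := (smul_left_injective F hg0 (show (1 : F) • g.1 = (k * k) • g.1 by rw [one_smul]; exact h3)).symm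
    have hk1 : k = 1 := by linear_combination hk - k * hkk
    rw [e, hk1, one_smul]
  exact entries_of_comm_dgT h2 key

/-- An element centralising the involution and the upper radical is trivial. -/
theorem eq_one_of_cent (h2 : (2 : F) ≠ 0) {c : P3 F} (hw : c * w₀ F = w₀ F * c)
    (hc : ∀ v, c * U v = U v * c) : c = 1 := by
  obtain ⟨g, rfl⟩ := pr_surjective c
  obtain ⟨a02, a12, a20, a21⟩ := block_of_comm h2 hw
  have key : ∀ x y : F, ∃ k : F, (g.1 0 0 = k * g.1 0 0) ∧ (g.1 1 1 = k * g.1 1 1) ∧ (g.1 2 2 = k * g.1 2 2) ∧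
      g.1 0 0 * x + g.1 0 1 * y = k * (x * g.1 2 2) ∧ g.1 1 0 * x + g.1 1 1 * y = k * (y * g.1 2 2) := by
    intro x y
    have h := hc (x, y)
    rw [U, ← map_mul, ← map_mul] at h
    obtain ⟨k, -, e⟩ := pr_eq_iff.mp h
    simp only [Matrix.SpecialLinearGroup.coe_mul, upR_val] at e
    have q := Matrix.ext_iff.mpr e
    simp only [Matrix.smul_apply, smul_eq_mul, mul_two] at q
    have q00 := q 0 0; have q11 := q 1 1; have q22 := q 2 2; have q02 := q 0 2; have q12 := q 1 2
    simp [a02, a12, a20, a21] at q00 q11 q22 q02 q12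
    exact ⟨k, by simpa using q00, by simpa using q11, by simpa using q22, q02, q12⟩
  have h22 : g.1 2 2 ≠ 0 := fun e => by
    have hd := g.2
    rw [Matrix.det_fin_three] at hd
    simp [a02, a12, a20, a21, e] at hd
  have hk1 : ∀ k : F, g.1 2 2 = k * g.1 2 2 → k = 1 := fun k e => mul_right_cancel₀ h22 (by rw [one_mul]; exact e.symm)
  obtain ⟨k, -, -, e22, e1, e2⟩ := key 1 0
  obtain ⟨k', -, -, e22', e1', e2'⟩ := key 0 1
  rw [hk1 k e22] at e1 e2
  rw [hk1 k' e22'] at e1' e2'
  simp at e1 e2 e1' e2'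
  rw [show (1 : P3 F) = pr 1 from (map_one _).symm]
  refine pr_eq_of_smul (k := g.1 2 2) ?_
  ext i j
  fin_cases i <;> fin_cases j <;> simp [a02, a12, a20, a21, e1, e2, e1', e2']

/-- The transpose inverse. -/
def thetaSL : SL3 F ≃* SL3 F where
  toFun g := (g⁻¹).transpose
  invFun g := (g⁻¹).transpose
  left_inv g := by
    apply Subtype.ext
    simp [Matrix.SpecialLinearGroup.coe_transpose, Matrix.SpecialLinearGroup.coe_inv, Matrix.adjugate_transpose,
      Matrix.adjugate_adjugate _ (show Fintype.card (Fin 3) ≠ 1 by simp)]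
  right_inv g := by
    apply Subtype.ext
    simp [Matrix.SpecialLinearGroup.coe_transpose, Matrix.SpecialLinearGroup.coe_inv, Matrix.adjugate_transpose,
      Matrix.adjugate_adjugate _ (show Fintype.card (Fin 3) ≠ 1 by simp)]
  map_mul' g h := by
    apply Subtype.ext
    simp [Matrix.SpecialLinearGroup.coe_transpose, Matrix.SpecialLinearGroup.coe_inv, Matrix.adjugate_mul_distrib,
      Matrix.transpose_mul]

/-- The automorphism exchanging the radicals. -/
def theta : P3 F ≃* P3 F :=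
  QuotientGroup.congr _ _ thetaSL (Subgroup.map_equiv_eq_comap_symm _ _ |>.trans
    (Subgroup.Characteristic.fixed (inferInstance : (Subgroup.center (SL3 F)).Characteristic) thetaSL.symm))

theorem theta_pr (g : SL3 F) : theta (pr g) = pr (thetaSL g) := rfl

theorem thetaSL_eq {g h : SL3 F} (e : g.1.transpose * h.1 = 1) : thetaSL g = h := by
  have e' : g.transpose * h = 1 := Subtype.ext e
  show (g⁻¹).transpose = h
  rw [← inv_eq_of_mul_eq_one_right e']
  apply Subtype.ext
  simp [Matrix.SpecialLinearGroup.coe_transpose, Matrix.SpecialLinearGroup.coe_inv, Matrix.adjugate_transpose]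

theorem theta_w₀ : theta (w₀ F) = w₀ F := by
  rw [w₀, theta_pr, thetaSL_eq (g := tS) (h := tS) (by show (dgT F).transpose * dgT F = 1; rw [dgT_transpose, dgT_sq])]

theorem theta_lowR (x y : F) : theta (pr (lowR x y)) = U (-x, -y) := by
  rw [theta_pr, thetaSL_eq (g := lowR x y) (h := upR (-x) (-y)) (by
    ext i j; fin_cases i <;> fin_cases j <;> simp [lowR_val, upR_val, Matrix.mul_apply, Fin.sum_univ_three])]
  rfl

theorem thetaSL_lowShape {g : SL3 F} (h : LowShape g.1) : UpShape (thetaSL g).1 := by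
  obtain ⟨k, x, y, e⟩ := h
  have hk : k ^ 3 = 1 := by
    have := g.2; rw [e, Matrix.det_fin_three] at this; simpa [pow_three, mul_assoc] using this
  refine ⟨k⁻¹, -(x / k ^ 2), -(y / k ^ 2), ?_⟩
  have hk0 : k ≠ 0 := fun e => by rw [e] at hk; simp at hk
  have hd : Matrix.det !![k⁻¹, 0, -(x / k ^ 2); 0, k⁻¹, -(y / k ^ 2); 0, 0, k⁻¹] = 1 := by
    simp [Matrix.det_fin_three]
    rw [← mul_inv, ← mul_inv, mul_assoc, ← pow_three, hk, inv_one]
  rw [thetaSL_eq (g := g) (h := ⟨_, hd⟩)]
  show g.1.transpose * _ = 1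
  rw [e]
  ext i j
  fin_cases i <;> fin_cases j <;> simp [Matrix.mul_apply, Fin.sum_univ_three, hk0] <;> field_simp <;> ring

/-- The involution is not trivial. -/
theorem orderOf_w₀ (h2 : (2 : F) ≠ 0) : orderOf (w₀ F) = 2 := by
  refine orderOf_eq_prime (by rw [sq, w₀_sq]) fun e => ?_
  rw [w₀, show (1 : P3 F) = pr 1 from (map_one _).symm] at e
  obtain ⟨k, -, ek⟩ := pr_eq_iff.mp e
  have a := congrFun (congrFun ek 0) 0
  have b := congrFun (congrFun ek 2) 2
  simp [tS_val, dgT] at a b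
  exact h2 (by linear_combination b - a)

/-- All involutions are conjugate to the standard one. -/
theorem exists_conj [Fintype F] (h2 : (2 : F) ≠ 0) (w : P3 F) (hw : orderOf w = 2) : ∃ g, g * w * g⁻¹ = w₀ F := by
  obtain ⟨T, rfl⟩ := pr_surjective w
  have h := pow_orderOf_eq_one (pr T)
  rw [hw, ← map_pow, show (1 : P3 F) = pr 1 from (map_one _).symm] at h
  obtain ⟨k, hk3, hk⟩ := pr_eq_iff.mp h
  rw [Matrix.SpecialLinearGroup.coe_pow, Matrix.SpecialLinearGroup.coe_one, sq] at hk
  -- `k T` is an involution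
  have hkd : (k • T.1).det = 1 := by rw [Matrix.det_smul, Fintype.card_fin, hk3, T.2, one_mul]
  set T₁ : SL3 F := ⟨k • T.1, hkd⟩
  have hT₁ : pr T₁ = pr T := pr_eq_of_smul (A := T₁) (B := T) rfl
  have hinv : T₁.1 * T₁.1 = 1 := by
    show k • T.1 * (k • T.1) = 1
    rw [Matrix.smul_mul, Matrix.mul_smul, smul_smul, hk, smul_smul, show k * k * k = 1 by rw [← hk3]; ring, one_smul]
  obtain ⟨P, hP⟩ := CfsgLib.PSLThree.exists_diag_form h2 hinv T₁.2 fun e => by
    rw [← hT₁, show T₁ = 1 from Subtype.ext e, map_one, orderOf_one] at hw; omega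
  -- normalise the determinant
  set d : F := P.1.det
  have hd : d ≠ 0 := Matrix.GeneralLinearGroup.det_ne_zero P
  have hPP : P.1 * (P⁻¹).1 = 1 := by rw [← Units.val_mul, mul_inv_cancel, Units.val_one]
  have hdd : d * (P⁻¹).1.det = 1 := by rw [← Matrix.det_mul, hPP, Matrix.det_one]
  set D : Matrix (Fin 3) (Fin 3) F := !![d, 0, 0; 0, 1, 0; 0, 0, 1]
  have hDdg : D * diagonal CfsgLib.PSLThree.dvec = diagonal CfsgLib.PSLThree.dvec * D := by
    ext i j; rw [Matrix.mul_diagonal, Matrix.diagonal_mul]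
    fin_cases i <;> fin_cases j <;> simp [D, CfsgLib.PSLThree.dvec]
  have hg : (D * (P⁻¹).1).det = 1 := by
    rw [Matrix.det_mul, show D.det = d by simp [D, Matrix.det_fin_three], hdd]
  set g : SL3 F := ⟨D * (P⁻¹).1, hg⟩
  refine ⟨pr g, ?_⟩
  rw [← hT₁, mul_inv_eq_iff_eq_mul, w₀, ← map_mul, ← map_mul]
  congr 1
  apply Subtype.ext
  have ed : dgT F = diagonal CfsgLib.PSLThree.dvec := by
    ext i j; fin_cases i <;> fin_cases j <;> simp [dgT, CfsgLib.PSLThree.dvec]
  show D * (P⁻¹).1 * T₁.1 = dgT F * (D * (P⁻¹).1)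
  rw [ed, ← Matrix.mul_assoc, ← hDdg, hP]
  simp only [Matrix.mul_assoc]
  rw [← Matrix.mul_assoc (P⁻¹).1 P.1, ← Units.val_mul, inv_mul_cancel, Units.val_one, Matrix.one_mul]

end CfsgLib.RankTwoModel.L3
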