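import Mathlib

/-!
Subgroups of three-dimensional linear groups normalised by a block `SL₂` and moved by its central involution.

* `Tgp`: the hypotheses.
* `Tgp.shape`: all elements are upper or all lower triangular with scalar diagonal.
-/

set_option autoImplicit false
set_option linter.unusedSectionVars false

namespace CfsgLib.RankTwoModel

open Matrix

variable {F : Type*} [Field F]

/-- The involution. -/
def dgT (F : Type*) [Field F] : Matrix (Fin 3) (Fin 3) F := !![-1, 0, 0; 0, -1, 0; 0, 0, 1]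

/-- An upper root element of the block. -/
def xUp (τ : F) : Matrix (Fin 3) (Fin 3) F := !![1, τ, 0; 0, 1, 0; 0, 0, 1]

/-- A lower root element of the block. -/
def xLo (τ : F) : Matrix (Fin 3) (Fin 3) F := !![1, 0, 0; τ, 1, 0; 0, 0, 1]

/-- Scalar diagonal and the upper radical. -/
def UpShape (a : Matrix (Fin 3) (Fin 3) F) : Prop := ∃ k x y : F, a = !![k, 0, x; 0, k, y; 0, 0, k]

/-- Scalar diagonal and the lower radical. -/
def LowShape (a : Matrix (Fin 3) (Fin 3) F) : Prop := ∃ k x y : F, a = !![k, 0, 0; 0, k, 0; x, y, k]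

theorem dgT_sq : dgT F * dgT F = 1 := by
  ext i j; fin_cases i <;> fin_cases j <;> simp [dgT, Matrix.mul_apply, Fin.sum_univ_three]

theorem xUp_mul (a b : F) : xUp a * xUp b = xUp (a + b) := by
  ext i j; fin_cases i <;> fin_cases j <;> simp [xUp, Matrix.mul_apply, Fin.sum_univ_three, add_comm]

theorem xLo_mul (a b : F) : xLo a * xLo b = xLo (a + b) := by
  ext i j; fin_cases i <;> fin_cases j <;> simp [xLo, Matrix.mul_apply, Fin.sum_univ_three]

theorem xUp_zero : xUp (0 : F) = 1 := by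
  ext i j; fin_cases i <;> fin_cases j <;> simp [xUp]

theorem xLo_zero : xLo (0 : F) = 1 := by
  ext i j; fin_cases i <;> fin_cases j <;> simp [xLo]

theorem mul_three (X a Y : Matrix (Fin 3) (Fin 3) F) (i j : Fin 3) :
    (X * a * Y) i j = (X i 0 * a 0 0 + X i 1 * a 1 0 + X i 2 * a 2 0) * Y 0 j +
      (X i 0 * a 0 1 + X i 1 * a 1 1 + X i 2 * a 2 1) * Y 1 j +
      (X i 0 * a 0 2 + X i 1 * a 1 2 + X i 2 * a 2 2) * Y 2 j := by
  rw [Matrix.mul_apply, Fin.sum_univ_three, Matrix.mul_apply, Matrix.mul_apply, Matrix.mul_apply,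
    Fin.sum_univ_three, Fin.sum_univ_three, Fin.sum_univ_three]

theorem mul_two (a b : Matrix (Fin 3) (Fin 3) F) (i j : Fin 3) :
    (a * b) i j = a i 0 * b 0 j + a i 1 * b 1 j + a i 2 * b 2 j := by
  rw [Matrix.mul_apply, Fin.sum_univ_three]

section Family

variable {A : Set (Matrix (Fin 3) (Fin 3) F)} {τ τ' : F}
  (hc : ∀ a ∈ A, ∀ b ∈ A, a * b = b * a) (ht : ∀ a ∈ A, dgT F * a * dgT F ∈ A)
  (h1 : ∀ a ∈ A, xUp τ * a * xUp (-τ) ∈ A) (h2 : ∀ a ∈ A, xLo τ' * a * xLo (-τ') ∈ A)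
  (hτ : τ ≠ 0) (hτ' : τ' ≠ 0) (h2F : (2 : F) ≠ 0)

include hc ht h2F in
/-- The commutation relations between the diagonal and off diagonal parts. -/
theorem family_rel {a b : Matrix (Fin 3) (Fin 3) F} (ha : a ∈ A) (hb : b ∈ A) :
    a 0 2 * b 2 0 = b 0 2 * a 2 0 ∧ a 0 2 * b 2 1 = b 0 2 * a 2 1 ∧
    a 1 2 * b 2 0 = b 1 2 * a 2 0 ∧ a 1 2 * b 2 1 = b 1 2 * a 2 1 ∧
    a 0 0 * b 0 2 + a 0 1 * b 1 2 = b 0 2 * a 2 2 ∧
    a 1 0 * b 0 2 + a 1 1 * b 1 2 = b 1 2 * a 2 2 ∧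
    b 2 0 * a 0 0 + b 2 1 * a 1 0 = a 2 2 * b 2 0 ∧
    b 2 0 * a 0 1 + b 2 1 * a 1 1 = a 2 2 * b 2 1 := by
  have e1 := hc a ha b hb
  have e2 := hc a ha _ (ht b hb)
  have g1 : ∀ i j, (a * b) i j = (b * a) i j := fun i j => congrFun (congrFun e1 i) j
  have g2 : ∀ i j, (a * (dgT F * b * dgT F)) i j = (dgT F * b * dgT F * a) i j := fun i j =>
    congrFun (congrFun e2 i) j
  simp only [mul_two a b, mul_two b a] at g1
  simp only [mul_two a (dgT F * b * dgT F), mul_two (dgT F * b * dgT F) a, mul_three] at g2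
  have r : ∀ {x y : F}, x + x = y + y → x = y := fun {x y} h => by
    have : (2 : F) * (x - y) = 0 := by linear_combination h
    exact sub_eq_zero.mp ((mul_eq_zero.mp this).resolve_left h2F)
  have a00 := g1 0 0; have b00 := g2 0 0
  have a01 := g1 0 1; have b01 := g2 0 1
  have a10 := g1 1 0; have b10 := g2 1 0
  have a11 := g1 1 1; have b11 := g2 1 1
  have a02 := g1 0 2; have b02 := g2 0 2
  have a12 := g1 1 2; have b12 := g2 1 2
  have a20 := g1 2 0; have b20 := g2 2 0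
  have a21 := g1 2 1; have b21 := g2 2 1
  simp [dgT] at a00 b00 a01 b01 a10 b10 a11 b11 a02 b02 a12 b12 a20 b20 a21 b21
  exact ⟨r (by linear_combination a00 - b00), r (by linear_combination a01 - b01),
    r (by linear_combination a10 - b10), r (by linear_combination a11 - b11),
    r (by linear_combination a02 - b02), r (by linear_combination a12 - b12),
    r (by linear_combination b20 - a20), r (by linear_combination b21 - a21)⟩

include hc ht h1 h2 hτ hτ' h2F in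
/-- A commuting family is upper or lower. -/
theorem family_shape {a₀ : Matrix (Fin 3) (Fin 3) F} (ha₀ : a₀ ∈ A)
    (hne : a₀ 0 2 ≠ 0 ∨ a₀ 1 2 ≠ 0) : ∀ a ∈ A, UpShape a := by
  -- conjugates of an element
  have hU : ∀ a ∈ A, ∃ b ∈ A, b 0 2 = a 0 2 + τ * a 1 2 ∧ b 1 2 = a 1 2 ∧ b 2 0 = a 2 0 ∧
      b 2 1 = a 2 1 - τ * a 2 0 := fun a ha => ⟨_, h1 a ha, by
    refine ⟨?_, ?_, ?_, ?_⟩ <;> rw [mul_three] <;> simp [xUp] <;> ring⟩
  have hL : ∀ a ∈ A, ∃ b ∈ A, b 0 2 = a 0 2 ∧ b 1 2 = a 1 2 + τ' * a 0 2 ∧ b 2 0 = a 2 0 - τ' * a 2 1 ∧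
      b 2 1 = a 2 1 := fun a ha => ⟨_, h2 a ha, by
    refine ⟨?_, ?_, ?_, ?_⟩ <;> rw [mul_three] <;> simp [xLo] <;> ring⟩
  -- no element is both
  have hor : ∀ a ∈ A, (a 0 2 = 0 ∧ a 1 2 = 0) ∨ (a 2 0 = 0 ∧ a 2 1 = 0) := by
    intro a ha
    obtain ⟨b, hb, b1, b2, b3, b4⟩ := hU a ha
    obtain ⟨c, hcA, c1, c2, c3, c4⟩ := hL a ha
    obtain ⟨-, p2, -, -, -⟩ := family_rel hc ht h2F ha hb
    obtain ⟨-, -, -, p4', -⟩ := family_rel hc ht h2F ha hb
    rw [b1, b4] at p2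
    rw [b2, b4] at p4'
    have z1 : a 1 2 * a 2 0 = 0 := by
      have : τ * (a 1 2 * a 2 0) = 0 := by linear_combination -p4'
      exact (mul_eq_zero.mp this).resolve_left hτ
    have z3 : a 0 2 * a 2 0 + a 1 2 * a 2 1 = 0 := by
      have : τ * (a 0 2 * a 2 0 + a 1 2 * a 2 1) = 0 := by linear_combination -p2
      exact (mul_eq_zero.mp this).resolve_left hτ
    have z2 : a 0 2 * a 2 1 = 0 := by
      obtain ⟨q1', -, -, -, -⟩ := family_rel hc ht h2F ha hcA
      rw [c1, c3] at q1'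
      have : τ' * (a 0 2 * a 2 1) = 0 := by linear_combination -q1'
      exact (mul_eq_zero.mp this).resolve_left hτ'
    rcases mul_eq_zero.mp z1 with e | e <;> rcases mul_eq_zero.mp z2 with e' | e'
    · exact Or.inl ⟨e', e⟩
    · rw [e, zero_mul, add_zero] at z3
      rcases mul_eq_zero.mp z3 with e'' | e''
      · exact Or.inl ⟨e'', e⟩
      · exact Or.inr ⟨e'', e'⟩
    · rw [e, mul_zero, zero_add] at z3
      rcases mul_eq_zero.mp z3 with e'' | e''
      · exact Or.inl ⟨e', e''⟩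
      · exact Or.inr ⟨e, e''⟩
    · exact Or.inr ⟨e, e'⟩
  have ha₀' : a₀ 2 0 = 0 ∧ a₀ 2 1 = 0 := (hor a₀ ha₀).resolve_left fun e => hne.elim (· e.1) (· e.2)
  intro a ha
  obtain ⟨r1, r2, r3, r4, -⟩ := family_rel hc ht h2F ha₀ ha
  rw [ha₀'.1, mul_zero] at r1 r3
  rw [ha₀'.2, mul_zero] at r2 r4
  have z20 : a 2 0 = 0 := hne.elim (fun e => (mul_eq_zero.mp r1).resolve_left e) fun e => (mul_eq_zero.mp r3).resolve_left e
  have z21 : a 2 1 = 0 := hne.elim (fun e => (mul_eq_zero.mp r2).resolve_left e) fun e => (mul_eq_zero.mp r4).resolve_left e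
  -- the diagonal block is scalar
  obtain ⟨-, -, -, -, s0, s1, -⟩ := family_rel hc ht h2F ha ha₀
  obtain ⟨b, hb, b1, b2, -⟩ := hU a₀ ha₀
  obtain ⟨c, hcA, c1, c2, -⟩ := hL a₀ ha₀
  obtain ⟨-, -, -, -, u0, u1, -⟩ := family_rel hc ht h2F ha hb
  obtain ⟨-, -, -, -, l0, l1, -⟩ := family_rel hc ht h2F ha hcA
  rw [b1, b2] at u0 u1
  rw [c1, c2] at l0 l1
  have d0 : (a 0 0 - a 2 2) * a₀ 1 2 = 0 :=
    (mul_eq_zero.mp (show τ * ((a 0 0 - a 2 2) * a₀ 1 2) = 0 by linear_combination u0 - s0)).resolve_left hτ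
  have d1 : a 1 0 * a₀ 1 2 = 0 :=
    (mul_eq_zero.mp (show τ * (a 1 0 * a₀ 1 2) = 0 by linear_combination u1 - s1)).resolve_left hτ
  have d2 : a 0 1 * a₀ 0 2 = 0 :=
    (mul_eq_zero.mp (show τ' * (a 0 1 * a₀ 0 2) = 0 by linear_combination l0 - s0)).resolve_left hτ'
  have d3 : (a 1 1 - a 2 2) * a₀ 0 2 = 0 :=
    (mul_eq_zero.mp (show τ' * ((a 1 1 - a 2 2) * a₀ 0 2) = 0 by linear_combination l1 - s1)).resolve_left hτ'
  have key : a 0 0 = a 2 2 ∧ a 1 1 = a 2 2 ∧ a 0 1 = 0 ∧ a 1 0 = 0 := by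
    by_cases e : a₀ 0 2 = 0
    · have e1 := hne.resolve_left (fun h => h e)
      have f0 := (mul_eq_zero.mp d0).resolve_right e1
      have f1 := (mul_eq_zero.mp d1).resolve_right e1
      rw [e, f1, mul_zero, zero_add] at s1
      rw [e, mul_zero, zero_add, zero_mul] at s0
      refine ⟨sub_eq_zero.mp f0, ?_, (mul_eq_zero.mp s0).resolve_right e1, f1⟩
      exact mul_left_injective₀ e1 (s1.trans (mul_comm _ _))
    · have f2 := (mul_eq_zero.mp d2).resolve_right e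
      have f3 := (mul_eq_zero.mp d3).resolve_right e
      rw [f2, zero_mul, add_zero] at s0
      refine ⟨mul_left_injective₀ e (s0.trans (mul_comm _ _)), sub_eq_zero.mp f3, f2, ?_⟩
      have f4 : a 1 0 * a₀ 0 2 = 0 := by linear_combination s1 - a₀ 1 2 * sub_eq_zero.mp f3
      exact (mul_eq_zero.mp f4).resolve_right e
  refine ⟨a 2 2, a 0 2, a 1 2, ?_⟩
  ext i j
  fin_cases i <;> fin_cases j <;> simp [key.1, key.2.1, key.2.2.1, key.2.2.2, z20, z21]

end Family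

theorem dgT_transpose : (dgT F)ᵀ = dgT F := by
  ext i j; fin_cases i <;> fin_cases j <;> simp [dgT]

theorem xUp_transpose (τ : F) : (xUp τ)ᵀ = xLo τ := by
  ext i j; fin_cases i <;> fin_cases j <;> simp [xUp, xLo]

theorem xLo_transpose (τ : F) : (xLo τ)ᵀ = xUp τ := by
  rw [← xUp_transpose, Matrix.transpose_transpose]

theorem upShape_transpose {a : Matrix (Fin 3) (Fin 3) F} (h : UpShape aᵀ) : LowShape a := by
  obtain ⟨k, x, y, e⟩ := h
  refine ⟨k, x, y, ?_⟩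
  rw [← Matrix.transpose_transpose a, e]
  ext i j; fin_cases i <;> fin_cases j <;> simp

end CfsgLib.RankTwoModel
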