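import Cfsg.Agent.Lib.RankTwoModel.Linear

/-!
Odd `p`-subgroups of `GL₃` normalised by a block `SL₂` and moved by its central involution have scalar diagonal and
lie in one of the two radicals.
-/

set_option autoImplicit false
set_option linter.unusedSectionVars false

namespace CfsgLib.RankTwoModel

open Matrix

variable {F : Type*} [Field F]

/-- The hypotheses. -/
structure Tgp (P : Subgroup (GL (Fin 3) F)) (τ τ' : F) : Prop where
  nilp : Group.IsNilpotent P
  det : ∀ g ∈ P, (g : Matrix (Fin 3) (Fin 3) F).det = 1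
  normT : ∀ g ∈ P, ∃ g' ∈ P, (g' : Matrix (Fin 3) (Fin 3) F) = dgT F * g * dgT F
  normU : ∀ g ∈ P, ∃ g' ∈ P, (g' : Matrix (Fin 3) (Fin 3) F) = xUp τ * g * xUp (-τ)
  normL : ∀ g ∈ P, ∃ g' ∈ P, (g' : Matrix (Fin 3) (Fin 3) F) = xLo τ' * g * xLo (-τ')
  tau : τ ≠ 0
  tau' : τ' ≠ 0
  two : (2 : F) ≠ 0
  char : ∃ ℓ : ℕ, ℓ.Prime ∧ (ℓ : F) = 0

theorem comm_dgT_entries {g : Matrix (Fin 3) (Fin 3) F} (h02 : g 0 2 = 0) (h12 : g 1 2 = 0) (h20 : g 2 0 = 0)
    (h21 : g 2 1 = 0) : dgT F * g = g * dgT F := by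
  ext i j
  rw [mul_two, mul_two]
  fin_cases i <;> fin_cases j <;> simp [dgT, h02, h12, h20, h21]

theorem entries_of_comm_dgT (h2F : (2 : F) ≠ 0) {g : Matrix (Fin 3) (Fin 3) F} (h : dgT F * g = g * dgT F) :
    g 0 2 = 0 ∧ g 1 2 = 0 ∧ g 2 0 = 0 ∧ g 2 1 = 0 := by
  have g1 : ∀ i j, (dgT F * g) i j = (g * dgT F) i j := fun i j => congrFun (congrFun h i) j
  simp only [mul_two] at g1
  have a02 := g1 0 2; have a12 := g1 1 2; have a20 := g1 2 0; have a21 := g1 2 1
  simp [dgT] at a02 a12 a20 a21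
  have r : ∀ {x : F}, -x = x → x = 0 := fun {x} e =>
    (mul_eq_zero.mp (show (2 : F) * x = 0 by linear_combination -e)).resolve_left h2F
  exact ⟨r a02, r a12, r (by linear_combination -a20), r (by linear_combination -a21)⟩

theorem pow_three_of_det {c : F} {a b : Matrix (Fin 3) (Fin 3) F} (ha : a.det = 1) (hb : b.det = 1)
    (h : a = c • b) : c ^ 3 = 1 := by
  rw [h, Matrix.det_smul, hb, Fintype.card_fin, mul_one] at ha
  exact ha

namespace Tgp

variable [Finite F] {P : Subgroup (GL (Fin 3) F)} {τ τ' : F} (h : Tgp P τ τ')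

include h

theorem transpose_family {A : Set (Matrix (Fin 3) (Fin 3) F)} (hc : ∀ a ∈ A, ∀ b ∈ A, a * b = b * a)
    (ht : ∀ a ∈ A, dgT F * a * dgT F ∈ A) (h1 : ∀ a ∈ A, xUp τ * a * xUp (-τ) ∈ A)
    (h2 : ∀ a ∈ A, xLo τ' * a * xLo (-τ') ∈ A) {a₀ : Matrix (Fin 3) (Fin 3) F} (ha₀ : a₀ ∈ A)
    (hne : a₀ 2 0 ≠ 0 ∨ a₀ 2 1 ≠ 0) : ∀ a ∈ A, LowShape a := by
  intro a ha
  refine upShape_transpose (family_shape (A := {m | mᵀ ∈ A}) (τ := -τ') (τ' := -τ)
    (fun x hx y hy => ?_) (fun x hx => ?_) (fun x hx => ?_) (fun x hx => ?_) (neg_ne_zero.mpr h.tau')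
    (neg_ne_zero.mpr h.tau) h.two (a₀ := a₀ᵀ) ?_ ?_ aᵀ ?_)
  · have := congrArg Matrix.transpose (hc _ hy _ hx)
    simpa [Matrix.transpose_mul] using this
  · show (dgT F * x * dgT F)ᵀ ∈ A
    rw [Matrix.transpose_mul, Matrix.transpose_mul, dgT_transpose, ← mul_assoc]
    exact ht _ hx
  · show (xUp (-τ') * x * xUp (- -τ'))ᵀ ∈ A
    rw [Matrix.transpose_mul, Matrix.transpose_mul, xUp_transpose, xUp_transpose, neg_neg, ← mul_assoc]
    exact h2 _ hx
  · show (xLo (-τ) * x * xLo (- -τ))ᵀ ∈ A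
    rw [Matrix.transpose_mul, Matrix.transpose_mul, xLo_transpose, xLo_transpose, neg_neg, ← mul_assoc]
    exact h1 _ hx
  · show a₀ᵀᵀ ∈ A
    rwa [Matrix.transpose_transpose]
  · simpa using hne
  · show aᵀᵀ ∈ A
    rwa [Matrix.transpose_transpose]

/-- The central elements of `P`, as matrices. -/
def zset (_ : Tgp P τ τ') : Set (Matrix (Fin 3) (Fin 3) F) :=
  {m | ∃ g ∈ P, (g : Matrix (Fin 3) (Fin 3) F) = m ∧ ∀ x ∈ P, g * x = x * g}

theorem zset_closed {X Y : Matrix (Fin 3) (Fin 3) F} (hXY : X * Y = 1) (hYX : Y * X = 1)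
    (hn : ∀ g ∈ P, ∃ g' ∈ P, (g' : Matrix (Fin 3) (Fin 3) F) = X * g * Y) : ∀ a ∈ h.zset, X * a * Y ∈ h.zset := by
  rintro _ ⟨g, hg, rfl, hgc⟩
  set u : GL (Fin 3) F := ⟨X, Y, hXY, hYX⟩
  obtain ⟨g', hg', e⟩ := hn g hg
  have hu : ∀ {k k' : GL (Fin 3) F}, (k' : Matrix (Fin 3) (Fin 3) F) = X * k * Y → k' = u * k * u⁻¹ :=
    fun e => Units.ext e
  refine ⟨g', hg', e, fun x hx => ?_⟩
  -- the conjugation is onto `P`
  have hfin : ∀ y ∈ P, ∃ k ∈ P, y = u * k * u⁻¹ := by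
    haveI : Finite (GL (Fin 3) F) := Finite.of_injective _ Units.val_injective
    let f : P → P := fun k => ⟨u * k * u⁻¹, by
      obtain ⟨k', hk', e'⟩ := hn k k.2
      rw [← hu e']; exact hk'⟩
    have hf : Function.Surjective f := Finite.surjective_of_injective fun a b e => Subtype.ext (by
      have := congrArg Subtype.val e
      simpa [f] using this)
    intro y hy
    obtain ⟨k, hk⟩ := hf ⟨y, hy⟩
    exact ⟨k, k.2, (congrArg Subtype.val hk).symm⟩
  obtain ⟨k, hk, rfl⟩ := hfin x hx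
  rw [hu e]
  calc u * g * u⁻¹ * (u * k * u⁻¹) = u * (g * k) * u⁻¹ := by group
    _ = u * (k * g) * u⁻¹ := by rw [hgc k hk]
    _ = _ := by group

theorem zset_comm : ∀ a ∈ h.zset, ∀ b ∈ h.zset, a * b = b * a := by
  rintro _ ⟨g, hg, rfl, hgc⟩ _ ⟨g', hg', rfl, -⟩
  exact congrArg Units.val (hgc g' hg')

theorem zset_t : ∀ a ∈ h.zset, dgT F * a * dgT F ∈ h.zset :=
  h.zset_closed dgT_sq dgT_sq h.normT

theorem zset_u : ∀ a ∈ h.zset, xUp τ * a * xUp (-τ) ∈ h.zset :=
  h.zset_closed (by rw [xUp_mul, add_neg_cancel, xUp_zero]) (by rw [xUp_mul, neg_add_cancel, xUp_zero]) h.normU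

theorem zset_l : ∀ a ∈ h.zset, xLo τ' * a * xLo (-τ') ∈ h.zset :=
  h.zset_closed (by rw [xLo_mul, add_neg_cancel, xLo_zero]) (by rw [xLo_mul, neg_add_cancel, xLo_zero]) h.normL

/-- An element commuting with the conjugates of an upper element is upper. -/
theorem shape_of_upper {a : Matrix (Fin 3) (Fin 3) F} (ha : a ∈ h.zset) (hs : UpShape a)
    (hne : a 0 2 ≠ 0 ∨ a 1 2 ≠ 0) : ∀ g ∈ P, UpShape (g : Matrix (Fin 3) (Fin 3) F) := by
  intro g hg
  obtain ⟨k, x, y, rfl⟩ := hs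
  have hcomm : ∀ {m : Matrix (Fin 3) (Fin 3) F}, m ∈ h.zset →
      m * (g : Matrix (Fin 3) (Fin 3) F) = g * m := by
    rintro _ ⟨c, hc, rfl, hcc⟩
    exact congrArg Units.val (hcc g hg)
  have e0 := hcomm ha
  have e1 := hcomm (h.zset_u _ ha)
  have e2 := hcomm (h.zset_l _ ha)
  have q0 := Matrix.ext_iff.mpr e0
  have q1 := Matrix.ext_iff.mpr e1
  have q2 := Matrix.ext_iff.mpr e2
  simp only [mul_two, mul_three] at q0 q1 q2
  have p00 := q0 0 0; have p01 := q0 0 1; have p10 := q0 1 0; have p11 := q0 1 1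
  have p02 := q0 0 2; have p12 := q0 1 2
  have u02 := q1 0 2; have u12 := q1 1 2; have l02 := q2 0 2; have l12 := q2 1 2
  simp [xUp, xLo] at p00 p01 p10 p11 p02 p12 u02 u12 l02 l12 hne
  set G := (g : Matrix (Fin 3) (Fin 3) F)
  have d0 : (G 0 0 - G 2 2) * y = 0 :=
    (mul_eq_zero.mp (show τ * ((G 0 0 - G 2 2) * y) = 0 by linear_combination p02 - u02)).resolve_left h.tau
  have d1 : G 1 0 * y = 0 :=
    (mul_eq_zero.mp (show τ * (G 1 0 * y) = 0 by linear_combination p12 - u12)).resolve_left h.tau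
  have d2 : G 0 1 * x = 0 :=
    (mul_eq_zero.mp (show τ' * (G 0 1 * x) = 0 by linear_combination p02 - l02)).resolve_left h.tau'
  have d3 : (G 1 1 - G 2 2) * x = 0 :=
    (mul_eq_zero.mp (show τ' * ((G 1 1 - G 2 2) * x) = 0 by linear_combination p12 - l12)).resolve_left h.tau'
  have c20 : G 2 0 = 0 := hne.elim
    (fun e => (mul_eq_zero.mp (show x * G 2 0 = 0 by linear_combination p00)).resolve_left e)
    (fun e => (mul_eq_zero.mp (show y * G 2 0 = 0 by linear_combination p10)).resolve_left e)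
  have c21 : G 2 1 = 0 := hne.elim
    (fun e => (mul_eq_zero.mp (show x * G 2 1 = 0 by linear_combination p01)).resolve_left e)
    (fun e => (mul_eq_zero.mp (show y * G 2 1 = 0 by linear_combination p11)).resolve_left e)
  have key : G 0 0 = G 2 2 ∧ G 1 1 = G 2 2 ∧ G 0 1 = 0 ∧ G 1 0 = 0 := by
    by_cases e : x = 0
    · have e1 := hne.resolve_left (fun h => h e)
      have f0 := (mul_eq_zero.mp d0).resolve_right e1
      have f1 := (mul_eq_zero.mp d1).resolve_right e1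
      refine ⟨sub_eq_zero.mp f0, ?_, ?_, f1⟩
      · exact sub_eq_zero.mp ((mul_eq_zero.mp (show y * (G 1 1 - G 2 2) = 0 by
          rw [e, f1] at p12; linear_combination -p12)).resolve_left e1)
      · exact (mul_eq_zero.mp (show y * G 0 1 = 0 by rw [e] at p02; linear_combination -p02)).resolve_left e1
    · have f2 := (mul_eq_zero.mp d2).resolve_right e
      have f3 := (mul_eq_zero.mp d3).resolve_right e
      refine ⟨?_, sub_eq_zero.mp f3, f2, ?_⟩
      · exact sub_eq_zero.mp ((mul_eq_zero.mp (show x * (G 0 0 - G 2 2) = 0 by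
          rw [f2] at p02; linear_combination -p02)).resolve_left e)
      · exact (mul_eq_zero.mp (show x * G 1 0 = 0 by linear_combination -p12 - y * f3)).resolve_left e
  refine ⟨G 2 2, G 0 2, G 1 2, ?_⟩
  ext i j
  fin_cases i <;> fin_cases j <;> simp [key.1, key.2.1, key.2.2.1, key.2.2.2, c20, c21]

end Tgp

theorem upShape_transpose' {a : Matrix (Fin 3) (Fin 3) F} (h : LowShape a) : UpShape aᵀ := by
  obtain ⟨k, x, y, rfl⟩ := h
  refine ⟨k, x, y, ?_⟩
  ext i j; fin_cases i <;> fin_cases j <;> simp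

/-- Commuting with a block root element. -/
theorem entries_of_comm_xUp {τ : F} (hτ : τ ≠ 0) {a : Matrix (Fin 3) (Fin 3) F} (h : xUp τ * a = a * xUp τ) :
    a 1 0 = 0 ∧ a 2 0 = 0 ∧ a 1 2 = 0 ∧ a 0 0 = a 1 1 := by
  have g : ∀ i j, (xUp τ * a) i j = (a * xUp τ) i j := fun i j => congrFun (congrFun h i) j
  simp only [mul_two] at g
  have a00 := g 0 0; have a01 := g 0 1; have a02 := g 0 2; have a21 := g 2 1
  simp [xUp, hτ] at a00 a01 a02 a21
  refine ⟨a00, a21, a02, ?_⟩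
  have : τ * (a 0 0 - a 1 1) = 0 := by linear_combination -a01
  exact sub_eq_zero.mp ((mul_eq_zero.mp this).resolve_left hτ)

theorem entries_of_comm_xLo {τ : F} (hτ : τ ≠ 0) {a : Matrix (Fin 3) (Fin 3) F} (h : xLo τ * a = a * xLo τ) :
    a 0 1 = 0 ∧ a 2 1 = 0 ∧ a 0 2 = 0 := by
  have g : ∀ i j, (xLo τ * a) i j = (a * xLo τ) i j := fun i j => congrFun (congrFun h i) j
  simp only [mul_two] at g
  have a11 := g 1 1; have a12 := g 1 2; have a20 := g 2 0
  simp [xLo, hτ] at a11 a12 a20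
  exact ⟨a11, a20, a12⟩

/-- Eigenvectors of distinct characters do not satisfy the relation of the third differences. -/
theorem four_chars {M : Type*} [Monoid M] (χ : Fin 4 → M →* F) (hχ : Function.Injective χ) (m : Fin 4 → F)
    (h : ∀ g : M, ∑ k, m k * χ k g = 0) : m 0 = 0 := by
  have hli := (linearIndependent_monoidHom M F).comp χ hχ
  rw [Fintype.linearIndependent_iff] at hli
  refine hli m ?_ 0
  funext g
  simpa using h g

namespace Tgp

variable [Finite F] {P : Subgroup (GL (Fin 3) F)} {τ τ' : F} (h : Tgp P τ τ')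

include h

/-- A central element is scalar unless `P` is in a radical. -/
theorem center_scalar {g₀ : GL (Fin 3) F} (hg₀ : g₀ ∈ P)
    (hmv : dgT F * (g₀ : Matrix (Fin 3) (Fin 3) F) ≠ g₀ * dgT F)
    (hno : ¬ ((∀ g ∈ P, UpShape (g : Matrix (Fin 3) (Fin 3) F)) ∨ ∀ g ∈ P, LowShape (g : Matrix (Fin 3) (Fin 3) F))) :
    ∀ a ∈ h.zset, ∃ k : F, a = k • (1 : Matrix (Fin 3) (Fin 3) F) := by
  have hzero : ∀ a ∈ h.zset, a 0 2 = 0 ∧ a 1 2 = 0 ∧ a 2 0 = 0 ∧ a 2 1 = 0 := by
    intro a ha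
    by_cases hu : a 0 2 ≠ 0 ∨ a 1 2 ≠ 0
    · refine absurd (Or.inl ?_) hno
      exact h.shape_of_upper ha (family_shape h.zset_comm h.zset_t h.zset_u h.zset_l h.tau h.tau' h.two ha hu a ha) hu
    push Not at hu
    by_cases hl : a 2 0 ≠ 0 ∨ a 2 1 ≠ 0
    · exfalso
      refine hno (Or.inr fun g hg => ?_)
      have hla : LowShape a := h.transpose_family h.zset_comm h.zset_t h.zset_u h.zset_l ha hl a ha
      -- transpose the group
      obtain ⟨c, hc, hca, hcc⟩ := ha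
      refine upShape_transpose ?_
      obtain ⟨k, x, y, rfl⟩ := hla
      set G := (g : Matrix (Fin 3) (Fin 3) F)
      have e0 := congrArg Units.val (hcc g hg)
      obtain ⟨u₁, hu₁, hu₁', hu₁c⟩ := h.zset_u _ ⟨c, hc, hca, hcc⟩
      obtain ⟨u₂, hu₂, hu₂', hu₂c⟩ := h.zset_l _ ⟨c, hc, hca, hcc⟩
      have e1 := congrArg Units.val (hu₁c g hg)
      have e2 := congrArg Units.val (hu₂c g hg)
      rw [Units.val_mul, Units.val_mul] at e0 e1 e2
      rw [hca] at e0
      rw [hu₁'] at e1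
      rw [hu₂'] at e2
      have q0 := Matrix.ext_iff.mpr e0
      have q1 := Matrix.ext_iff.mpr e1
      have q2 := Matrix.ext_iff.mpr e2
      simp only [mul_two, mul_three] at q0 q1 q2
      have p00 := q0 0 0; have p01 := q0 0 1; have p10 := q0 1 0; have p11 := q0 1 1
      have p20 := q0 2 0; have p21 := q0 2 1
      have u20 := q1 2 0; have u21 := q1 2 1; have l20 := q2 2 0; have l21 := q2 2 1
      simp [xUp, xLo] at p00 p01 p10 p11 p20 p21 u20 u21 l20 l21 hl
      have d0 : (G 1 1 - G 2 2) * x = 0 :=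
        (mul_eq_zero.mp (show τ * ((G 1 1 - G 2 2) * x) = 0 by linear_combination p21 - u21)).resolve_left h.tau
      have d1 : G 1 0 * x = 0 :=
        (mul_eq_zero.mp (show τ * (G 1 0 * x) = 0 by linear_combination p20 - u20)).resolve_left h.tau
      have d2 : G 0 1 * y = 0 :=
        (mul_eq_zero.mp (show τ' * (G 0 1 * y) = 0 by linear_combination p21 - l21)).resolve_left h.tau'
      have d3 : (G 0 0 - G 2 2) * y = 0 :=
        (mul_eq_zero.mp (show τ' * ((G 0 0 - G 2 2) * y) = 0 by linear_combination p20 - l20)).resolve_left h.tau'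
      have c02 : G 0 2 = 0 := hl.elim
        (fun e => (mul_eq_zero.mp (show x * G 0 2 = 0 by linear_combination -p00)).resolve_left e)
        (fun e => (mul_eq_zero.mp (show y * G 0 2 = 0 by linear_combination -p01)).resolve_left e)
      have c12 : G 1 2 = 0 := hl.elim
        (fun e => (mul_eq_zero.mp (show x * G 1 2 = 0 by linear_combination -p10)).resolve_left e)
        (fun e => (mul_eq_zero.mp (show y * G 1 2 = 0 by linear_combination -p11)).resolve_left e)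
      have key : G 0 0 = G 2 2 ∧ G 1 1 = G 2 2 ∧ G 0 1 = 0 ∧ G 1 0 = 0 := by
        by_cases e : x = 0
        · have e1 := hl.resolve_left (fun h => h e)
          have f2 := (mul_eq_zero.mp d2).resolve_right e1
          have f3 := (mul_eq_zero.mp d3).resolve_right e1
          refine ⟨sub_eq_zero.mp f3, ?_, f2, ?_⟩
          · exact sub_eq_zero.mp ((mul_eq_zero.mp (show y * (G 1 1 - G 2 2) = 0 by
              rw [e] at p21; linear_combination p21)).resolve_left e1)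
          · exact (mul_eq_zero.mp (show y * G 1 0 = 0 by rw [e] at p20; linear_combination p20)).resolve_left e1
        · have f0 := (mul_eq_zero.mp d0).resolve_right e
          have f1 := (mul_eq_zero.mp d1).resolve_right e
          refine ⟨?_, sub_eq_zero.mp f0, ?_, f1⟩
          · exact sub_eq_zero.mp ((mul_eq_zero.mp (show x * (G 0 0 - G 2 2) = 0 by
              linear_combination p20 - y * f1)).resolve_left e)
          · exact (mul_eq_zero.mp (show x * G 0 1 = 0 by linear_combination p21 - y * f0)).resolve_left e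
      refine ⟨G 2 2, G 2 0, G 2 1, ?_⟩
      ext i j
      fin_cases i <;> fin_cases j <;> simp [G, key.1, key.2.1, key.2.2.1, key.2.2.2, c02, c12]
    push Not at hl
    exact ⟨hu.1, hu.2, hl.1, hl.2⟩
  intro a ha
  -- the block of `a` is scalar
  obtain ⟨z0, z1, z2, z3⟩ := hzero a ha
  have e1 : ∀ i j, (a * (xUp τ * a * xUp (-τ))) i j = (xUp τ * a * xUp (-τ) * a) i j := fun i j =>
    congrFun (congrFun (h.zset_comm a ha _ (h.zset_u a ha)) i) j
  have e2 : ∀ i j, (a * (xLo τ' * a * xLo (-τ'))) i j = (xLo τ' * a * xLo (-τ') * a) i j := fun i j =>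
    congrFun (congrFun (h.zset_comm a ha _ (h.zset_l a ha)) i) j
  simp only [mul_two a, mul_two (xUp τ * a * xUp (-τ)), mul_three] at e1
  simp only [mul_two a, mul_two (xLo τ' * a * xLo (-τ')), mul_three] at e2
  have u10 := e1 1 0; have u01 := e1 0 1; have l01 := e2 0 1
  simp [xUp, z0, z1, z2, z3] at u10 u01
  simp [xLo, z0, z1, z2, z3] at l01
  have c10 : a 1 0 = 0 := by
    have : (2 : F) * τ * (a 1 0 * a 1 0) = 0 := by linear_combination u10
    exact mul_self_eq_zero.mp ((mul_eq_zero.mp this).resolve_left (mul_ne_zero h.two h.tau))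
  have c01 : a 0 1 = 0 := by
    have : (2 : F) * τ' * (a 0 1 * a 0 1) = 0 := by linear_combination l01
    exact mul_self_eq_zero.mp ((mul_eq_zero.mp this).resolve_left (mul_ne_zero h.two h.tau'))
  rw [c10, c01] at u01
  have c00 : a 0 0 = a 1 1 := by
    have : τ * ((a 0 0 - a 1 1) * (a 0 0 - a 1 1)) = 0 := by linear_combination -u01
    exact sub_eq_zero.mp (mul_self_eq_zero.mp ((mul_eq_zero.mp this).resolve_left h.tau))
  by_contra hk
  apply hmv
  obtain ⟨c, hc, rfl, hcc⟩ := ha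
  set A := (c : Matrix (Fin 3) (Fin 3) F)
  have hne : A 0 0 ≠ A 2 2 := fun e => hk ⟨A 2 2, by
    ext i j; fin_cases i <;> fin_cases j <;> simp [z0, z1, z2, z3, c10, c01, ← c00, e]⟩
  set G := (g₀ : Matrix (Fin 3) (Fin 3) F)
  have hAG : A * G = G * A := congrArg Units.val (hcc g₀ hg₀)
  have q : ∀ i j, (A * G) i j = (G * A) i j := Matrix.ext_iff.mpr hAG
  simp only [mul_two] at q
  have q02 := q 0 2; have q12 := q 1 2; have q20 := q 2 0; have q21 := q 2 1
  simp [z0, z1, z2, z3, c10, c01, ← c00] at q02 q12 q20 q21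
  have hd := sub_ne_zero.mpr hne
  exact comm_dgT_entries ((mul_eq_zero.mp (show (A 0 0 - A 2 2) * G 0 2 = 0 by linear_combination q02)).resolve_left hd)
    ((mul_eq_zero.mp (show (A 0 0 - A 2 2) * G 1 2 = 0 by linear_combination q12)).resolve_left hd)
    ((mul_eq_zero.mp (show (A 0 0 - A 2 2) * G 2 0 = 0 by linear_combination -q20)).resolve_left hd)
    ((mul_eq_zero.mp (show (A 0 0 - A 2 2) * G 2 1 = 0 by linear_combination -q21)).resolve_left hd)

/-- `x` is an eigenvector for the conjugation by every element of `P`. -/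
def Eigen (_ : Tgp P τ τ') (x : Matrix (Fin 3) (Fin 3) F) : Prop :=
  (∃ g ∈ P, (g : Matrix (Fin 3) (Fin 3) F) = x) ∧ ∀ g ∈ P, ∃ ω : F, (g : Matrix (Fin 3) (Fin 3) F) * x = ω • (x * g)

theorem eigen_closed {X Y : Matrix (Fin 3) (Fin 3) F} (hXY : X * Y = 1) (hYX : Y * X = 1)
    (hn : ∀ g ∈ P, ∃ g' ∈ P, (g' : Matrix (Fin 3) (Fin 3) F) = X * g * Y) {x : Matrix (Fin 3) (Fin 3) F}
    (hx : h.Eigen x) : h.Eigen (X * x * Y) := by
  obtain ⟨⟨g, hg, rfl⟩, he⟩ := hx
  obtain ⟨g', hg', e⟩ := hn g hg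
  refine ⟨⟨g', hg', e⟩, fun k hk => ?_⟩
  haveI : Finite (GL (Fin 3) F) := Finite.of_injective _ Units.val_injective
  set u : GL (Fin 3) F := ⟨X, Y, hXY, hYX⟩
  let f : P → P := fun l => ⟨u * l * u⁻¹, by
    obtain ⟨l', hl', e'⟩ := hn l l.2
    rw [show u * (l : GL (Fin 3) F) * u⁻¹ = l' from (Units.ext e').symm]; exact hl'⟩
  have hf : Function.Surjective f := Finite.surjective_of_injective fun a b e => Subtype.ext (by
    have := congrArg Subtype.val e
    simpa [f] using this)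
  obtain ⟨l, hl⟩ := hf ⟨k, hk⟩
  have hk' : (k : Matrix (Fin 3) (Fin 3) F) = X * ((l : GL (Fin 3) F) : Matrix (Fin 3) (Fin 3) F) * Y := by
    rw [show k = u * l * u⁻¹ from (congrArg Subtype.val hl).symm]; rfl
  obtain ⟨ω, hω⟩ := he l l.2
  refine ⟨ω, ?_⟩
  rw [hk', show ∀ a b : Matrix (Fin 3) (Fin 3) F, X * a * Y * (X * b * Y) = X * (a * b) * Y from fun a b => by
      rw [show X * a * Y * (X * b * Y) = X * a * (Y * X) * (b * Y) by simp only [Matrix.mul_assoc], hYX,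
        Matrix.mul_one]
      simp only [Matrix.mul_assoc],
    hω, Matrix.mul_smul, Matrix.smul_mul]
  congr 1
  rw [show ∀ a b : Matrix (Fin 3) (Fin 3) F, X * a * Y * (X * b * Y) = X * (a * b) * Y from fun a b => by
      rw [show X * a * Y * (X * b * Y) = X * a * (Y * X) * (b * Y) by simp only [Matrix.mul_assoc], hYX,
        Matrix.mul_one]
      simp only [Matrix.mul_assoc]]

theorem iterate_u (n : ℕ) : ∀ g ∈ P, ∃ g' ∈ P,
    (g' : Matrix (Fin 3) (Fin 3) F) = xUp ((n : F) * τ) * g * xUp (-((n : F) * τ)) := by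
  induction n with
  | zero => exact fun g hg => ⟨g, hg, by simp [xUp_zero]⟩
  | succ n ih =>
    intro g hg
    obtain ⟨a, ha, ea⟩ := ih g hg
    obtain ⟨b, hb, eb⟩ := h.normU a ha
    refine ⟨b, hb, ?_⟩
    rw [eb, ea, show ((n + 1 : ℕ) : F) * τ = τ + (n : F) * τ by push_cast; ring, neg_add_rev, ← xUp_mul, ← xUp_mul]
    simp only [Matrix.mul_assoc]

theorem iterate_l (n : ℕ) : ∀ g ∈ P, ∃ g' ∈ P,
    (g' : Matrix (Fin 3) (Fin 3) F) = xLo ((n : F) * τ') * g * xLo (-((n : F) * τ')) := by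
  induction n with
  | zero => exact fun g hg => ⟨g, hg, by simp [xLo_zero]⟩
  | succ n ih =>
    intro g hg
    obtain ⟨a, ha, ea⟩ := ih g hg
    obtain ⟨b, hb, eb⟩ := h.normL a ha
    refine ⟨b, hb, ?_⟩
    rw [eb, ea, show ((n + 1 : ℕ) : F) * τ' = τ' + (n : F) * τ' by push_cast; ring, neg_add_rev, ← xLo_mul, ← xLo_mul]
    simp only [Matrix.mul_assoc]

/-- An eigenvector that does not centralise `P` commutes with a non-trivial element of each root group. -/
theorem root_comm (hcen : ∀ a ∈ h.zset, ∃ k : F, a = k • (1 : Matrix (Fin 3) (Fin 3) F))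
    (X : F → Matrix (Fin 3) (Fin 3) F) (hmul : ∀ a b, X a * X b = X (a + b)) (hX0 : X 0 = 1) {t : F} (ht : t ≠ 0)
    (hn : ∀ n : ℕ, ∀ g ∈ P, ∃ g' ∈ P,
      (g' : Matrix (Fin 3) (Fin 3) F) = X ((n : F) * t) * g * X (-((n : F) * t)))
    (hdiff : ∀ (y : Matrix (Fin 3) (Fin 3) F) (a b : Fin 3), (X 0 * y * X (-0)) a b -
      3 * (X t * y * X (-t)) a b + 3 * (X (2 * t) * y * X (-(2 * t))) a b -
      (X (3 * t) * y * X (-(3 * t))) a b = 0)
    {x : Matrix (Fin 3) (Fin 3) F} (hx : h.Eigen x)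
    (hne : ∃ g ∈ P, (g : Matrix (Fin 3) (Fin 3) F) * x ≠ x * g) :
    ∃ s : F, s ≠ 0 ∧ X s * x = x * X s := by
  have hinv : ∀ a, X a * X (-a) = 1 ∧ X (-a) * X a = 1 := fun a =>
    ⟨by rw [hmul, add_neg_cancel, hX0], by rw [hmul, neg_add_cancel, hX0]⟩
  set y : ℕ → Matrix (Fin 3) (Fin 3) F := fun n => X ((n : F) * t) * x * X (-((n : F) * t))
  have hy : ∀ n, h.Eigen (y n) := fun n => h.eigen_closed (hinv _).1 (hinv _).2 (hn n) hx
  have hnz : ∀ n, ∀ g : GL (Fin 3) F, g ∈ P → y n * (g : Matrix (Fin 3) (Fin 3) F) ≠ 0 := fun n g hg e => by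
    obtain ⟨⟨k, hk, hk'⟩, -⟩ := hy n
    have := congrArg Matrix.det e
    rw [Matrix.det_mul, ← hk', h.det k hk, h.det g hg, one_mul, Matrix.det_zero] at this
    exact one_ne_zero this
  choose w hw using fun (n : ℕ) (g : P) => (hy n).2 g g.2
  have huniq : ∀ (n : ℕ) (g : P) (o : F),
      ((g : GL (Fin 3) F) : Matrix (Fin 3) (Fin 3) F) * y n = o • (y n * (g : GL (Fin 3) F)) → w n g = o :=
    fun n g o e => smul_left_injective F (hnz n g g.2) ((hw n g).symm.trans e)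
  let χ : Fin 4 → P →* F := fun i =>
    { toFun := w (i : ℕ)
      map_one' := huniq _ 1 1 (by simp)
      map_mul' := fun g g' => huniq _ _ _ (by
        simp only [Subgroup.coe_mul, Units.val_mul]
        rw [Matrix.mul_assoc, hw _ g', Matrix.mul_smul, ← Matrix.mul_assoc, hw _ g, Matrix.smul_mul, smul_smul,
          Matrix.mul_assoc, mul_comm (w (i : ℕ) g')]) }
  -- two characters agree
  obtain ⟨i, j, hij, hne'⟩ : ∃ i j : Fin 4, χ i = χ j ∧ i ≠ j := by
    by_contra hno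
    push Not at hno
    have hinj : Function.Injective χ := fun i j e => hno i j e
    have hzero : ∀ a b : Fin 3, y 0 a b = 0 := by
      intro a b
      have hd : ∀ a b : Fin 3, y 0 a b - 3 * y 1 a b + 3 * y 2 a b - y 3 a b = 0 := by
        intro a b
        simpa [y] using hdiff x a b
      have := four_chars χ hinj ![y 0 a b, -3 * y 1 a b, 3 * y 2 a b, -y 3 a b] fun g => by
        set gm := ((g : GL (Fin 3) F) : Matrix (Fin 3) (Fin 3) F)
        have hs : y 0 - (3 : F) • y 1 + (3 : F) • y 2 - y 3 = 0 := by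
          ext a b; simpa using hd a b
        have hr := congrArg (fun m => gm * m) hs
        simp only [Matrix.mul_add, Matrix.mul_sub, Matrix.mul_smul, Matrix.mul_zero, gm, hw] at hr
        have hr' : (w 0 g • y 0 - (3 * w 1 g) • y 1 + (3 * w 2 g) • y 2 - w 3 g • y 3) * gm = 0 := by
          simpa [gm, Matrix.add_mul, Matrix.sub_mul, Matrix.smul_mul, smul_smul] using hr
        have hu : IsUnit gm := (g : GL (Fin 3) F).isUnit
        have h0 := congrFun (congrFun ((hu.mul_left_eq_zero).mp hr') a) b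
        simp [Fin.sum_univ_four, χ] at h0 ⊢
        linear_combination h0
      simpa using this
    obtain ⟨g, hg, hne⟩ := hne
    exact hne (by
      rw [show x = y 0 by simp [y, hX0], show y 0 = 0 from Matrix.ext fun a b => hzero a b]; simp)
  -- the quotient is central, hence scalar
  obtain ⟨⟨A, hA, hA'⟩, -⟩ := hy (i : ℕ)
  obtain ⟨⟨B, hB, hB'⟩, -⟩ := hy (j : ℕ)
  have hz : ((B⁻¹ * A : GL (Fin 3) F) : Matrix (Fin 3) (Fin 3) F) ∈ h.zset := by
    refine ⟨B⁻¹ * A, P.mul_mem (P.inv_mem hB) hA, rfl, fun g hg => Units.ext ?_⟩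
    have e1 := hw (i : ℕ) ⟨g, hg⟩
    have e2 := hw (j : ℕ) ⟨g, hg⟩
    have e3 : w (i : ℕ) ⟨g, hg⟩ = w (j : ℕ) ⟨g, hg⟩ := DFunLike.congr_fun hij ⟨g, hg⟩
    rw [e3, ← hA'] at e1
    rw [← hB'] at e2
    have e5 := congrArg
      (fun m => ((B⁻¹ : GL (Fin 3) F) : Matrix (Fin 3) (Fin 3) F) * m * ((B⁻¹ : GL (Fin 3) F) : Matrix (Fin 3) (Fin 3) F))
      e2
    simp only [Matrix.mul_assoc, Matrix.mul_smul, Matrix.smul_mul] at e5
    rw [← Units.val_mul B B⁻¹, mul_inv_cancel, Units.val_one, Matrix.mul_one, ← Matrix.mul_assoc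
      ((B⁻¹ : GL (Fin 3) F) : Matrix (Fin 3) (Fin 3) F) (B : Matrix (Fin 3) (Fin 3) F), ← Units.val_mul B⁻¹ B,
      inv_mul_cancel, Units.val_one, Matrix.one_mul] at e5
    -- `e5 : B⁻¹ g = ω • g B⁻¹`
    simp only [Units.val_mul]
    rw [Matrix.mul_assoc, ← Matrix.mul_assoc (g : Matrix (Fin 3) (Fin 3) F)]
    calc ((B⁻¹ : GL (Fin 3) F) : Matrix (Fin 3) (Fin 3) F) * ((A : Matrix (Fin 3) (Fin 3) F) * g)
        = ((B⁻¹ : GL (Fin 3) F) : Matrix (Fin 3) (Fin 3) F) * g *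
            ((g⁻¹ : GL (Fin 3) F) * ((A : Matrix (Fin 3) (Fin 3) F) * g)) := by
          rw [Matrix.mul_assoc, ← Matrix.mul_assoc (g : Matrix (Fin 3) (Fin 3) F), ← Units.val_mul g g⁻¹,
            mul_inv_cancel, Units.val_one, Matrix.one_mul]
      _ = (g : Matrix (Fin 3) (Fin 3) F) * ((B⁻¹ : GL (Fin 3) F) : Matrix (Fin 3) (Fin 3) F) *
            (w (j : ℕ) ⟨g, hg⟩ • ((g⁻¹ : GL (Fin 3) F) * ((A : Matrix (Fin 3) (Fin 3) F) * g))) := by
          rw [e5, Matrix.smul_mul, Matrix.mul_smul]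
      _ = _ := by
          rw [← Matrix.mul_smul, ← e1, ← Matrix.mul_assoc _ (g : Matrix (Fin 3) (Fin 3) F), ← Units.val_mul g⁻¹ g,
            inv_mul_cancel, Units.val_one, Matrix.one_mul]
  obtain ⟨k, hk⟩ := hcen _ hz
  have hk' : y i = k • y j := by
    rw [← hA', ← hB', show A = B * (B⁻¹ * A) by group, Units.val_mul, hk, Matrix.mul_smul, Matrix.mul_one]
  have hk3 : k ^ 3 = 1 := pow_three_of_det (by rw [← hA']; exact h.det A hA) (by rw [← hB']; exact h.det B hB) hk'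
  -- `X s x = k x X s`
  set s := ((i : ℕ) : F) * t - ((j : ℕ) : F) * t with hs
  have hsx : X s * x = k • (x * X s) := by
    have := congrArg (fun m => X (-(((j : ℕ) : F) * t)) * m * X (((i : ℕ) : F) * t)) hk'
    simp only [y, Matrix.mul_smul, Matrix.smul_mul] at this
    simp only [← Matrix.mul_assoc, hmul] at this
    simp only [Matrix.mul_assoc, hmul] at this
    simpa [hs, hX0, sub_eq_add_neg, add_comm] using this
  obtain ⟨ℓ, hℓ, hℓ0⟩ := h.char
  haveI := Fact.mk hℓ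
  haveI : CharP F ℓ := (CharP.charP_iff_prime_eq_zero hℓ).mpr hℓ0
  have hℓ2 : ℓ ≠ 2 := fun e => h.two (by rw [e] at hℓ0; exact_mod_cast hℓ0)
  have hℓ3 : ℓ ≠ 3 := by
    intro e
    obtain ⟨g, hg, hne⟩ := hne
    apply hne
    obtain ⟨ω, hω⟩ := hx.2 g hg
    obtain ⟨⟨A', hA1, hA2⟩, -⟩ := hx
    have h3 : ω ^ 3 = 1 := pow_three_of_det (a := (g : Matrix (Fin 3) (Fin 3) F) * x)
      (b := x * (g : Matrix (Fin 3) (Fin 3) F)) (by rw [Matrix.det_mul, ← hA2, h.det g hg, h.det A' hA1, one_mul])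
      (by rw [Matrix.det_mul, ← hA2, h.det g hg, h.det A' hA1, one_mul]) hω
    have e3 : (3 : F) = 0 := by rw [e] at hℓ0; exact_mod_cast hℓ0
    have : (ω - 1) ^ 3 = 0 := by linear_combination h3 - (ω ^ 2 - ω) * e3
    rw [hω, sub_eq_zero.mp (pow_eq_zero_iff (by norm_num) |>.mp this), one_smul]
  have hkℓ : k ^ ℓ = 1 := by
    have hgen : ∀ n : ℕ, X ((n : F) * s) * x = k ^ n • (x * X ((n : F) * s)) := by
      intro n
      induction n with
      | zero => simp [hX0]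
      | succ n ih =>
        rw [show ((n + 1 : ℕ) : F) * s = (n : F) * s + s by push_cast; ring, ← hmul, Matrix.mul_assoc, hsx,
          Matrix.mul_smul, ← Matrix.mul_assoc, ih, Matrix.smul_mul, smul_smul, Matrix.mul_assoc, pow_succ']
    have hpow := hgen ℓ
    rw [hℓ0, zero_mul, hX0, Matrix.one_mul, Matrix.mul_one] at hpow
    have hx0 : x ≠ 0 := fun e => hnz 0 1 P.one_mem (by simp [y, e])
    exact (smul_left_injective F hx0 (show (1 : F) • x = k ^ ℓ • x by rw [one_smul]; exact hpow)).symm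
  have hk1 : k = 1 := by
    have hd1 : orderOf k ∣ 3 := orderOf_dvd_of_pow_eq_one hk3
    have hd2 : orderOf k ∣ ℓ := orderOf_dvd_of_pow_eq_one hkℓ
    have hcop : Nat.Coprime 3 ℓ := (Nat.coprime_primes Nat.prime_three hℓ).mpr (Ne.symm hℓ3)
    exact orderOf_eq_one_iff.mp (Nat.eq_one_of_dvd_coprimes hcop hd1 hd2)
  refine ⟨s, fun e => ?_, by rw [hsx, hk1, one_smul]⟩
  rw [hs, ← sub_mul, mul_eq_zero, or_iff_left ht, sub_eq_zero, CharP.natCast_eq_natCast F ℓ] at e
  have h5 : 4 ≤ ℓ := by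
    have := hℓ.two_le
    omega
  exact hne' (Fin.ext (Nat.ModEq.eq_of_lt_of_lt e (by omega) (by omega)))

/-- **`P` has scalar diagonal and lies in one of the radicals.** -/
theorem shape {g₀ : GL (Fin 3) F} (hg₀ : g₀ ∈ P)
    (hmv : dgT F * (g₀ : Matrix (Fin 3) (Fin 3) F) ≠ g₀ * dgT F) :
    (∀ g ∈ P, UpShape (g : Matrix (Fin 3) (Fin 3) F)) ∨ ∀ g ∈ P, LowShape (g : Matrix (Fin 3) (Fin 3) F) := by
  by_contra hno
  have hcen := h.center_scalar hg₀ hmv hno
  -- `P` is not commutative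
  have hscal : ∀ g ∈ P, (g : Matrix (Fin 3) (Fin 3) F) ∈ h.zset → ∀ m : Matrix (Fin 3) (Fin 3) F,
      (g : Matrix (Fin 3) (Fin 3) F) * m = m * g := by
    intro g _ hg m
    obtain ⟨k, hk⟩ := hcen _ hg
    rw [hk, Matrix.smul_mul, Matrix.mul_smul, Matrix.one_mul, Matrix.mul_one]
  haveI := h.nilp
  have hnc : (⟨g₀, hg₀⟩ : P) ∉ Subgroup.center P := fun hc => hmv (hscal g₀ hg₀ ⟨g₀, hg₀, rfl, fun x hx =>
    (congrArg Subtype.val (Subgroup.mem_center_iff.mp hc ⟨x, hx⟩)).symm⟩ _).symm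
  haveI : Nontrivial (P ⧸ Subgroup.center P) :=
    ⟨⟨QuotientGroup.mk ⟨g₀, hg₀⟩, 1, fun e => hnc ((QuotientGroup.eq_one_iff _).mp e)⟩⟩
  haveI : Nontrivial (Subgroup.center (P ⧸ Subgroup.center P)) :=
    (Subgroup.nontrivial_iff_ne_bot _).mpr (Group.IsNilpotent.center_ne_bot _)
  obtain ⟨⟨xq, hxq⟩, hxq1⟩ := exists_ne (1 : Subgroup.center (P ⧸ Subgroup.center P))
  obtain ⟨⟨x, hxP⟩, rfl⟩ := QuotientGroup.mk_surjective xq
  have hxz : (⟨x, hxP⟩ : P) ∉ Subgroup.center P := fun hc => hxq1 (Subtype.ext ((QuotientGroup.eq_one_iff _).mpr hc))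
  have hEig : h.Eigen (x : Matrix (Fin 3) (Fin 3) F) := by
    refine ⟨⟨x, hxP, rfl⟩, fun g hg => ?_⟩
    have hcomm := Subgroup.mem_center_iff.mp hxq (QuotientGroup.mk ⟨g, hg⟩)
    rw [← QuotientGroup.mk_mul, ← QuotientGroup.mk_mul, eq_comm, QuotientGroup.eq] at hcomm
    set c := (⟨x, hxP⟩ * ⟨g, hg⟩ : P)⁻¹ * (⟨g, hg⟩ * ⟨x, hxP⟩) with hc
    obtain ⟨k, hk⟩ := hcen _ ⟨(c : GL (Fin 3) F), c.2, rfl, fun y hy =>
      (congrArg Subtype.val (Subgroup.mem_center_iff.mp hcomm ⟨y, hy⟩)).symm⟩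
    refine ⟨k, ?_⟩
    have e : g * x = x * g * (c : GL (Fin 3) F) := by rw [hc]; simp only [Subgroup.coe_mul, Subgroup.coe_inv]; group
    rw [← Units.val_mul, e, Units.val_mul, hk, Matrix.mul_smul, Matrix.mul_one, Units.val_mul]
  have hne : ∃ g ∈ P, (g : Matrix (Fin 3) (Fin 3) F) * x ≠ (x : Matrix (Fin 3) (Fin 3) F) * g := by
    by_contra hall
    push Not at hall
    exact hxz (Subgroup.mem_center_iff.mpr fun g => Subtype.ext (Units.ext (hall g g.2)))
  obtain ⟨s, hs, hsx⟩ := h.root_comm hcen xUp xUp_mul xUp_zero h.tau h.iterate_u (fun y a b => by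
    simp only [mul_three]; fin_cases a <;> fin_cases b <;> simp [xUp] <;> ring) hEig hne
  obtain ⟨s', hs', hsx'⟩ := h.root_comm hcen xLo xLo_mul xLo_zero h.tau' h.iterate_l (fun y a b => by
    simp only [mul_three]; fin_cases a <;> fin_cases b <;> simp [xLo] <;> ring) hEig hne
  obtain ⟨x10, x20, x12, x00⟩ := entries_of_comm_xUp hs hsx
  obtain ⟨x01, x21, x02⟩ := entries_of_comm_xLo hs' hsx'
  obtain ⟨g, hg, hne⟩ := hne
  obtain ⟨ω, hω⟩ := hEig.2 g hg
  have hω1 : ω ≠ 1 := fun e => hne (by rw [hω, e, one_smul])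
  set X := (x : Matrix (Fin 3) (Fin 3) F)
  set M := (g : Matrix (Fin 3) (Fin 3) F)
  have ha : X 0 0 ≠ 0 := by
    intro e
    have : X.det = 1 := h.det x hxP
    rw [Matrix.det_fin_three] at this
    simp [x10, x20, x12, x01, x21, x02, e] at this
  have q := Matrix.ext_iff.mpr hω
  simp only [Matrix.smul_apply, smul_eq_mul, mul_two] at q
  have q00 := q 0 0; have q01 := q 0 1; have q10 := q 1 0; have q11 := q 1 1
  simp [x10, x20, x12, x01, x21, x02, ← x00] at q00 q01 q10 q11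
  have hz : ∀ {v : F}, v * X 0 0 = ω * (X 0 0 * v) → v = 0 := fun {v} e =>
    (mul_eq_zero.mp (show (1 - ω) * X 0 0 * v = 0 by linear_combination e)).resolve_left
      (mul_ne_zero (sub_ne_zero.mpr (Ne.symm hω1)) ha)
  have := h.det g hg
  rw [Matrix.det_fin_three] at this
  simp [M, hz q00, hz q01, hz q10, hz q11] at this

end Tgp

end CfsgLib.RankTwoModel
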