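import Cfsg.Agent.Lib.RankTwoModel.Assembly
import Cfsg.Agent.Lib.RankTwoModel.L4.MovedUse
import Cfsg.Agent.Lib.RankTwoModel.Below.OD
import Cfsg.Agent.Lib.RankTwoModel.Shape.Main
import Cfsg.Agent.Lib.RankTwoModel.FieldElem.NoField

/-!
The main theorem of the rank-two cascade from the last parcel, the moved character (`L4.MovedFalse`).
-/

set_option autoImplicit false

namespace CfsgLib.RankTwoModel

open Cfsg

universe u

theorem main_of_moved (hm : ∀ (G : Type u) [Group G] [Fintype G], L4.MovedFalse G) : Rows.Main.{u} :=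
  main_of (fun _ _ _ _ h hd hq hOD => absurd (hd.core_commute h hq) hOD)
    (fun G _ _ _ h hd hq hOD => haveI := Fintype.ofFinite G; h.core_invol_of_moved hd hq (hm G) hOD)
    no_field
    (fun _ _ _ _ R h hd hq hO hin => model_of_central h hd hq R hO hin)


end CfsgLib.RankTwoModel
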