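import Cfsg.Agent.Lib.RankTwoModel.NatWeights
import Cfsg.Agent.Lib.RankTwoModel.NatLinear
import Cfsg.Agent.Lib.RankTwoModel.Scalar

/-!
The natural module step: no abelian `p`-group inverted by `z`, minimal under `C`, carries a quadratic element of
`D` with `[O, D]` acting trivially, unless `[O, D] = 1`.

Blueprint: `blueprint/RankTwo_P3.md`, section 2.
-/

set_option autoImplicit false
set_option linter.unusedSectionVars false
set_option linter.style.haveILetI false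

namespace CfsgLib.RankTwoModel

open Cfsg CfsgLib.BG CfsgLib.BenderMax
open scoped MatrixGroups commutatorElement

universe u

variable {G : Type u} [Group G] [Finite G] {d : Frame G}

/-- An element of odd order inverted by an element of `C` lies in `L`. -/
theorem Frame.mem_L_of_inverted {v e : G} (hv : v ∈ d.C) (he : e ∈ d.C) (hodd : Odd (orderOf e))
    (hinv : v * e * v⁻¹ = e⁻¹) : e ∈ d.L := by
  obtain ⟨j, hj⟩ := hodd
  set s := e ^ (j + 1)
  have hss : s * s = e := by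
    rw [← pow_add, show j + 1 + (j + 1) = orderOf e + 1 by omega, pow_succ, pow_orderOf_eq_one, one_mul]
  have hvs : v * s * v⁻¹ = s⁻¹ := by rw [← conj_pow, hinv, inv_pow]
  have he' : (⟨e, he⟩ : ↥d.C) = ⁅(⟨s, pow_mem he _⟩ : ↥d.C), (⟨v, hv⟩ : ↥d.C)⁆ := Subtype.ext (by
    show e = s * v * s⁻¹ * v⁻¹
    rw [show s * v * s⁻¹ * v⁻¹ = s * (v * s * v⁻¹)⁻¹ by group, hvs, inv_inv, hss])
  refine Frame.mem_L.mpr ⟨he, ?_⟩
  rw [he', map_commutatorElement]
  exact Subgroup.commutator_mem_commutator (Subgroup.mem_top _) (Subgroup.mem_top _)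

theorem Rep.conj_sigma (Rp : Rep d) (P : Matrix.SpecialLinearGroup (Fin 2) d.F) (c : ↥d.C)
    (A : Matrix.SpecialLinearGroup (Fin 2) d.F) : (Rp.conj P).σ c A = P * Rp.σ c (P⁻¹ * A * P) * P⁻¹ := rfl

variable {p : ℕ} [hp : Fact p.Prime] {R : Subgroup G} (N : NatData d p R) (h : Hyp G) (hd : d.Spec) (hq : 3 < d.q)
  (hp2 : p ≠ 2)

include hp hp2 in
theorem odd_pow {x : G} {k : ℕ} (hx : x ^ p ^ k = 1) : Odd (orderOf x) :=
  ((hp.out.odd_of_ne_two hp2).pow).of_dvd_nat (orderOf_dvd_of_pow_eq_one hx)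

include h hd hq hp hp2 in
/-- A `p`-element of `C ∩ C(u)` in a `p`-subgroup normalised by `C ∩ C(u)` lies in `O`, `p` the field
characteristic. -/
theorem mem_O_of_local (hpl : p = d.p) {u y : G} (huC : u ∈ d.C) (hu : orderOf u = 2) (huz : u ≠ d.z)
    {W : Set G} (hW : ∀ w ∈ W, ∃ k : ℕ, w ^ p ^ k = 1)
    (hWn : ∀ n ∈ d.C, n * u = u * n → y * n * y⁻¹ * n⁻¹ ∈ W) (hyC : y ∈ d.C) (hyu : y * u = u * y)
    {k : ℕ} (hyk : y ^ p ^ k = 1) : y ∈ d.O := by
  haveI : Fact d.p.Prime := ⟨hd.prime⟩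
  haveI := hd.charP
  obtain ⟨Rp⟩ := hd.exists_rep
  have huu : u * u = 1 := by rw [← pow_two, ← hu, pow_orderOf_eq_one]
  obtain ⟨g, htr, -, hσ⟩ := Rp.invol hd hq h huC hu huz
  obtain ⟨b, hb, -, hbc⟩ := SL2.exists_torus hd.odd_card (hd.three_lt hq) htr
  have hfix : ∀ A ∈ Subgroup.centralizer ({b} : Set (Matrix.SpecialLinearGroup (Fin 2) d.F)),
      Rp.σ ⟨y, hyC⟩ A = A := by
    intro A hA
    have hσA : Rp.σ ⟨u, huC⟩ A = A := Subtype.ext (by
      rw [hσ, ← ((hbc A).mp hA).eq, Matrix.mul_assoc, ← Units.val_mul, mul_inv_cancel, Units.val_one, mul_one])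
    obtain ⟨n, hn, hnA, hnu⟩ := Rp.lift_fixed hd hq huC huu hσA
    set c := y * n * y⁻¹ * n⁻¹ with hc
    have hcL : c ∈ d.L := mul_mem (d.L_conj hyC hn) (inv_mem hn)
    have hcu : c * u = u * c :=
      ((((show Commute y u from hyu).mul_left hnu).mul_left (show Commute y u from hyu).inv_left).mul_left
        (show Commute n u from hnu).inv_left).eq
    set X := Rp.π ⟨c, hcL⟩
    have hX : X = Rp.σ ⟨y, hyC⟩ A * A⁻¹ := by
      rw [← hnA, Rp.compat, ← map_inv, ← map_mul]; rfl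
    have hXu : Rp.σ ⟨u, huC⟩ X = X := by
      rw [Rp.compat]
      exact congrArg Rp.π (Subtype.ext (by
        show u * c * u⁻¹ = c
        rw [← hcu, mul_inv_cancel_right]))
    have hXg : Commute X.1 g.1 := by
      have e := congrArg Subtype.val hXu
      rw [hσ] at e
      show X.1 * g.1 = g.1 * X.1
      conv_lhs => rw [← e]
      rw [Matrix.mul_assoc, ← Units.val_mul, inv_mul_cancel, Units.val_one, mul_one]
    obtain ⟨i, hi⟩ := hW c (hWn n (d.L_le hn) hnu)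
    have h1 : orderOf X ∣ p ^ i := orderOf_dvd_of_pow_eq_one (by
      rw [← map_pow, show (⟨c, hcL⟩ : ↥d.L) ^ p ^ i = 1 from Subtype.ext hi, map_one])
    have h2 := Subgroup.orderOf_dvd_natCard _ ((hbc X).mpr hXg)
    have hcop : (p ^ i).Coprime (Nat.card (Subgroup.centralizer ({b} : Set (Matrix.SpecialLinearGroup (Fin 2) d.F)))) := by
      refine Nat.Coprime.pow_left i (hp.out.coprime_iff_not_dvd.mpr fun hd' => ?_)
      rw [hpl] at hd'
      exact SL2Tori.not_dvd_char (F := d.F) d.p d.p hd.prime (by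
        rcases (SL2Tori.isCyclic_centralizer hb).2 with e | e <;> rw [e] at hd' <;> simp [hd']) rfl
    exact mul_inv_eq_one.mp (hX.symm.trans (orderOf_eq_one_iff.mp (Nat.eq_one_of_dvd_coprimes hcop h1 h2)))
  have hσ1 := SL2.eq_one_of_fix_torus d.p hd.odd_card (hd.three_lt hq) (k := k) (φ := Rp.σ ⟨y, hyC⟩) (by
    rw [← map_pow, show (⟨y, hyC⟩ : ↥d.C) ^ d.p ^ k = 1 from Subtype.ext (hpl ▸ hyk), map_one]) hb hfix
  exact Rp.sigma_eq_one hd hq h hyC (odd_pow hp2 hyk) hσ1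

include N h hd hq hp hp2 in
/-- **The natural module step.** -/
theorem NatData.elim (hOD : ¬ ∀ x ∈ d.O, ∀ y ∈ d.D, x * y = y * x) : False := by
  classical
  haveI : Fact d.p.Prime := ⟨hd.prime⟩
  haveI := hd.charP
  haveI : Fintype G := Fintype.ofFinite G
  obtain ⟨u, huC, hu, huz, g, hgu, e, heR, heu, heO⟩ := N.exists_outside h hd hq hp2
  -- the conjugate configuration
  obtain ⟨v, hvdef⟩ : ∃ v, v = g * d.z * g⁻¹ := ⟨_, rfl⟩
  obtain ⟨e1, he1def⟩ : ∃ e1, e1 = g * e * g⁻¹ := ⟨_, rfl⟩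
  have huu : u * u = 1 := by rw [← pow_two, ← hu, pow_orderOf_eq_one]
  have hv : orderOf v = 2 := by rw [hvdef, orderOf_cj, hd.zord]
  have hvv : v * v = 1 := by rw [← pow_two, ← hv, pow_orderOf_eq_one]
  have hzz : d.z * d.z = 1 := by rw [← pow_two, ← hd.zord, pow_orderOf_eq_one]
  have hvC : v ∈ d.C := Subgroup.mem_centralizer_singleton_iff.mpr (by
    have := ((Commute.conj_iff g).2 (show Commute d.z u from (Frame.Spec.z_central huC).symm)).eq
    rwa [hgu, ← hvdef] at this)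
  have hvz : v ≠ d.z := fun e' => huz (by
    rw [hvdef] at e'; exact (mul_left_cancel (mul_right_cancel (e'.trans hgu.symm))).symm)
  have he1C : e1 ∈ d.C := Subgroup.mem_centralizer_singleton_iff.mpr (by
    rw [he1def, ← hgu]
    exact ((Commute.conj_iff g).2 (show Commute e u from heu)).eq)
  have hinv : v * e1 * v⁻¹ = e1⁻¹ := by
    rw [hvdef, he1def, show g * d.z * g⁻¹ * (g * e * g⁻¹) * (g * d.z * g⁻¹)⁻¹ = g * (d.z * e * d.z⁻¹) * g⁻¹ by group,
      N.inv e heR]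
    group
  obtain ⟨i₀, hi₀⟩ := N.pR ⟨e, heR⟩
  have he1p : e1 ^ p ^ i₀ = 1 := by
    rw [he1def, conj_pow, show e ^ p ^ i₀ = 1 from congrArg Subtype.val hi₀, mul_one, mul_inv_cancel]
  have he1L : e1 ∈ d.L := d.mem_L_of_inverted hvC he1C (odd_pow hp2 he1p) hinv
  -- `C ∩ C(v)` normalises `gRg⁻¹`
  have hgC : ∀ c ∈ d.C, c * v = v * c → g⁻¹ * c * g ∈ d.C ∧ (g⁻¹ * c * g) * u = u * (g⁻¹ * c * g) := by
    intro c hc hcv
    have h1 : Commute c v := hcv
    have h2 : Commute c d.z := Frame.Spec.z_central hc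
    refine ⟨Subgroup.mem_centralizer_singleton_iff.mpr ?_, ?_⟩
    · have := (Commute.conj_iff g⁻¹).2 h1
      rw [hvdef, inv_inv, show g⁻¹ * (g * d.z * g⁻¹) * g = d.z by group] at this
      exact this.eq
    · have := (Commute.conj_iff g⁻¹).2 h2
      rw [← hgu, inv_inv, show g⁻¹ * (g * u * g⁻¹) * g = u by group] at this
      exact this.eq
  have hR1 : ∀ c ∈ d.C, c * v = v * c → ∃ r ∈ R, c * e1 * c⁻¹ = g * r * g⁻¹ := fun c hc hcv => by
    refine ⟨(g⁻¹ * c * g) * e * (g⁻¹ * c * g)⁻¹,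
      (Subgroup.mem_normalizer_iff.mp (N.norm (hgC c hc hcv).1) e).mp heR, ?_⟩
    rw [he1def]; group
  have hR1c : ∀ c ∈ d.C, c * v = v * c → Commute (c * e1 * c⁻¹) e1 := fun c hc hcv => by
    obtain ⟨r, hr, er⟩ := hR1 c hc hcv
    rw [er, he1def]
    exact (Commute.conj_iff g).2 (N.comm r hr e heR)
  obtain ⟨Rp⟩ := hd.exists_rep
  set ε := Rp.π ⟨e1, he1L⟩ with hε
  have hε1 : ε ≠ 1 := fun e' => heO (he1def ▸ (Rp.ker _).mp e')
  have hεp : ε ^ p ^ i₀ = 1 := by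
    rw [← map_pow, show (⟨e1, he1L⟩ : ↥d.L) ^ p ^ i₀ = 1 from Subtype.ext he1p, map_one]
  have hσε : Rp.σ ⟨v, hvC⟩ ε = ε⁻¹ := by
    rw [hε, Rp.compat, ← map_inv]
    exact congrArg Rp.π (Subtype.ext hinv)
  have hεne : ε⁻¹ ≠ ε := fun e' => hε1 (orderOf_eq_one_iff.mp (Nat.eq_one_of_dvd_coprimes
    (Nat.coprime_two_right.mpr (hp.out.odd_of_ne_two hp2).pow) (orderOf_dvd_of_pow_eq_one hεp)
    (orderOf_dvd_of_pow_eq_one (by rw [pow_two]; exact inv_eq_iff_mul_eq_one.mp e'))))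
  obtain ⟨gv, htr, -, hσv⟩ := Rp.invol hd hq h hvC hv hvz
  by_cases hpl : p ≠ d.p
  · -- other characteristic
    have htε := SL2Tori.trace_ne_of_odd d.p hp.out hp2 hpl hεp hε1
    obtain ⟨b, hb, -, hbc⟩ := SL2.exists_torus hd.odd_card (hd.three_lt hq) htr
    have hlift : ∀ A ∈ Subgroup.centralizer ({b} : Set (Matrix.SpecialLinearGroup (Fin 2) d.F)),
        Rp.σ ⟨v, hvC⟩ A = A := fun A hA => Subtype.ext (by
      rw [hσv, ← ((hbc A).mp hA).eq, Matrix.mul_assoc, ← Units.val_mul, mul_inv_cancel, Units.val_one, mul_one])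
    have hbe : ¬ Commute b ε := fun hc => hεne (by
      have := hlift ε (SL2Tori.mem_centralizer.mpr hc.symm)
      rwa [hσε] at this)
    have hexp : ∀ A ∈ Subgroup.centralizer ({b} : Set (Matrix.SpecialLinearGroup (Fin 2) d.F)),
        A * A = 1 ∨ A * A = -1 := by
      intro A hA
      obtain ⟨y, hy, hyA, hyv⟩ := Rp.lift_fixed hd hq hvC hvv (hlift A hA)
      have hc := hR1c y (d.L_le hy) hyv
      have hc' : Commute (A * ε * A⁻¹) ε := by
        have := (show Commute (⟨y, hy⟩ * ⟨e1, he1L⟩ * ⟨y, hy⟩⁻¹ : ↥d.L) ⟨e1, he1L⟩ from Subtype.ext hc.eq).map Rp.π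
        rwa [map_mul, map_mul, map_inv, hyA] at this
      have h2 := SL2Orders.two_ne_zero_of_odd hd.odd_card
      have hAA : Commute (A * A) ε := by
        rcases SL2Tori.conj_mem_cases h2 htε (SL2Tori.mem_centralizer.mpr hc') with e' | e'
        · have : Commute A ε := mul_inv_eq_iff_eq_mul.mp e'
          exact this.mul_left this
        · refine mul_inv_eq_iff_eq_mul.mp (?_ : A * A * ε * (A * A)⁻¹ = ε)
          calc A * A * ε * (A * A)⁻¹ = A * (A * ε * A⁻¹) * A⁻¹ := by group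
            _ = (A * ε * A⁻¹)⁻¹ := by
              conv_lhs => rw [e']
              group
            _ = ε := by rw [e', inv_inv]
      exact SL2Orders.eq_one_or_neg_one_of_sq h2 _ (SL2.sq_one_of_two (SL2Centralizer.not_scalar_of_trace hb)
        ((SL2Tori.mem_centralizer.mp hA).mul_left (SL2Tori.mem_centralizer.mp hA)) hAA hbe)
    obtain ⟨hq5, A, hA, hAA⟩ := SL2.small_torus hd.odd_card (hd.three_lt hq) hb hexp
    obtain ⟨x, hx, hxA, hxv⟩ := Rp.lift_fixed hd hq hvC hvv (hlift A hA)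
    obtain ⟨k, hk1, hk2, hk3⟩ := h.three hd.zord hv (Frame.Spec.z_central hvC).symm hvz
    have hxz : Commute x d.z := Frame.Spec.z_central (d.L_le hx)
    have hxv' : Commute x v := hxv
    set t := k * x * k⁻¹
    have htC : t ∈ d.C := by
      refine Subgroup.mem_centralizer_singleton_iff.mpr ?_
      have := (Commute.conj_iff k).2 (hxz.mul_right hxv')
      rw [hk3] at this
      exact this.eq
    have htv : Commute t v := by
      have := (Commute.conj_iff k).2 hxz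
      rwa [hk1] at this
    set o := k * (x * x * d.z⁻¹) * k⁻¹ with ho
    have hwO : x * x * d.z⁻¹ ∈ d.O :=
      (Rp.ker ⟨_, mul_mem (mul_mem hx hx) (inv_mem hd.z_mem_L)⟩).mp (by
        show Rp.π (⟨x, hx⟩ * ⟨x, hx⟩ * ⟨d.z, hd.z_mem_L⟩⁻¹) = 1
        rw [map_mul, map_mul, map_inv, hxA, Rp.pi_z hd, hAA, mul_inv_cancel])
    have ho' : o = t * t * v⁻¹ := by rw [ho, ← hk1]; simp only [t]; group
    have hoC : o ∈ d.C := ho' ▸ mul_mem (mul_mem htC htC) (inv_mem hvC)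
    obtain ⟨j, hj⟩ : Odd (orderOf o) := by
      rw [ho, orderOf_cj]; exact d.O_odd.of_dvd_nat (Subgroup.orderOf_dvd_natCard _ hwO)
    have hσt : Rp.σ ⟨t, htC⟩ ε = ε ∨ Rp.σ ⟨t, htC⟩ ε = ε⁻¹ := by
      rw [hε, Rp.compat, ← hε]
      have hc := hR1c t htC htv.eq
      have hq5' : Fintype.card d.F = 5 := hq5
      refine (SL2.torus_five hq5' hp.out hp2 htε hεp hε1 (f := Rp.π ⟨t * e1 * t⁻¹, d.L_conj htC he1L⟩)
        (j := i₀) ?_ ?_).resolve_left fun e' => hε1 ?_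
      · exact (show Commute (⟨t * e1 * t⁻¹, d.L_conj htC he1L⟩ : ↥d.L) ⟨e1, he1L⟩ from Subtype.ext hc.eq).map Rp.π
      · rw [← map_pow, show (⟨t * e1 * t⁻¹, d.L_conj htC he1L⟩ : ↥d.L) ^ p ^ i₀ = 1 from Subtype.ext (by
          show (t * e1 * t⁻¹) ^ p ^ i₀ = 1
          rw [conj_pow, he1p, mul_one, mul_inv_cancel]), map_one]
      · refine (Rp.σ ⟨t, htC⟩).injective ?_
        rw [map_one, hε, Rp.compat]
        exact e'
    have hσtt : Rp.σ ⟨t, htC⟩ (Rp.σ ⟨t, htC⟩ ε⁻¹) = ε⁻¹ := by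
      rcases hσt with e' | e'
      · rw [map_inv, map_inv, e', e']
      · rw [map_inv, e', inv_inv, e']
    have hσo : Rp.σ ⟨o, hoC⟩ ε = ε⁻¹ := by
      have : (⟨o, hoC⟩ : ↥d.C) = ⟨t, htC⟩ * ⟨t, htC⟩ * ⟨v, hvC⟩ := Subtype.ext (by
        show o = t * t * v
        rw [ho', inv_eq_of_mul_eq_one_right hvv])
      rw [this, map_mul, map_mul, MulAut.mul_apply, MulAut.mul_apply, hσε]
      exact hσtt
    have hpow : ∀ n : ℕ, (Rp.σ ⟨o, hoC⟩ ^ (2 * n)) ε = ε := fun n => by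
      induction n with
      | zero => rfl
      | succ n ih =>
        rw [show 2 * (n + 1) = 2 * n + (1 + 1) by ring, pow_add, MulAut.mul_apply, pow_add, pow_one, MulAut.mul_apply,
          hσo, map_inv, hσo, inv_inv, ih]
    have h1 : (Rp.σ ⟨o, hoC⟩ ^ (2 * j + 1)) ε = ε := by
      rw [← map_pow, show (⟨o, hoC⟩ : ↥d.C) ^ (2 * j + 1) = 1 from Subtype.ext (by
        show o ^ (2 * j + 1) = 1
        rw [← hj, pow_orderOf_eq_one]), map_one]
      rfl
    rw [pow_succ, MulAut.mul_apply, hσo, map_inv, hpow] at h1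
    exact hεne h1
  -- the characteristic of the field
  rw [not_not] at hpl
  obtain ⟨r, hr, hr2, x₀, hx₀, y₀, hy₀, hmoved⟩ := hd.exists_prime h hq hOD
  haveI : Fact r.Prime := ⟨hr⟩
  have hP : IsPGroup r (OO r d.C) := OO_isPGroup r d.C
  have hPC : OO r d.C ≤ d.C := OO_le
  -- `e1` centralises the fixed points of `v`
  have he1W : ∀ w ∈ OO r d.C, w * v = v * w → Commute e1 w := by
    intro w hw hwv
    have hwC := hPC hw
    set c := e1 * w * e1⁻¹ * w⁻¹ with hc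
    have hcP : c ∈ OO r d.C := mul_mem (conj_OO he1C hw) (inv_mem hw)
    obtain ⟨r', hr', er'⟩ := hR1 w hwC hwv
    have hcR : c = g * (e * r'⁻¹) * g⁻¹ := by
      rw [hc, show e1 * w * e1⁻¹ * w⁻¹ = e1 * (w * e1 * w⁻¹)⁻¹ by group, er', he1def]
      group
    by_cases hrp : r = p
    · subst hrp
      set y := g⁻¹ * w * g
      obtain ⟨hyC, hyu⟩ := hgC w hwC hwv
      obtain ⟨k, hk⟩ := hP ⟨w, hw⟩
      have hyk : y ^ r ^ k = 1 := by
        show (g⁻¹ * w * g) ^ r ^ k = 1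
        rw [show g⁻¹ * w * g = g⁻¹ * w * g⁻¹⁻¹ by rw [inv_inv], conj_pow,
          show w ^ r ^ k = 1 from congrArg Subtype.val hk, mul_one, mul_inv_cancel]
      have hyO : y ∈ d.O := mem_O_of_local h hd hq hp2 hpl huC hu huz
        (W := {a | ∃ b ∈ OO r d.C, a = g⁻¹ * b * g})
        (fun a ⟨b, hb, ea⟩ => by
          obtain ⟨i, hi⟩ := hP ⟨b, hb⟩
          exact ⟨i, by rw [ea, show g⁻¹ * b * g = g⁻¹ * b * g⁻¹⁻¹ by rw [inv_inv], conj_pow,
            show b ^ r ^ i = 1 from congrArg Subtype.val hi, mul_one, mul_inv_cancel]⟩)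
        (fun n hn hnu => by
          have hgn : g * n * g⁻¹ ∈ d.C := Subgroup.mem_centralizer_singleton_iff.mpr (by
            rw [← hgu]; exact ((Commute.conj_iff g).2 (show Commute n u from hnu)).eq)
          exact ⟨w * ((g * n * g⁻¹) * w⁻¹ * (g * n * g⁻¹)⁻¹), mul_mem hw (conj_OO hgn (inv_mem hw)), by
            simp only [y]; group⟩)
        hyC hyu hyk
      have := (Commute.conj_iff g).2 (N.centralizes_of_core h hd hq hp2 hpl hyO hyk heR)
      rw [show g * y * g⁻¹ = w by simp only [y]; group, ← he1def] at this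
      exact this.symm
    · have hcp : ∃ i : ℕ, c ^ p ^ i = 1 := by
        obtain ⟨i, hi⟩ := N.pR ⟨e * r'⁻¹, mul_mem heR (inv_mem hr')⟩
        exact ⟨i, by rw [hcR, conj_pow, show (e * r'⁻¹) ^ p ^ i = 1 from congrArg Subtype.val hi, mul_one,
          mul_inv_cancel]⟩
      obtain ⟨i, hi⟩ := hcp
      obtain ⟨i', hi'⟩ := hP ⟨c, hcP⟩
      have h1 : c = 1 := orderOf_eq_one_iff.mp (Nat.eq_one_of_dvd_coprimes
        (((Nat.coprime_primes hp.out hr).mpr (Ne.symm hrp)).pow i i') (orderOf_dvd_of_pow_eq_one hi)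
        (orderOf_dvd_of_pow_eq_one (congrArg Subtype.val hi')))
      exact mul_inv_eq_iff_eq_mul.mp (mul_inv_eq_one.mp (hc ▸ h1))
  -- the subgroup centralising the fixed points
  set Ks : Subgroup G := d.L ⊓ Subgroup.centralizer {w | w ∈ OO r d.C ∧ w * v = v * w} with hKs
  have he1K : e1 ∈ Ks := ⟨he1L, Subgroup.mem_centralizer_iff.mpr fun w hw => (he1W w hw.1 hw.2).eq.symm⟩
  have hKn : ∀ n ∈ d.C, (n * v * n⁻¹ = v ∨ n * v * n⁻¹ = d.z * v) → ∀ a ∈ Ks, n * a * n⁻¹ ∈ Ks := by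
    intro n hn hnv a ha
    refine ⟨d.L_conj hn ha.1, Subgroup.mem_centralizer_iff.mpr fun w hw => ?_⟩
    have hw' : n⁻¹ * w * n ∈ OO r d.C := by simpa using conj_OO (inv_mem hn) hw.1
    have hwz : Commute w d.z := Frame.Spec.z_central (hPC hw.1)
    have hwnv : Commute w (n * v * n⁻¹) := by
      rcases hnv with e' | e' <;> rw [e']
      · exact hw.2
      · exact hwz.mul_right hw.2
    have hwv' : (n⁻¹ * w * n) * v = v * (n⁻¹ * w * n) := by
      have := (Commute.conj_iff n⁻¹).2 hwnv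
      rw [inv_inv, show n⁻¹ * (n * v * n⁻¹) * n = v by group] at this
      exact this.eq
    have h1 : Commute (n⁻¹ * w * n) a := Subgroup.mem_centralizer_iff.mp ha.2 _ ⟨hw', hwv'⟩
    have := (Commute.conj_iff n).2 h1
    rw [show n * (n⁻¹ * w * n) * n⁻¹ = w by group] at this
    exact this.eq
  -- coordinates
  have h2 := SL2Orders.two_ne_zero_of_odd hd.odd_card
  obtain ⟨P, b, hb, hPε, hPv⟩ := SL2.exists_coord d.p h2 htr hσv (C := ε) (k := i₀) (hpl ▸ hεp) hε1 hσε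
  set R' := Rp.conj P with hR'
  have hσ' : ∀ A : Matrix.SpecialLinearGroup (Fin 2) d.F,
      (R'.σ ⟨v, hvC⟩ A).1 = !![A.1 0 0, -A.1 0 1; -A.1 1 0, A.1 1 1] := fun A => by
    rw [hR', Rp.conj_sigma]; exact hPv A
  have hπe : R'.π ⟨e1, he1L⟩ = PSL2.uSL b := hPε
  set K := (Ks.subgroupOf d.L).map R'.π with hK
  have hlift : ∀ A : Matrix.SpecialLinearGroup (Fin 2) d.F,
      (∃ (n : G) (hn : n ∈ d.L), R'.π ⟨n, hn⟩ = A ∧ (n * v * n⁻¹ = v ∨ n * v * n⁻¹ = d.z * v)) →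
        ∀ B ∈ K, A * B * A⁻¹ ∈ K := by
    rintro A ⟨n, hn, hnA, hnv⟩ _ ⟨a, ha, rfl⟩
    refine ⟨⟨n, hn⟩ * a * ⟨n, hn⟩⁻¹, ?_, by rw [map_mul, map_mul, map_inv, hnA]⟩
    exact hKn n (d.L_le hn) hnv _ (Subgroup.mem_subgroupOf.mp ha)
  obtain ⟨W, hW⟩ : ∃ W : Matrix.SpecialLinearGroup (Fin 2) d.F, W.1 = !![0, 1; -1, 0] :=
    ⟨⟨_, by simp [Matrix.det_fin_two_of]⟩, rfl⟩
  have hKtop : K = ⊤ := by
    refine SL2.gen_up h2 K hb ⟨⟨e1, he1L⟩, he1K, hπe⟩ (fun a => hlift _ ?_) hW (hlift _ ?_)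
    · obtain ⟨n, hn, hnA, hnv⟩ := R'.lift_fixed hd hq hvC hvv (A := SL2Tori.diagHom a) (Subtype.ext (by
        rw [hσ']
        ext i j
        fin_cases i <;> fin_cases j <;> simp [SL2Tori.diagHom]))
      exact ⟨n, hn, hnA, Or.inl (mul_inv_eq_iff_eq_mul.mpr hnv)⟩
    · obtain ⟨⟨x, hxL⟩, hx⟩ := R'.surj W
      have hσW : R'.σ ⟨v, hvC⟩ W = -W := Subtype.ext (by
        rw [hσ', show (-W).1 = -W.1 from rfl, hW]
        ext i j
        fin_cases i <;> fin_cases j <;> simp)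
      rw [← hx, R'.compat, hx] at hσW
      set o := v * x * v⁻¹ * x⁻¹ * d.z⁻¹ with ho
      have hoO : o ∈ d.O := (R'.ker ⟨_, mul_mem (mul_mem (d.L_conj hvC hxL) (inv_mem hxL)) (inv_mem hd.z_mem_L)⟩).mp (by
        show R'.π (⟨v * x * v⁻¹, d.L_conj hvC hxL⟩ * ⟨x, hxL⟩⁻¹ * ⟨d.z, hd.z_mem_L⟩⁻¹) = 1
        rw [map_mul, map_mul, map_inv, map_inv, hσW, hx, R'.pi_z hd, neg_mul, mul_inv_cancel, mul_inv_cancel])
      have hzv : Commute d.z v := (Frame.Spec.z_central hvC).symm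
      have hxz : Commute x d.z := Frame.Spec.z_central (d.L_le hxL)
      have hoz : Commute o d.z := Frame.Spec.z_central (d.O_le hoO)
      have hxv : x * v * x⁻¹ = d.z * v * o := by
        have e1 : v * x * v⁻¹ = o * d.z * x := by rw [ho]; group
        have hvi : v⁻¹ = v := inv_eq_of_mul_eq_one_right hvv
        have e2 : x * v⁻¹ * x⁻¹ = v⁻¹ * o * d.z := by
          calc x * v⁻¹ * x⁻¹ = v⁻¹ * (v * x * v⁻¹) * x⁻¹ := by group
            _ = _ := by rw [e1]; group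
        rw [hvi] at e2
        rw [e2, mul_assoc, hoz.eq, ← mul_assoc, hzv.eq]
      have hzv2 : d.z * v * (d.z * v) = 1 := by
        rw [hzv.symm.mul_mul_mul_comm, hzz, hvv, one_mul]
      obtain ⟨b', hb', c, hc, hcz, he⟩ := RankTwo.coset_conj d.O d.O_odd hzv2
        (fun a ha => Frame.Spec.O_conj (mul_mem Frame.Spec.z_mem_C hvC) ha) hoO
      have hc1 : c = 1 := by
        have h1 : (d.z * v * c) * (d.z * v * c) = 1 := by
          rw [← he, ← hxv, show b' * (x * v * x⁻¹) * b'⁻¹ * (b' * (x * v * x⁻¹) * b'⁻¹) =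
            b' * (x * (v * v) * x⁻¹) * b'⁻¹ by group, hvv]
          group
        rw [(show Commute c (d.z * v) from hcz).mul_mul_mul_comm, hzv2, one_mul, ← pow_two] at h1
        exact orderOf_eq_one_iff.mp (Nat.eq_one_of_dvd_coprimes (Nat.coprime_two_left.mpr d.O_odd)
          (orderOf_dvd_of_pow_eq_one h1) (Subgroup.orderOf_dvd_natCard _ hc))
      refine ⟨b' * x, mul_mem (d.O_le_L hb') hxL, ?_, Or.inr ?_⟩
      · rw [show (⟨b' * x, mul_mem (d.O_le_L hb') hxL⟩ : ↥d.L) = ⟨b', d.O_le_L hb'⟩ * ⟨x, hxL⟩ from rfl, map_mul,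
          (R'.ker _).mpr hb', one_mul, hx]
      · rw [show b' * x * v * (b' * x)⁻¹ = b' * (x * v * x⁻¹) * b'⁻¹ by group, hxv, he, hc1, mul_one]
  -- its perfect part
  haveI : Group.IsPerfect (Matrix.SpecialLinearGroup (Fin 2) d.F) := ⟨CfsgLib.StSL.perfect_SL2 (hd.three_lt hq)⟩
  set m := (CfsgLib.GW.exists_perfect_derived ↥Ks).choose
  have hperf : Group.IsPerfect (derivedSeries ↥Ks m) := (CfsgLib.GW.exists_perfect_derived ↥Ks).choose_spec
  set E := (derivedSeries ↥Ks m).map Ks.subtype with hE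
  haveI : Group.IsPerfect E := by
    haveI := hperf
    exact Group.IsPerfect.ofSurjective (f := Ks.subtype.subgroupMap (derivedSeries ↥Ks m))
      (MonoidHom.subgroupMap_surjective _ _)
  have hEK : E ≤ Ks := Subgroup.map_subtype_le _
  have hEC : E ≤ d.C := fun a ha => d.L_le (hEK ha).1
  have hED : E ≤ d.D := d.le_D hEC
  let f : ↥Ks →* Matrix.SpecialLinearGroup (Fin 2) d.F := R'.π.comp (Subgroup.inclusion inf_le_left)
  have hf : Function.Surjective f := fun A => by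
    obtain ⟨a, ha, e'⟩ := hKtop.ge (Subgroup.mem_top A)
    exact ⟨⟨a, Subgroup.mem_subgroupOf.mp ha⟩, e'⟩
  have hcov : ∀ x ∈ d.D, ∃ o ∈ d.O, x * o ∈ E := by
    intro x hx
    have hxL := hd.D_le_L hq hx
    have htop : derivedSeries (Matrix.SpecialLinearGroup (Fin 2) d.F) m = ⊤ :=
      top_le_iff.mp (CfsgLib.GW.perfect_le_derived ⊤ m)
    obtain ⟨a, ha, e'⟩ : R'.π ⟨x, hxL⟩ ∈ (derivedSeries ↥Ks m).map f := by
      rw [map_derivedSeries_eq hf, htop]; exact Subgroup.mem_top _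
    refine ⟨x⁻¹ * a, ?_, by rw [mul_inv_cancel_left]; exact ⟨a, ha, rfl⟩⟩
    refine (R'.ker (⟨x, hxL⟩⁻¹ * Subgroup.inclusion inf_le_left a)).mp ?_
    rw [map_mul, map_inv, ← e']
    exact inv_mul_cancel _
  have hvn : v ∈ d.C ∧ ∀ a ∈ Ks, v * a * v⁻¹ ∈ Ks := ⟨hvC, hKn v hvC (Or.inl (mul_inv_cancel_right v v))⟩
  have hvE : ∀ a ∈ E, v * a * v⁻¹ ∈ E := by
    rintro _ ⟨a, ha, rfl⟩
    let cv : ↥Ks →* ↥Ks := ((MulAut.conj v).toMonoidHom.comp Ks.subtype).codRestrict Ks fun a => hvn.2 a a.2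
    exact ⟨cv a, map_derivedSeries_le_derivedSeries cv m ⟨a, ha, rfl⟩, rfl⟩
  have hPo : Odd (Nat.card (OO r d.C)) := by
    obtain ⟨n, hn⟩ := IsPGroup.iff_card.mp hP
    rw [hn]; exact (hr.odd_of_ne_two hr2).pow
  have hCP : d.C ≤ Subgroup.normalizer (OO r d.C : Set G) := fun a ha =>
    Subgroup.mem_normalizer_fintype fun w hw => conj_OO ha hw
  have hcent := hd.scalar_trivial h hq hED hcov hv hvC hvz hvE hPo (hEC.trans hCP) (hCP hvC)
    fun w hw hwv a ha => (Subgroup.mem_centralizer_iff.mp (hEK ha).2 w ⟨hw, hwv.symm⟩).symm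
  -- a perfect group acting through an odd group
  let ψ : ↥d.C →* MulAut ↥(OO r d.C) := (OO r d.C).normalizerMonoidHom.comp (Subgroup.inclusion hCP)
  let ψD := ψ.comp (Subgroup.inclusion d.D_le)
  have hle : ψD.range ≤ (ψ.comp (Subgroup.inclusion d.O_le)).range := by
    rintro _ ⟨⟨x, hx⟩, rfl⟩
    obtain ⟨o, ho, hxo⟩ := hcov x hx
    refine ⟨⟨o⁻¹, inv_mem ho⟩, MulEquiv.ext fun w => Subtype.ext ?_⟩
    show o⁻¹ * (w : G) * o⁻¹⁻¹ = x * (w : G) * x⁻¹
    have hh := hcent _ hxo w w.2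
    rw [inv_inv]
    calc o⁻¹ * (w : G) * o = o⁻¹ * ((w : G) * (x * o)) * (x * o)⁻¹ * o := by group
      _ = o⁻¹ * (x * o * w) * (x * o)⁻¹ * o := by rw [hh]
      _ = _ := ?_
    have hh' : Commute (x * o) (x * (w : G) * x⁻¹) := hcent _ hxo _ (conj_OO (d.D_le hx) w.2)
    calc o⁻¹ * (x * o * w) * (x * o)⁻¹ * o = o⁻¹ * ((x * o) * w * (x * o)⁻¹) * o := by group
      _ = o⁻¹ * (w : G) * o := by rw [hh, mul_inv_cancel_right]
      _ = (x * o)⁻¹ * (x * (w : G) * x⁻¹) * (x * o) := by group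
      _ = _ := by rw [mul_assoc, ← hh'.eq, inv_mul_cancel_left]
  haveI := d.D_perfect
  haveI : Group.IsPerfect ψD.range := Group.IsPerfect.ofSurjective (f := ψD.rangeRestrict) ψD.rangeRestrict_surjective
  haveI : Finite (MulAut ↥(OO r d.C)) :=
    Finite.of_injective (fun e : MulAut ↥(OO r d.C) => (e : ↥(OO r d.C) → ↥(OO r d.C))) DFunLike.coe_injective
  haveI := CfsgLib.GW.subsingleton_of_odd (X := ψD.range) (d.O_odd.of_dvd_nat
    ((Subgroup.card_dvd_of_le hle).trans (Subgroup.card_range_dvd _)))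
  have h1 := congrArg (fun a : ψD.range => ((a : MulAut ↥(OO r d.C)) ⟨x₀, hx₀⟩ : ↥(OO r d.C)).1)
    (Subsingleton.elim (⟨ψD ⟨y₀, hy₀⟩, ⟨_, rfl⟩⟩ : ψD.range) 1)
  exact hmoved (mul_inv_eq_iff_eq_mul.mp (h1 : y₀ * x₀ * y₀⁻¹ = x₀)).symm

end CfsgLib.RankTwoModel
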