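import Cfsg.Agent.Lib.RankTwoModel.Orbit
import Cfsg.Agent.Lib.RankTwoModel.Invol
import Cfsg.Agent.Lib.RankTwo.SmallChar
import Cfsg.Agent.Lib.RankTwo.Weights
import Cfsg.Agent.Lib.Palfy.Dual

/-!
The natural module step: the weights of the small character on an abelian `p`-group inverted by `z`.

* `exists_outside`: some `e ∈ C_R(u)`, `u ≠ z` an involution of `C`, lies outside the core of `C(u)`;
* `centralizes_of_core`: in the characteristic of the field `p`-elements of `O` centralise `R`.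

Blueprint: `blueprint/RankTwo_P3.md`.
-/

set_option autoImplicit false
set_option linter.unusedSectionVars false
set_option linter.style.haveILetI false

namespace CfsgLib.RankTwoModel

open Cfsg CfsgLib.CharTheory
open scoped MatrixGroups

universe u

variable {G : Type u} [Group G] [Finite G]

/-- An abelian `p`-group inverted by `z`, minimal under `C`, with a quadratic element of `D` and `[O, D]` acting
trivially. -/
structure NatData (d : Frame G) (p : ℕ) (R : Subgroup G) : Prop where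
  pR : IsPGroup p R
  comm : ∀ a ∈ R, ∀ b ∈ R, a * b = b * a
  ne : R ≠ ⊥
  norm : d.C ≤ Subgroup.normalizer (R : Set G)
  inv : ∀ r ∈ R, d.z * r * d.z⁻¹ = r⁻¹
  min : ∀ Q ≤ R, Q ≠ ⊥ → d.C ≤ Subgroup.normalizer (Q : Set G) → Q = R
  cen : ∀ o ∈ d.O, ∀ x ∈ d.D, ∀ r ∈ R, Commute (o * x * o⁻¹ * x⁻¹) r
  quad : ∃ c ∈ d.D, c ∉ d.O ∧ (∃ k : ℕ, c ^ p ^ k = 1) ∧
    ∀ r ∈ R, c * (c * r * c⁻¹ * r⁻¹) * c⁻¹ = c * r * c⁻¹ * r⁻¹

namespace Nat'

/-- The action on the linear characters. -/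
def dual (A : Type u) [Group A] : MulAut A →* MulAut (A →* ℂˣ) where
  toFun f :=
    { toFun := fun μ => μ.comp f.symm.toMonoidHom
      invFun := fun μ => μ.comp f.toMonoidHom
      left_inv := fun μ => MonoidHom.ext fun a => by simp
      right_inv := fun μ => MonoidHom.ext fun a => by simp
      map_mul' := fun μ ν => rfl }
  map_one' := MulEquiv.ext fun μ => MonoidHom.ext fun a => rfl
  map_mul' f g := MulEquiv.ext fun μ => MonoidHom.ext fun a => rfl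

theorem dual_eq_one {A : Type u} [CommGroup A] [Finite A] {f : MulAut A} (h : dual A f = 1) : f = 1 := by
  refine MulEquiv.ext fun a => ?_
  by_contra hne
  change f a ≠ a at hne
  obtain ⟨μ, hμ⟩ := CommGroup.exists_apply_ne_one_of_hasEnoughRootsOfUnity A ℂ
    (a := a * (f a)⁻¹) (fun e => hne (mul_inv_eq_one.mp e).symm)
  refine hμ ?_
  have h1 := DFunLike.congr_fun (DFunLike.congr_fun h μ) (f a)
  change μ (f.symm (f a)) = μ (f a) at h1
  rw [MulEquiv.symm_apply_apply] at h1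
  rw [map_mul, map_inv, h1, mul_inv_cancel]

/-- A scalar `p`-element of `SL₂` is trivial. -/
theorem eq_one_of_scalar {F : Type} [Field F] {p : ℕ} (hp : p.Prime) (hp2 : p ≠ 2)
    {A : Matrix.SpecialLinearGroup (Fin 2) F} {k : ℕ} (hA : A ^ p ^ k = 1) {a : F}
    (ha : A.1 = a • (1 : Matrix (Fin 2) (Fin 2) F)) : A = 1 := by
  have hd := A.2
  rw [ha] at hd
  simp at hd
  have h2 : A ^ 2 = 1 := Subtype.ext (by
    rw [Matrix.SpecialLinearGroup.coe_pow, pow_two, ha, Matrix.smul_mul, Matrix.mul_smul, smul_smul, one_mul]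
    rcases hd with rfl | rfl <;> simp)
  exact orderOf_eq_one_iff.mp (Nat.eq_one_of_dvd_coprimes
    (Nat.coprime_two_right.mpr (hp.odd_of_ne_two hp2).pow) (orderOf_dvd_of_pow_eq_one hA)
    (orderOf_dvd_of_pow_eq_one h2))

end Nat'

open Nat'

variable {d : Frame G} {p : ℕ} {R : Subgroup G} (N : NatData d p R)

/-- The action on `R`. -/
def NatData.phi : ↥d.C →* MulAut ↥R :=
  (R.normalizerMonoidHom).comp (Subgroup.inclusion N.norm)

theorem NatData.phi_apply (c : ↥d.C) (r : ↥R) : ((N.phi c r : ↥R) : G) = c * r * (c : G)⁻¹ := rfl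

/-- The action on the linear characters of `R`. -/
def NatData.act : ↥d.C →* MulAut (↥R →* ℂˣ) := (dual ↥R).comp N.phi

theorem NatData.act_apply (c : ↥d.C) (μ : ↥R →* ℂˣ) (r : ↥R) : N.act c μ r = μ ((N.phi c).symm r) := rfl

theorem NatData.act_apply_conj (c : ↥d.C) (μ : ↥R →* ℂˣ) (r : ↥R) : N.act c μ (N.phi c r) = μ r := by
  rw [N.act_apply, MulEquiv.symm_apply_apply]

theorem NatData.act_eq_one {c : ↥d.C} (h : N.act c = 1) : N.phi c = 1 := by
  haveI : IsMulCommutative ↥R := ⟨⟨fun a b => Subtype.ext (N.comm a a.2 b b.2)⟩⟩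
  letI : CommGroup ↥R := { (inferInstance : Group ↥R) with mul_comm := fun a b => Subtype.ext (N.comm a a.2 b b.2) }
  exact dual_eq_one h

theorem NatData.phi_eq_one_of_commute {c : ↥d.C} (h : ∀ r ∈ R, Commute (c : G) r) : N.phi c = 1 :=
  MulEquiv.ext fun r => Subtype.ext (by rw [N.phi_apply, (h r r.2).eq, mul_inv_cancel_right]; rfl)

theorem NatData.commute_of_phi {c : ↥d.C} (h : N.phi c = 1) {r : G} (hr : r ∈ R) : Commute (c : G) r := by
  have h1 := congrArg Subtype.val (MulEquiv.congr_fun h ⟨r, hr⟩)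
  rw [N.phi_apply] at h1
  exact mul_inv_eq_iff_eq_mul.mp h1

/-- `D` as a subgroup of `C`. -/
noncomputable def Frame.iD (d : Frame G) : ↥d.D →* ↥d.C := Subgroup.inclusion d.D_le

include N in
theorem NatData.phi_comm {o x : G} (ho : o ∈ d.O) (hx : x ∈ d.D) :
    Commute (N.phi ⟨o, d.O_le ho⟩) (N.phi ⟨x, d.D_le hx⟩) := by
  refine (commutatorElement_eq_one_iff_mul_comm (g₁ := N.phi ⟨o, d.O_le ho⟩) (g₂ := N.phi ⟨x, d.D_le hx⟩)).mp ?_
  rw [← map_commutatorElement]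
  exact N.phi_eq_one_of_commute fun r hr => N.cen o ho x hx r hr

include N in
/-- `p`-elements of `D ∩ O` act trivially, by minimality. -/
theorem NatData.pfree [Fact p.Prime] {o : G} (ho : o ∈ d.O) (hoD : o ∈ d.D) {m : ℕ}
    (hm : N.phi ⟨o, d.O_le ho⟩ ^ p ^ m = 1) : N.phi ⟨o, d.O_le ho⟩ = 1 := by
  haveI : Finite (MulAut ↥R) := Finite.of_injective (fun e : MulAut ↥R => (e : ↥R → ↥R)) DFunLike.coe_injective
  set P₀ : Subgroup (MulAut ↥R) :=
    { carrier := {f | (∃ (x : G) (hx : x ∈ d.O), x ∈ d.D ∧ N.phi ⟨x, d.O_le hx⟩ = f) ∧ ∃ m : ℕ, f ^ p ^ m = 1}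
      one_mem' := ⟨⟨1, one_mem _, one_mem _, map_one N.phi⟩, 0, one_pow _⟩
      mul_mem' := by
        rintro _ _ ⟨⟨a, ha, haD, rfl⟩, i, hi⟩ ⟨⟨b, hb, hbD, rfl⟩, j, hj⟩
        refine ⟨⟨a * b, mul_mem ha hb, mul_mem haD hbD, map_mul N.phi ⟨a, d.O_le ha⟩ ⟨b, d.O_le hb⟩⟩, i + j, ?_⟩
        rw [(N.phi_comm ha hbD).mul_pow, pow_add, pow_mul, hi, one_pow, one_mul, mul_comm, pow_mul, hj, one_pow]
      inv_mem' := by
        rintro _ ⟨⟨a, ha, haD, rfl⟩, i, hi⟩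
        exact ⟨⟨a⁻¹, inv_mem ha, inv_mem haD, map_inv N.phi ⟨a, d.O_le ha⟩⟩, i, by rw [inv_pow, hi, inv_one]⟩ }
  have hP : IsPGroup p P₀ := fun f => by
    obtain ⟨k, hk⟩ := f.2.2
    exact ⟨k, Subtype.ext (by rw [SubmonoidClass.coe_pow, hk]; rfl)⟩
  set Q₀ : Subgroup ↥R :=
    { carrier := {r | ∀ f ∈ P₀, f r = r}
      one_mem' := fun f _ => map_one f
      mul_mem' := fun {a b} ha hb f hf => by rw [map_mul, ha f hf, hb f hf]
      inv_mem' := fun {a} ha f hf => by rw [map_inv, ha f hf] }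
  have hne : Q₀.map R.subtype ≠ ⊥ := by
    haveI : Nontrivial ↥R := (Subgroup.nontrivial_iff_ne_bot R).mpr N.ne
    obtain ⟨n, hn0, hn⟩ := N.pR.nontrivial_iff_card.mp inferInstance
    obtain ⟨r, hr, hr1⟩ := hP.exists_fixed_point_of_prime_dvd_card_of_fixed_point (α := ↥R)
      (by rw [hn]; exact dvd_pow_self p hn0.ne') (a := (1 : ↥R)) (fun f => map_one (f : MulAut ↥R))
    intro hbot
    refine hr1 (Subtype.ext ?_)
    have hrQ : r ∈ Q₀ := fun f hf => hr ⟨f, hf⟩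
    exact (Subgroup.mem_bot.mp (hbot ▸ (⟨r, hrQ, rfl⟩ : (r : G) ∈ Q₀.map R.subtype))).symm
  have hQ := N.min _ (Subgroup.map_subtype_le _) hne fun c hc => by
    refine Subgroup.mem_normalizer_fintype ?_
    rintro _ ⟨r, hr, rfl⟩
    refine ⟨N.phi ⟨c, hc⟩ r, ?_, rfl⟩
    rintro f ⟨⟨x, hx, hxD, rfl⟩, k, hk⟩
    have hx' : c⁻¹ * x * c⁻¹⁻¹ ∈ d.O := Frame.Spec.O_conj (inv_mem hc) hx
    have e : N.phi ⟨c⁻¹ * x * c⁻¹⁻¹, d.O_le hx'⟩ = (N.phi ⟨c, hc⟩)⁻¹ * N.phi ⟨x, d.O_le hx⟩ * (N.phi ⟨c, hc⟩) := by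
      rw [← map_inv, ← map_mul, ← map_mul]
      exact congrArg _ (Subtype.ext (by simp))
    have h1 := hr (N.phi ⟨c⁻¹ * x * c⁻¹⁻¹, d.O_le hx'⟩)
      ⟨⟨_, hx', d.D_conj (inv_mem hc) hxD, rfl⟩, k, by
        rw [e, ← map_inv, show N.phi ⟨c, hc⟩ = ((N.phi ⟨c, hc⟩)⁻¹)⁻¹ from (inv_inv _).symm, map_inv, inv_inv,
          ← inv_inv (N.phi ⟨c, hc⟩), inv_inv (N.phi ⟨c, hc⟩)⁻¹, conj_pow, hk, mul_one, inv_inv, inv_mul_cancel]⟩
    rw [e, MulAut.mul_apply, MulAut.mul_apply, MulAut.inv_apply] at h1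
    exact (MulEquiv.symm_apply_eq _).mp h1
  refine MulEquiv.ext fun r => ?_
  obtain ⟨r', hr', e⟩ := hQ.ge r.2
  rw [show r = r' from Subtype.ext e.symm]
  exact hr' _ ⟨⟨o, ho, hoD, rfl⟩, m, hm⟩

variable (h : Hyp G) (hd : d.Spec) (hq : 3 < d.q) [hp : Fact p.Prime] (hp2 : p ≠ 2)

include N h hd hq hp2 in
/-- The non-trivial weights form one orbit of `D`, of multiplicity one. -/
theorem NatData.exists_omega [Fintype G] [Fintype ↥R] :
    ∃ (SC : RankTwo.SmallChar d.z d.q) (μ₀ : ↥R →* ℂˣ), μ₀ ≠ 1 ∧ RankTwo.wgt SC.χ μ₀ = 1 ∧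
      (∀ μ : ↥R →* ℂˣ, μ ≠ 1 → RankTwo.wgt SC.χ μ ≠ 0 → ∃ x : ↥d.D, N.act (d.iD x) μ₀ = μ) ∧
      (∀ c : ↥d.C, N.act c μ₀ ≠ 1 ∧ RankTwo.wgt SC.χ (N.act c μ₀) ≠ 0) ∧
      (p = d.p → Nat.card (Set.range fun x : ↥d.D => N.act (d.iD x) μ₀) = d.q ^ 2 - 1) ∧
      ∀ r ∈ R, SC.χ (d.z * r) = (SC.v : ℂ) := by
  classical
  haveI : Fact d.p.Prime := ⟨hd.prime⟩
  haveI : Fintype (↥R →* ℂˣ) := Fintype.ofFinite _
  obtain ⟨SC⟩ : Nonempty (RankTwo.SmallChar d.z d.q) := by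
    haveI := h.simple
    exact RankTwo.exists_smallChar h.noncomm d.S hd.qw hd.zord hd.zS hd.zc d.U hd.US hd.klein hd.Un hd.podd d.n
      hd.npos d.F hd.card ⟨_, inferInstance, hd.sl⟩
  have hχ : IsCharacter G SC.χ := by
    obtain ⟨n, ρ, -, e⟩ := SC.irr
    exact ⟨n, ρ, e⟩
  have hcl := isClassFunction_char hχ
  have hzz : d.z * d.z = 1 := by rw [← pow_two, ← hd.zord, pow_orderOf_eq_one]
  have hRodd : Odd (Nat.card R) := by
    obtain ⟨n, hn⟩ := IsPGroup.iff_card.mp N.pR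
    rw [hn]; exact (hp.out.odd_of_ne_two hp2).pow
  have hzR : d.z ∈ d.C := Frame.Spec.z_mem_C
  have hone : ∀ r ∈ R, r * d.z = d.z * r → r = 1 := fun r hr e => by
    have h1 := N.inv r hr
    rw [← e, mul_inv_cancel_right] at h1
    have h2 : r ^ 2 = 1 := by rw [pow_two]; exact eq_inv_iff_mul_eq_one.mp h1
    exact orderOf_eq_one_iff.mp (Nat.eq_one_of_dvd_coprimes (Nat.coprime_two_left.mpr hRodd)
      (orderOf_dvd_of_pow_eq_one h2) (Subgroup.orderOf_dvd_natCard R hr))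
  have hconst : ∀ r ∈ R, SC.χ (d.z * r) = (SC.v : ℂ) := fun r hr =>
    RankTwo.coset_const hcl R hRodd hzz (fun e he => (Subgroup.mem_normalizer_iff.mp (N.norm hzR) e).mp he)
      (fun c hc hcz => by rw [hone c hc hcz, mul_one]; exact SC.val) ⟨r, hr⟩
  have hcomm : ∀ a b : ↥R, a * b = b * a := fun a b => Subtype.ext (N.comm a a.2 b b.2)
  have hw : ∀ (c : ↥d.C) (μ : ↥R →* ℂˣ), RankTwo.wgt SC.χ (N.act c μ) = RankTwo.wgt SC.χ μ := fun c μ =>
    RankTwo.wgt_conj hcl μ _ (c : G) (N.phi c).toEquiv (fun r => N.phi_apply c r) (N.act_apply_conj c μ)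
  have hne1 : ∀ (c : ↥d.C) (μ : ↥R →* ℂˣ), μ ≠ 1 → N.act c μ ≠ 1 := fun c μ hμ e =>
    hμ ((N.act c).injective (e.trans (map_one _).symm))
  -- some weight is non-trivial
  obtain ⟨μ₀, hμ₀, hw₀⟩ : ∃ μ : ↥R →* ℂˣ, μ ≠ 1 ∧ RankTwo.wgt SC.χ μ ≠ 0 := by
    by_contra hno
    push Not at hno
    refine N.ne (R.eq_bot_iff_forall.mpr fun r hr => hone r hr ?_)
    exact (RankTwo.commute_of_weights_fixed hχ hcomm SC.faithful d.z
      (fun y hy => (Subgroup.mem_normalizer_iff.mp (N.norm hzR) y).mp hy)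
      (fun μ hμ c => by
        by_cases h1 : μ = 1
        · rw [h1]; rfl
        · exact absurd (hno μ h1) hμ) ⟨r, hr⟩).symm
  -- the cover acting on the characters
  obtain ⟨Rp⟩ := hd.exists_rep
  haveI := d.D_perfect
  haveI := hd.charP
  let S : Orbit.Act ↥d.D (↥R →* ℂˣ) d.F p :=
    { π := Rp.π.comp (Subgroup.inclusion (hd.D_le_L hq))
      surj := fun A => by obtain ⟨y, hy, e⟩ := Rp.surj_D hd hq A; exact ⟨⟨y, hy⟩, e⟩
      odd_ker := by
        refine d.O_odd.of_dvd_nat (Subgroup.card_dvd_of_injective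
          ((d.D.subtype.comp (Subgroup.subtype _)).codRestrict d.O fun k => (Rp.ker _).mp k.2) fun a b e => ?_)
        exact Subtype.ext (Subtype.ext (congrArg (fun t : ↥d.O => (t : G)) e))
      ρ := N.act.comp d.iD
      z := ⟨d.z, hd.z_mem_D hq⟩
      z_π := Rp.pi_z hd
      z_ρ := fun μ => MonoidHom.ext fun r => by
        have e : N.phi (d.iD ⟨d.z, hd.z_mem_D hq⟩) r = r⁻¹ := Subtype.ext (N.inv r r.2)
        show μ ((N.phi (d.iD ⟨d.z, hd.z_mem_D hq⟩)).symm r) = μ⁻¹ r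
        rw [show (N.phi (d.iD ⟨d.z, hd.z_mem_D hq⟩)).symm r = r⁻¹ from
          (MulEquiv.symm_apply_eq _).mpr (by rw [map_inv, e, inv_inv]), map_inv]
        rfl
      central := fun k hk x => (N.phi_comm ((Rp.ker _).mp hk) x.2).map (dual ↥R)
      pfree := fun k hk hm => by
        obtain ⟨m, hm⟩ := hm
        have h1 : N.phi (d.iD k ^ p ^ m) = 1 := N.act_eq_one (by rw [map_pow]; exact hm)
        rw [map_pow] at h1
        have h2 := N.pfree ((Rp.ker _).mp hk) k.2 h1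
        show dual ↥R (N.phi (d.iD k)) = 1
        rw [show N.phi (d.iD k) = 1 from h2, map_one] }
  have hV : IsPGroup p (↥R →* ℂˣ) := by
    obtain ⟨n, hn⟩ := IsPGroup.iff_card.mp N.pR
    intro μ
    refine ⟨n, MonoidHom.ext fun r => ?_⟩
    rw [MonoidHom.pow_apply, ← map_pow, ← hn, pow_card_eq_one', map_one]
    rfl
  obtain ⟨c, hcD, hcO, ⟨k, hk⟩, hcq⟩ := N.quad
  have hcp : ∃ m : ℕ, (⟨c, hcD⟩ : ↥d.D) ^ p ^ m = 1 := ⟨k, Subtype.ext hk⟩
  have hcn : ∀ a : d.F, (S.π ⟨c, hcD⟩).1 ≠ a • (1 : Matrix (Fin 2) (Fin 2) d.F) := fun a ha =>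
    hcO ((Rp.ker _).mp (eq_one_of_scalar hp.out hp2 (k := k)
      (show (S.π ⟨c, hcD⟩) ^ p ^ k = 1 by
        rw [← map_pow, show (⟨c, hcD⟩ : ↥d.D) ^ p ^ k = 1 from Subtype.ext hk, map_one]) ha))
  have hquad : IsQuad (S.ρ ⟨c, hcD⟩) := fun μ => MonoidHom.ext fun r => by
    set f := N.phi (d.iD ⟨c, hcD⟩)
    show μ (f.symm (f.symm r)) * (μ (f.symm r))⁻¹ = μ (f.symm r) * (μ r)⁻¹
    set w := f.symm (f.symm r)
    have e : f (f w * w⁻¹) = f w * w⁻¹ := Subtype.ext (hcq w w.2)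
    rw [map_mul, map_inv, show f w = f.symm r from f.apply_symm_apply _,
      show f (f.symm r) = r from f.apply_symm_apply _] at e
    have e2 := congrArg μ e
    rw [map_mul, map_mul, map_inv, map_inv] at e2
    have e3 := congrArg Inv.inv e2
    rw [mul_inv_rev, mul_inv_rev, inv_inv, inv_inv] at e3
    exact e3.symm
  haveI : Nontrivial (↥R →* ℂˣ) := ⟨⟨μ₀, 1, hμ₀⟩⟩
  have hlarge : ∀ {μ : ↥R →* ℂˣ}, μ ≠ 1 → _ := fun {μ} hμ =>
    Orbit.orbit_large hp2 hV hd.odd_card (hd.three_lt hq) d.p S hcp hquad hcn hμ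
  -- the orbits
  let Ω : (↥R →* ℂˣ) → Finset (↥R →* ℂˣ) := fun μ => Finset.univ.image fun x : ↥d.D => N.act (d.iD x) μ
  have hΩ : ∀ μ, Nat.card (Set.range fun x => S.ρ x μ) = (Ω μ).card := fun μ => by
    rw [Nat.card_coe_set_eq, ← Set.ncard_coe_finset, Finset.coe_image, Finset.coe_univ, Set.image_univ]
    rfl
  have hmem : ∀ {μ ν}, ν ∈ Ω μ → ∃ x : ↥d.D, N.act (d.iD x) μ = ν := fun {μ ν} hν => by
    obtain ⟨x, -, e⟩ := Finset.mem_image.mp hν
    exact ⟨x, e⟩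
  have hΩsub : ∀ {μ}, μ ≠ 1 → ∀ ν ∈ Ω μ, ν ≠ 1 ∧ RankTwo.wgt SC.χ ν = RankTwo.wgt SC.χ μ := fun hμ ν hν => by
    obtain ⟨x, rfl⟩ := hmem hν
    exact ⟨hne1 _ _ hμ, hw _ _⟩
  have hsum : ∀ {μ}, μ ≠ 1 → ∑ ν ∈ Ω μ, RankTwo.wgt SC.χ ν = (Ω μ).card * RankTwo.wgt SC.χ μ := fun hμ => by
    rw [Finset.sum_congr rfl fun ν hν => (hΩsub hμ ν hν).2, Finset.sum_const, smul_eq_mul]
  have hbound : ∀ S' : Finset (↥R →* ℂˣ), (1 : ↥R →* ℂˣ) ∉ S' →
      ((∑ ν ∈ S', RankTwo.wgt SC.χ ν : ℕ) : ℤ) < 2 * ((d.q : ℤ) ^ 2 - 1) := fun S' hS' => by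
    have h1 := RankTwo.weights_bound hχ hcomm SC.deg hzz
      (fun y hy => (Subgroup.mem_normalizer_iff.mp (N.norm hzR) y).mp hy) (fun c => hconst c c.2) S' hS'
    linarith [SC.small]
  have hq1 : 1 ≤ d.q ^ 2 := Nat.one_le_pow _ _ (by omega)
  have hbig : ∀ {μ}, μ ≠ 1 → d.q ^ 2 - 1 ≤ (Ω μ).card := fun {μ} hμ => by
    have h1 := (hlarge hμ).1
    rwa [hΩ, hd.card] at h1
  have hcast : (((d.q ^ 2 - 1 : ℕ)) : ℤ) = (d.q : ℤ) ^ 2 - 1 := by push_cast [Nat.cast_sub hq1]; rfl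
  have hone' : RankTwo.wgt SC.χ μ₀ = 1 := by
    have h1 := hbound (Ω μ₀) fun hm => (hΩsub hμ₀ 1 hm).1 rfl
    rw [hsum hμ₀] at h1
    by_contra hne
    have h2 : (d.q ^ 2 - 1) * 2 ≤ (Ω μ₀).card * RankTwo.wgt SC.χ μ₀ := Nat.mul_le_mul (hbig hμ₀) (by omega)
    have h3 : (((d.q ^ 2 - 1) * 2 : ℕ) : ℤ) ≤ (((Ω μ₀).card * RankTwo.wgt SC.χ μ₀ : ℕ) : ℤ) := by exact_mod_cast h2
    rw [Nat.cast_mul (d.q ^ 2 - 1), hcast] at h3
    push_cast at h1 h3
    linarith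
  refine ⟨SC, μ₀, hμ₀, hone', fun μ hμ hμw => ?_, fun c => ⟨hne1 c μ₀ hμ₀, by rw [hw]; exact hw₀⟩,
    fun hpl => ?_, hconst⟩
  · by_contra hno
    have hdis : Disjoint (Ω μ₀) (Ω μ) := Finset.disjoint_left.mpr fun ν h1 h2 => by
      obtain ⟨x, hx⟩ := hmem h1
      obtain ⟨y, hy⟩ := hmem h2
      refine hno ⟨y⁻¹ * x, ?_⟩
      rw [map_mul, map_mul, MulAut.mul_apply, hx, ← hy, map_inv, map_inv, MulAut.inv_apply, MulEquiv.symm_apply_apply]
    have h1 := hbound (Ω μ₀ ∪ Ω μ) fun hm => by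
      rcases Finset.mem_union.mp hm with hm | hm
      · exact (hΩsub hμ₀ 1 hm).1 rfl
      · exact (hΩsub hμ 1 hm).1 rfl
    rw [Finset.sum_union hdis, hsum hμ₀, hsum hμ, hone', mul_one] at h1
    have h2 : d.q ^ 2 - 1 ≤ (Ω μ).card * RankTwo.wgt SC.χ μ :=
      (hbig hμ).trans (Nat.le_mul_of_pos_right _ (Nat.pos_of_ne_zero hμw))
    have h3 : ((d.q ^ 2 - 1 : ℕ) : ℤ) ≤ ((Ω μ₀).card : ℤ) := by exact_mod_cast hbig hμ₀
    have h4 : ((d.q ^ 2 - 1 : ℕ) : ℤ) ≤ (((Ω μ).card * RankTwo.wgt SC.χ μ : ℕ) : ℤ) := by exact_mod_cast h2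
    rw [hcast] at h3 h4
    push_cast at h1 h4
    linarith
  · obtain ⟨m, hm⟩ := (hlarge hμ₀).2 hpl
    rw [hd.card, hΩ] at hm
    change (Ω μ₀).card = (d.q ^ 2 - 1) * m at hm
    have h1 := hbound (Ω μ₀) fun hm' => (hΩsub hμ₀ 1 hm').1 rfl
    rw [hsum hμ₀, hone', mul_one] at h1
    have h2 := hbig hμ₀
    have hm1 : m = 1 := by
      rcases m with _ | _ | m
      · exfalso
        rw [mul_zero] at hm
        have : 4 ≤ d.q := hq
        have := Nat.pow_le_pow_left this 2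
        omega
      · rfl
      · exfalso
        have h3 : (d.q ^ 2 - 1) * 2 ≤ (Ω μ₀).card := hm ▸ Nat.mul_le_mul_left _ (by omega)
        have h4 : (((d.q ^ 2 - 1) * 2 : ℕ) : ℤ) ≤ ((Ω μ₀).card : ℤ) := by exact_mod_cast h3
        rw [Nat.cast_mul, hcast] at h4
        push_cast at h1 h4
        linarith
    have := hΩ μ₀
    rw [hm, hm1, mul_one] at this
    exact this

include N h hd hq hp2 in
/-- **An element outside the core.** -/
theorem NatData.exists_outside : ∃ u ∈ d.C, orderOf u = 2 ∧ u ≠ d.z ∧ ∃ g : G, g * u * g⁻¹ = d.z ∧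
    ∃ e ∈ R, e * u = u * e ∧ g * e * g⁻¹ ∉ d.O := by
  classical
  haveI : Fintype G := Fintype.ofFinite G
  haveI : Fintype ↥R := Fintype.ofFinite _
  haveI : Fact (Nat.Prime 2) := ⟨Nat.prime_two⟩
  obtain ⟨SC, μ₀, hμ₀, hone, horb, hall, -, hconst⟩ := N.exists_omega h hd hq hp2
  -- an involution of `C` outside `L`
  obtain ⟨t, htC, htL, htt⟩ : ∃ t ∈ d.C, t ∉ d.L ∧ t * t = 1 := by
    have hcard : Nat.card d.U = 4 := by haveI := hd.klein; exact IsKleinFour.card_four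
    obtain ⟨t, htU, htne⟩ : ∃ t ∈ d.U, t ≠ 1 ∧ t ≠ d.z := by
      by_contra hno
      push Not at hno
      have hsub : (d.U : Set G) ⊆ ({1, d.z} : Set G) := fun t ht => by
        by_cases h1 : t = 1
        · exact Or.inl h1
        · exact Or.inr (hno t ht h1)
      have := Set.ncard_le_ncard hsub (Set.toFinite _)
      rw [← Nat.card_coe_set_eq] at this
      change Nat.card d.U ≤ _ at this
      have h2 : ({1, d.z} : Set G).ncard ≤ 2 := (Set.ncard_insert_le _ _).trans (by rw [Set.ncard_singleton])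
      omega
    haveI := hd.klein
    have ht2 : t * t = 1 := congrArg Subtype.val (IsKleinFour.mul_self (⟨t, htU⟩ : d.U))
    have hto : orderOf t = 2 := orderOf_eq_prime (by rw [pow_two, ht2]) htne.1
    exact ⟨t, Subgroup.mem_centralizer_singleton_iff.mpr (hd.zc t (hd.US htU)),
      hd.invol_not_mem hto htne.2, ht2⟩
  obtain ⟨x, hx⟩ := horb _ (hall ⟨t, htC⟩).1 (hall ⟨t, htC⟩).2
  set hh : ↥d.C := (d.iD x)⁻¹ * ⟨t, htC⟩
  have hfix : N.act hh μ₀ = μ₀ := by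
    rw [map_mul, MulAut.mul_apply, ← hx, map_inv, MulAut.inv_apply, MulEquiv.symm_apply_apply]
  let H : Subgroup ↥d.C :=
    { carrier := {c | N.act c μ₀ = μ₀}
      one_mem' := by show N.act 1 μ₀ = μ₀; rw [map_one]; rfl
      mul_mem' := fun {a b} ha hb => by show N.act (a * b) μ₀ = μ₀; rw [map_mul, MulAut.mul_apply, hb, ha]
      inv_mem' := fun {a} ha => by
        show N.act a⁻¹ μ₀ = μ₀
        rw [map_inv, MulAut.inv_apply, MulEquiv.symm_apply_eq]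
        exact (show N.act a μ₀ = μ₀ from ha).symm }
  have hxL : (x : G) ∈ d.L := hd.D_le_L hq x.2
  have hhL : (hh : G) ∉ d.L := fun hm => htL (by
    have := mul_mem hxL hm
    rwa [show (x : G) * (hh : G) = t from mul_inv_cancel_left _ _] at this)
  have hsq : (hh : G) * hh ∈ d.L := by
    have e : (hh : G) * hh = (x : G)⁻¹ * (t * (x : G)⁻¹ * t⁻¹) := by
      show (x : G)⁻¹ * t * ((x : G)⁻¹ * t) = _
      rw [inv_eq_of_mul_eq_one_right htt]
      group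
    rw [e]
    exact mul_mem (inv_mem hxL) (d.L_conj htC (inv_mem hxL))
  have heven : ¬ Odd (Nat.card H) := fun hodd => hhL (by
    obtain ⟨j, hj⟩ := hodd.of_dvd_nat (Subgroup.orderOf_dvd_natCard H (show hh ∈ H from hfix))
    have h1 : ((hh : G) * hh) ^ (j + 1) = hh := by
      rw [← pow_two, ← pow_mul, show 2 * (j + 1) = (2 * j + 1) + 1 by ring, pow_succ, ← hj,
        ← Subgroup.orderOf_coe, pow_orderOf_eq_one, one_mul]
    exact h1 ▸ pow_mem hsq _)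
  rw [Nat.not_odd_iff_even, even_iff_two_dvd] at heven
  obtain ⟨⟨u, huH⟩, hu⟩ := exists_prime_orderOf_dvd_card' 2 heven
  rw [Subgroup.orderOf_mk] at hu
  have hu' : orderOf (u : G) = 2 := by rw [Subgroup.orderOf_coe]; exact hu
  have huz : (u : G) ≠ d.z := by
    intro e
    have h1 : N.act u μ₀ = μ₀ := huH
    refine hμ₀ (MonoidHom.ext fun r => ?_)
    have h2 : μ₀ r⁻¹ = μ₀ r := by
      have h3 := N.act_apply_conj u μ₀ r
      rwa [h1, show N.phi u r = r⁻¹ from Subtype.ext (by rw [N.phi_apply, e]; exact N.inv r r.2)] at h3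
    have h4 : μ₀ (r * r) = 1 := by rw [map_mul]; nth_rewrite 1 [← h2]; rw [← map_mul, inv_mul_cancel, map_one]
    obtain ⟨n, hn⟩ := IsPGroup.iff_card.mp N.pR
    obtain ⟨j, hj⟩ : Odd (Nat.card ↥R) := hn ▸ (hp.out.odd_of_ne_two hp2).pow
    have h5 : r = (r * r) ^ (j + 1) := by
      rw [← pow_two, ← pow_mul, show 2 * (j + 1) = (2 * j + 1) + 1 by ring, pow_succ, ← hj, pow_card_eq_one', one_mul]
    rw [h5, map_pow, h4, one_pow]
    rfl
  obtain ⟨g, hg⟩ := isConj_iff.mp (h.all_conj (u : G) d.z hu' hd.zord)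
  refine ⟨u, u.2, hu', huz, g, hg, ?_⟩
  by_contra hno
  push Not at hno
  have hχ : IsCharacter G SC.χ := by
    obtain ⟨n, ρ, -, e⟩ := SC.irr
    exact ⟨n, ρ, e⟩
  have hcl := isClassFunction_char hχ
  have huu : (u : G) * u = 1 := by rw [← pow_two, ← hu', pow_orderOf_eq_one]
  have hRodd : Odd (Nat.card R) := by
    obtain ⟨n, hn⟩ := IsPGroup.iff_card.mp N.pR
    rw [hn]; exact (hp.out.odd_of_ne_two hp2).pow
  have hv : ∀ c : ↥R, SC.χ ((u : G) * c) = (SC.v : ℂ) := fun c =>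
    RankTwo.coset_const hcl R hRodd huu
      (fun e he => (Subgroup.mem_normalizer_iff.mp (N.norm u.2) e).mp he)
      (fun e he heu => by
        obtain ⟨y, hy, ey⟩ := hno e he heu
        rw [← hcl ((u : G) * e) g, show g * ((u : G) * e) * g⁻¹ = (g * u * g⁻¹) * (g * e * g⁻¹) by group, hg, ← ey]
        exact SC.const y hy) c
  have heven' := RankTwo.weight_even hχ huu hv μ₀ hμ₀ fun c => ⟨N.phi u c, N.phi_apply u c, by
    have h1 := N.act_apply_conj u μ₀ c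
    rwa [show N.act u μ₀ = μ₀ from huH] at h1⟩
  rw [hone] at heven'
  exact Nat.not_even_one heven'

include N h hd hq hp2 in
/-- **In the characteristic of the field, `p`-elements of the core centralise `R`.** -/
theorem NatData.centralizes_of_core (hpl : p = d.p) {y : G} (hy : y ∈ d.O) {k : ℕ} (hyk : y ^ p ^ k = 1) {r : G}
    (hr : r ∈ R) : Commute y r := by
  classical
  haveI : Fintype G := Fintype.ofFinite G
  haveI : Fintype ↥R := Fintype.ofFinite _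
  haveI : Fintype (↥R →* ℂˣ) := Fintype.ofFinite _
  obtain ⟨SC, μ₀, hμ₀, hone, horb, hall, hcard, -⟩ := N.exists_omega h hd hq hp2
  have hχ : IsCharacter G SC.χ := by
    obtain ⟨n, ρ, -, e⟩ := SC.irr
    exact ⟨n, ρ, e⟩
  set T := Set.range fun x : ↥d.D => N.act (d.iD x) μ₀ with hT
  set yy : ↥d.C := ⟨y, d.O_le hy⟩
  have hinT : ∀ c : ↥d.C, ∀ μ ∈ T, N.act c μ ∈ T := by
    rintro c _ ⟨x, rfl⟩
    obtain ⟨x', hx'⟩ := horb _ (hall (c * d.iD x)).1 (hall (c * d.iD x)).2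
    exact ⟨x', by show N.act (d.iD x') μ₀ = _; rw [hx', map_mul, MulAut.mul_apply]⟩
  letI : MulAction ↥(Subgroup.zpowers yy) ↥T :=
    { smul := fun c μ => ⟨N.act (c : ↥d.C) μ.1, hinT _ _ μ.2⟩
      one_smul := fun μ => Subtype.ext (by show N.act 1 μ.1 = μ.1; rw [map_one]; rfl)
      mul_smul := fun a b μ => Subtype.ext (by
        show N.act ((a : ↥d.C) * b) μ.1 = N.act (a : ↥d.C) (N.act (b : ↥d.C) μ.1)
        rw [map_mul, MulAut.mul_apply]) }
  have hyy : yy ^ p ^ k = 1 := Subtype.ext hyk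
  have hP : IsPGroup p (Subgroup.zpowers yy) := by
    obtain ⟨i, -, hi⟩ := (Nat.dvd_prime_pow hp.out).mp (orderOf_dvd_of_pow_eq_one hyy)
    exact IsPGroup.of_card (n := i) (by rw [Nat.card_zpowers, hi])
  obtain ⟨⟨μ₁, x₁, rfl⟩, hfix⟩ := hP.nonempty_fixed_point_of_prime_not_dvd_card ↥T (by
    rw [hcard hpl]
    intro hdvd
    have h1 : p ∣ d.q ^ 2 := by
      rw [hpl]; exact dvd_pow (dvd_pow_self _ (by have := hd.npos; omega)) two_ne_zero
    have h2 := Nat.dvd_sub h1 hdvd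
    rw [Nat.sub_sub_self (Nat.one_le_pow _ _ (by omega))] at h2
    exact hp.out.not_dvd_one h2)
  have hfix1 : N.act yy (N.act (d.iD x₁) μ₀) = N.act (d.iD x₁) μ₀ :=
    congrArg Subtype.val (hfix ⟨yy, Subgroup.mem_zpowers _⟩)
  have hcomm : ∀ x : ↥d.D, Commute (N.act yy) (N.act (d.iD x)) := fun x =>
    (N.phi_comm hy x.2).map (dual ↥R)
  have hall' : ∀ μ : ↥R →* ℂˣ, RankTwo.wgt SC.χ μ ≠ 0 → N.act yy μ = μ := by
    intro μ hw
    by_cases h1 : μ = 1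
    · rw [h1, map_one]
    obtain ⟨x, rfl⟩ := horb μ h1 hw
    have e : N.act (d.iD x) μ₀ = N.act (d.iD (x * x₁⁻¹)) (N.act (d.iD x₁) μ₀) := by
      rw [← MulAut.mul_apply, ← map_mul, ← map_mul, inv_mul_cancel_right]
    rw [e, ← MulAut.mul_apply, (hcomm _).eq, MulAut.mul_apply, hfix1]
  exact RankTwo.commute_of_weights_fixed hχ (fun a b => Subtype.ext (N.comm a a.2 b b.2)) SC.faithful y
    (fun w hw => (Subgroup.mem_normalizer_iff.mp (N.norm (d.O_le hy)) w).mp hw)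
    (fun μ hw c => by
      have h1 := N.act_apply_conj yy μ c
      rwa [hall' μ hw] at h1) ⟨r, hr⟩

end CfsgLib.RankTwoModel
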