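import Cfsg.Agent.Lib.StSL.Two
import Cfsg.Agent.Lib.SL2Orders
import Cfsg.Agent.Lib.PSL2.Aut
import Cfsg.Agent.S0261

/-!
No `SL₂(p)` section in a group covered by `SL₂(q)` with the central involution killed.

* `exists_q8`: a quaternion pair in the derived subgroup of `SL₂(p)`;
* `no_section`: if `Y` covers `SL₂(q)` with odd kernel and `ψ` kills a preimage of `-1`, then a subgroup whose
  commutators lie in the image of `ψ` has no quotient `SL₂(p)`.

Blueprint: `blueprint/RankTwo_P3.md`, section 3.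
-/

set_option autoImplicit false
set_option linter.unusedSectionVars false
set_option linter.style.haveILetI false

namespace CfsgLib.RankTwoModel.SL2

open Matrix
open scoped MatrixGroups commutatorElement

universe u v

/-- A quaternion pair in the derived subgroup of `SL₂(p)`. -/
theorem exists_q8 (p : ℕ) [Fact p.Prime] (hp : p ≠ 2) :
    ∃ A B : SL(2, ZMod p), A ∈ commutator SL(2, ZMod p) ∧ B ∈ commutator SL(2, ZMod p) ∧
      A * A = -1 ∧ B * B = -1 ∧ A * B ≠ B * A ∧ B * A * B⁻¹ = A⁻¹ := by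
  have hpp : p.Prime := Fact.out
  have hodd : Odd p := hpp.odd_of_ne_two hp
  have h2 : (2 : ZMod p) ≠ 0 := SL2Orders.two_ne_zero_of_odd (by rwa [ZMod.card])
  obtain ⟨a, b, hab, hcomm⟩ : ∃ a b : ZMod p, a ^ 2 + (b ^ 2 + 1) = 0 ∧ ∀ A B : SL(2, ZMod p),
      A.1 = !![0, 1; -1, 0] → B.1 = !![a, b; b, -a] → A ∈ commutator SL(2, ZMod p) ∧ B ∈ commutator SL(2, ZMod p) := by
    by_cases h5 : 4 ≤ p
    · obtain ⟨a, b, hab⟩ := FiniteField.exists_root_sum_quadratic
        (f := (Polynomial.X ^ 2 : Polynomial (ZMod p))) (g := (Polynomial.X ^ 2 + Polynomial.C 1 : Polynomial (ZMod p)))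
        (Polynomial.degree_X_pow 2) (Polynomial.degree_X_pow_add_C (by norm_num) 1)
        (by rw [ZMod.card]; exact Nat.odd_iff.mp hodd)
      simp at hab
      refine ⟨a, b, hab, fun A B _ _ => ?_⟩
      haveI : Group.IsPerfect SL(2, ZMod p) := ⟨CfsgLib.StSL.perfect_SL2 (by rw [ZMod.card]; omega)⟩
      rw [Group.IsPerfect.commutator_eq_top]
      exact ⟨Subgroup.mem_top _, Subgroup.mem_top _⟩
    · have hp3 : p = 3 := by
        have := hpp.two_le
        omega
      subst hp3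
      refine ⟨1, 1, by rfl, fun A B hA hB => ?_⟩
      have hmem : ∀ x y : SL(2, ZMod 3), ∀ C : SL(2, ZMod 3), C.1 = x.1 * y.1 * x.1.adjugate * y.1.adjugate →
          C ∈ commutator SL(2, ZMod 3) := fun x y C hC => by
        rw [show C = ⁅x, y⁆ from Subtype.ext (by
          rw [hC, commutatorElement_def, Matrix.SpecialLinearGroup.coe_mul, Matrix.SpecialLinearGroup.coe_mul,
            Matrix.SpecialLinearGroup.coe_mul, Matrix.SpecialLinearGroup.coe_inv,
            Matrix.SpecialLinearGroup.coe_inv])]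
        exact Subgroup.commutator_mem_commutator (Subgroup.mem_top _) (Subgroup.mem_top _)
      constructor
      · refine hmem ⟨!![0, 1; 2, 2], by rw [Matrix.det_fin_two_of]; rfl⟩
          ⟨!![0, 1; 2, 1], by rw [Matrix.det_fin_two_of]; rfl⟩ A ?_
        rw [hA]; simp only [Matrix.adjugate_fin_two_of, Matrix.mul_fin_two]; ext i j; fin_cases i <;> fin_cases j <;> simp <;> reduce_mod_char
      · refine hmem ⟨!![0, 1; 2, 0], by rw [Matrix.det_fin_two_of]; rfl⟩
          ⟨!![1, 1; 2, 0], by rw [Matrix.det_fin_two_of]; rfl⟩ B ?_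
        rw [hB]; simp only [Matrix.adjugate_fin_two_of, Matrix.mul_fin_two]; ext i j; fin_cases i <;> fin_cases j <;> simp <;> reduce_mod_char
  obtain ⟨A, hA⟩ : ∃ A : SL(2, ZMod p), A.1 = !![0, 1; -1, 0] := ⟨⟨_, by simp [Matrix.det_fin_two_of]⟩, rfl⟩
  obtain ⟨B, hB⟩ : ∃ B : SL(2, ZMod p), B.1 = !![a, b; b, -a] :=
    ⟨⟨_, by rw [Matrix.det_fin_two_of]; linear_combination -hab⟩, rfl⟩
  obtain ⟨hAc, hBc⟩ := hcomm A B hA hB
  have hAA : A * A = -1 := Subtype.ext (by
    show A.1 * A.1 = -1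
    rw [hA]; ext i j; fin_cases i <;> fin_cases j <;> simp [Matrix.mul_apply, Fin.sum_univ_two])
  have hBB : B * B = -1 := Subtype.ext (by
    show B.1 * B.1 = -1
    rw [hB]
    ext i j
    fin_cases i <;> fin_cases j <;> simp [Matrix.mul_apply, Fin.sum_univ_two] <;>
      first | ring1 | linear_combination hab)
  have hBA : B * A = -(A * B) := Subtype.ext (by
    show B.1 * A.1 = -(A.1 * B.1)
    rw [hA, hB]; ext i j; fin_cases i <;> fin_cases j <;> simp [Matrix.mul_apply, Fin.sum_univ_two])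
  have hAinv : A⁻¹ = -A := inv_eq_of_mul_eq_one_right (by rw [mul_neg, hAA, neg_neg])
  refine ⟨A, B, hAc, hBc, hAA, hBB, fun hc => ?_, ?_⟩
  · rw [hBA] at hc
    have hc' : (A * B).1 = -(A * B).1 := congrArg Subtype.val hc
    have h0 : (A * B).1 = 0 := by
      have h4 : (2 : ZMod p) • (A * B).1 = 0 := by rw [two_smul]; exact eq_neg_iff_add_eq_zero.mp hc'
      exact (smul_eq_zero.mp h4).resolve_left h2
    have := congrArg Matrix.det h0
    rw [(A * B).2, Matrix.det_zero] at this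
    exact one_ne_zero this
  · rw [hBA, neg_mul, mul_assoc, mul_inv_cancel, mul_one, hAinv]

/-- **No section `SL₂(p)`.** -/
theorem no_section {F : Type} [Field F] [Fintype F] (hF : Odd (Fintype.card F)) {Y : Type u} [Group Y] [Finite Y]
    (f : Y →* SL(2, F)) (hker : Odd (Nat.card f.ker)) {z : Y} (hz : f z = -1) {X : Type v} [Group X]
    (ψ : Y →* X) (hψz : ψ z = 1) {p : ℕ} [Fact p.Prime] (hp : p ≠ 2) (K : Subgroup X) (g : K →* SL(2, ZMod p))
    (hg : Function.Surjective g) (hK : ∀ a ∈ K, ∀ b ∈ K, ⁅a, b⁆ ∈ ψ.range) : False := by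
  classical
  haveI : Fact (Nat.Prime 2) := ⟨Nat.prime_two⟩
  obtain ⟨A, B, hAc, hBc, hAA, hBB, hAB, hBA⟩ := exists_q8 p hp
  set Y₀ := K.comap ψ
  let h : Y₀ →* SL(2, ZMod p) := g.comp (ψ.subgroupComap K)
  have hrange : commutator SL(2, ZMod p) ≤ h.range := by
    rw [commutator_def, Subgroup.commutator_le]
    intro x _ y _
    obtain ⟨⟨a, ha⟩, rfl⟩ := hg x
    obtain ⟨⟨b, hb⟩, rfl⟩ := hg y
    obtain ⟨w, hw⟩ := hK a ha b hb
    have hwK : ψ w ∈ K := by
      rw [hw, commutatorElement_def]; exact mul_mem (mul_mem (mul_mem ha hb) (inv_mem ha)) (inv_mem hb)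
    refine ⟨⟨w, hwK⟩, ?_⟩
    rw [← map_commutatorElement]
    exact congrArg g (Subtype.ext hw)
  have hcyc : ∀ C : SL(2, ZMod p), C * C = -1 → IsPGroup 2 (Subgroup.zpowers C) := fun C hC => by
    have h4 : C ^ 2 ^ 2 = 1 := by rw [pow_two 2, pow_mul, pow_two, pow_two, hC, neg_mul_neg, one_mul]
    obtain ⟨m, -, hm⟩ := (Nat.dvd_prime_pow Nat.prime_two).mp (orderOf_dvd_of_pow_eq_one h4)
    exact IsPGroup.of_card (n := m) (by rw [Nat.card_zpowers, hm])
  set H := Subgroup.zpowers A ⊔ Subgroup.zpowers B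
  have hH : IsPGroup 2 H := by
    refine (hcyc A hAA).to_sup_of_normal_left' (hcyc B hBB) ?_
    rw [Subgroup.zpowers_le]
    refine Subgroup.mem_normalizer_fintype fun y hy => ?_
    obtain ⟨k, rfl⟩ := Subgroup.mem_zpowers_iff.mp hy
    rw [← conj_zpow, hBA]
    exact Subgroup.zpow_mem _ (inv_mem (Subgroup.mem_zpowers A)) k
  have hHle : H ≤ h.range :=
    sup_le (Subgroup.zpowers_le.mpr (hrange hAc)) (Subgroup.zpowers_le.mpr (hrange hBc))
  set Y₁ := H.comap h
  let h₁ : Y₁ →* H := h.subgroupComap H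
  have hsurj : Function.Surjective h₁ := by
    rintro ⟨x, hx⟩
    obtain ⟨y, hy⟩ := hHle hx
    exact ⟨⟨y, show h y ∈ H from hy ▸ hx⟩, Subtype.ext hy⟩
  obtain ⟨T⟩ : Nonempty (Sylow 2 Y₁) := inferInstance
  have hTH : (T : Subgroup Y₁).map h₁ = ⊤ := by
    rw [← Sylow.coe_mapSurjective hsurj T]
    obtain ⟨n, hn⟩ := hH.exists_card_eq
    refine Subgroup.eq_top_of_card_eq _ ?_
    rw [(T.mapSurjective hsurj).card_eq_multiplicity, hn, Nat.prime_two.factorization_pow, Finsupp.single_eq_same]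
  obtain ⟨a, haT, ea⟩ := hTH.ge (Subgroup.mem_top (⟨A, Subgroup.mem_sup_left (Subgroup.mem_zpowers A)⟩ : H))
  obtain ⟨b, hbT, eb⟩ := hTH.ge (Subgroup.mem_top (⟨B, Subgroup.mem_sup_right (Subgroup.mem_zpowers B)⟩ : H))
  let ι : Y₁ →* Y := Y₀.subtype.comp Y₁.subtype
  have hT2 : IsPGroup 2 ((T : Subgroup Y₁).map (f.comp ι)) := T.2.map _
  obtain ⟨P, hP⟩ := hT2.exists_le_sylow
  obtain ⟨k, hk, ⟨e⟩⟩ := Cfsg.Agent.S0261.result hF P
  -- the squares of the lifts are neither `1` nor `-1`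
  have hodd1 : ∀ t : Y₁, ((h t) * (h t) = -1) → f (ι t) * f (ι t) ≠ 1 ∧ f (ι t) * f (ι t) ≠ -1 := by
    intro t ht
    have key : ∀ w : Y₀, f (w : Y) = 1 → h w ≠ -1 := by
      intro w hw e1
      have h1 : orderOf (h w) ∣ Nat.card f.ker :=
        (orderOf_map_dvd h w).trans ((Subgroup.orderOf_coe w) ▸ Subgroup.orderOf_dvd_natCard _ hw)
      have h2 : orderOf (h w) ∣ 2 := orderOf_dvd_of_pow_eq_one (by rw [e1, pow_two, neg_mul_neg, one_mul])
      have h3 := orderOf_eq_one_iff.mp (Nat.eq_one_of_dvd_coprimes (Nat.coprime_two_right.mpr hker) h1 h2)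
      rw [e1] at h3
      exact SL2Orders.two_ne_zero_of_odd (F := ZMod p) (by rw [ZMod.card]; exact (Fact.out : p.Prime).odd_of_ne_two hp)
        (by
          have := congrFun (congrFun (congrArg Subtype.val h3) 0) 0
          simp [show ((-1 : SL(2, ZMod p))).1 = -1 from rfl] at this
          linear_combination -this)
    refine ⟨fun e1 => key (t.1 * t.1) (by
      show f ((t.1 : Y) * t.1) = 1
      rw [map_mul]; exact e1) (by rw [map_mul]; exact ht), fun e1 => ?_⟩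
    have hzY : z ∈ Y₀ := by show ψ z ∈ K; rw [hψz]; exact one_mem K
    refine key ((⟨z, hzY⟩ : Y₀)⁻¹ * (t.1 * t.1)) (by
      show f (z⁻¹ * ((t.1 : Y) * t.1)) = 1
      rw [map_mul, map_inv, map_mul, hz, show f (t.1 : Y) * f (t.1 : Y) = -1 from e1, inv_mul_cancel]) ?_
    rw [map_mul, map_inv, map_mul, ht,
      show h ⟨z, hzY⟩ = 1 from (congrArg g (Subtype.ext hψz : ψ.subgroupComap K ⟨z, hzY⟩ = 1)).trans (map_one g),
      inv_one, one_mul]
  -- such elements lie in the cyclic half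
  have hA' : ∀ t : Y₁, ∀ htT : t ∈ (T : Subgroup Y₁), h t * h t = -1 →
      ∃ i : ZMod (2 * 2 ^ k), e ⟨f (ι t), hP ⟨t, htT, rfl⟩⟩ = QuaternionGroup.a i := by
    intro t htT ht
    obtain ⟨hn1, hn2⟩ := hodd1 t ht
    generalize hy : e ⟨f (ι t), hP ⟨t, htT, rfl⟩⟩ = y
    rcases y with i | i
    · exact ⟨i, rfl⟩
    · exfalso
      haveI : NeZero (2 ^ k) := ⟨by positivity⟩
      have h4 : (⟨f (ι t), hP ⟨t, htT, rfl⟩⟩ : (P : Subgroup SL(2, F))) ^ 4 = 1 := e.injective (by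
        rw [map_pow, hy, map_one, ← QuaternionGroup.orderOf_xa i, pow_orderOf_eq_one])
      have h4' : f (ι t) * f (ι t) * (f (ι t) * f (ι t)) = 1 := by
        have h5 : f (ι t) ^ 4 = 1 := congrArg Subtype.val h4
        rw [← h5]; simp only [pow_succ, pow_zero, one_mul, mul_assoc]
      rcases SL2Orders.eq_one_or_neg_one_of_sq (SL2Orders.two_ne_zero_of_odd hF) _ h4' with h6 | h6
      · exact hn1 h6
      · exact hn2 h6
  have eA : h a = A := congrArg Subtype.val ea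
  have eB : h b = B := congrArg Subtype.val eb
  obtain ⟨i, hi⟩ := hA' a haT (by rw [eA, hAA])
  obtain ⟨j, hj⟩ := hA' b hbT (by rw [eB, hBB])
  have hcf : f (ι a) * f (ι b) = f (ι b) * f (ι a) := by
    have : (⟨f (ι a), hP ⟨a, haT, rfl⟩⟩ : (P : Subgroup SL(2, F))) * ⟨f (ι b), hP ⟨b, hbT, rfl⟩⟩ =
        ⟨f (ι b), hP ⟨b, hbT, rfl⟩⟩ * ⟨f (ι a), hP ⟨a, haT, rfl⟩⟩ := e.injective (by
      rw [map_mul, map_mul, hi, hj, QuaternionGroup.a_mul_a, QuaternionGroup.a_mul_a, add_comm])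
    exact congrArg Subtype.val this
  have hc1 : ⁅a, b⁆ = 1 := by
    have hmem : ι ⁅a, b⁆ ∈ f.ker := by
      rw [MonoidHom.mem_ker, map_commutatorElement, map_commutatorElement,
        commutatorElement_eq_one_iff_mul_comm]
      exact hcf
    have h1 : orderOf (ι ⁅a, b⁆) ∣ Nat.card f.ker := Subgroup.orderOf_dvd_natCard _ hmem
    rw [orderOf_injective ι (Y₀.subtype_injective.comp Y₁.subtype_injective)] at h1
    obtain ⟨m, hm⟩ := T.2 ⟨⁅a, b⁆, mul_mem (mul_mem (mul_mem haT hbT) (inv_mem haT)) (inv_mem hbT)⟩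
    exact orderOf_eq_one_iff.mp (Nat.eq_one_of_dvd_coprimes (Nat.coprime_two_left.mpr hker |>.pow_left m)
      (orderOf_dvd_of_pow_eq_one (congrArg Subtype.val hm)) h1)
  have h7 := congrArg (fun t : Y₁ => h t) hc1
  simp only [map_commutatorElement, eA, eB, map_one, OneMemClass.coe_one,
    show ((⁅a, b⁆ : Y₁) : Y₀) = ⁅(a : Y₀), (b : Y₀)⁆ from rfl] at h7
  exact hAB (commutatorElement_eq_one_iff_mul_comm.mp h7)

end CfsgLib.RankTwoModel.SL2
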