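import Cfsg.Agent.Lib.RankTwoModel.SL2Odd
import Cfsg.Agent.Lib.RankTwoModel.Quad
import Mathlib.GroupTheory.Transfer

/-!
Orbits of a cover of `SL₂(q)` acting on an abelian `p`-group with a quadratic `p`-element.

* `ker_le`: the kernel of the action lies in the kernel of the cover;
* `no_fix`: a semisimple element of odd prime order has no fixed point;
* `orbit_large`: every orbit other than `{1}` has at least `q² - 1` points.

Blueprint: `blueprint/RankTwo_P3.md`.
-/

set_option autoImplicit false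
set_option linter.unusedSectionVars false
set_option linter.style.haveILetI false

namespace CfsgLib.RankTwoModel.Orbit

open Matrix
open scoped MatrixGroups commutatorElement IsMulCommutative

universe u

/-- A cover of `SL₂(F)` acting with the central involution inverting. -/
structure Act (D : Type u) [Group D] (V : Type u) [CommGroup V] (F : Type) [Field F] [Fintype F] (p : ℕ) where
  π : D →* Matrix.SpecialLinearGroup (Fin 2) F
  surj : Function.Surjective π
  odd_ker : Odd (Nat.card π.ker)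
  ρ : D →* MulAut V
  z : D
  z_π : π z = -1
  z_ρ : ∀ v, ρ z v = v⁻¹
  central : ∀ k ∈ π.ker, ∀ x : D, Commute (ρ k) (ρ x)
  pfree : ∀ k ∈ π.ker, (∃ m : ℕ, ρ k ^ p ^ m = 1) → ρ k = 1

variable {D : Type u} [Group D] [Finite D] [Group.IsPerfect D] {V : Type u} [CommGroup V] [Finite V]
  {F : Type} [Field F] [Fintype F] {p : ℕ} [Fact p.Prime] (hp : p ≠ 2) (hV : IsPGroup p V)
  (hF : Odd (Fintype.card F)) (h3 : 3 < Fintype.card F) (ℓ : ℕ) [Fact ℓ.Prime] [CharP F ℓ]
  (S : Act D V F p)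

local notation "SL" => Matrix.SpecialLinearGroup (Fin 2) F

include hp hV in
theorem eq_one_of_eq_inv {v : V} (h : v = v⁻¹) : v = 1 := by
  obtain ⟨k, hk⟩ := hV v
  have h2 : v ^ 2 = 1 := by rw [pow_two]; conv_lhs => arg 2; rw [h]
                            rw [mul_inv_cancel]
  have := pow_gcd_eq_one.mpr ⟨hk, h2⟩
  rwa [((Nat.coprime_primes (Fact.out : p.Prime) Nat.prime_two).mpr hp).pow_left k |>.gcd_eq_one, pow_one] at this

include hp hV in
/-- An element of the cover's kernel does not invert a non-trivial element. -/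
theorem not_inverts {k : D} (hk : k ∈ S.π.ker) {v : V} (h : S.ρ k v = v⁻¹) : v = 1 := by
  obtain ⟨j, hj⟩ := S.odd_ker
  have hpow : k ^ (2 * j + 1) = 1 := by
    rw [← hj]
    exact congrArg Subtype.val (pow_card_eq_one' (x := (⟨k, hk⟩ : S.π.ker)))
  have hsq : ∀ i : ℕ, ((S.ρ k) ^ (2 * i)) v = v := fun i => by
    induction i with
    | zero => rfl
    | succ i ih =>
      rw [show 2 * (i + 1) = 2 * i + (1 + 1) by ring, pow_add, MulAut.mul_apply, pow_add, pow_one, MulAut.mul_apply,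
        h, map_inv, h, inv_inv, ih]
  have h1 : ((S.ρ k) ^ (2 * j + 1)) v = v := by rw [← map_pow, hpow, map_one]; rfl
  rw [pow_succ, MulAut.mul_apply, h, map_inv, hsq] at h1
  exact eq_one_of_eq_inv hp hV h1.symm

include hp hV hF h3 in
/-- The kernel of the action lies in the kernel of the cover. -/
theorem ker_le [Nontrivial V] : S.ρ.ker ≤ S.π.ker := by
  intro x hx
  obtain ⟨v, hv⟩ := exists_ne (1 : V)
  haveI : Group.IsPerfect SL := ⟨CfsgLib.StSL.perfect_SL2 h3⟩
  have hneg : (-1 : SL) ∉ S.ρ.ker.map S.π := by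
    rintro ⟨y, hy, hyz⟩
    refine hv (not_inverts hp hV S (k := y⁻¹ * S.z) (by
      rw [MonoidHom.mem_ker, map_mul, map_inv, hyz, S.z_π, inv_mul_cancel]) ?_)
    rw [map_mul, map_inv, MonoidHom.mem_ker.mp hy, inv_one, one_mul, S.z_ρ]
  haveI hn : (S.ρ.ker.map S.π).Normal := (MonoidHom.normal_ker S.ρ).map S.π S.surj
  by_contra hxk
  have hne : ¬ S.ρ.ker.map S.π ≤ Subgroup.center SL := by
    intro hle
    obtain ⟨r, hr, hA⟩ := Matrix.SpecialLinearGroup.mem_center_iff.mp (hle ⟨x, hx, rfl⟩)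
    rw [Fintype.card_fin, sq_eq_one_iff] at hr
    rcases hr with rfl | rfl
    · exact hxk (MonoidHom.mem_ker.mpr (Subtype.ext (by rw [← hA, map_one]; rfl)))
    · refine hneg ⟨x, hx, Subtype.ext ?_⟩
      rw [← hA, map_neg, map_one]
      rfl
  haveI : IsSimpleGroup (Matrix.ProjectiveSpecialLinearGroup (Fin 2) F) :=
    Matrix.ProjectiveSpecialLinearGroup.rank_two_simple (by rw [Nat.card_eq_fintype_card]; omega)
  haveI := hn.map (PSL2.mk : SL →* _) (QuotientGroup.mk'_surjective _)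
  rcases IsSimpleGroup.eq_bot_or_eq_top_of_normal ((S.ρ.ker.map S.π).map (PSL2.mk : SL →* _)) inferInstance with h | h
  · refine hne ?_
    rw [Subgroup.map_eq_bot_iff] at h
    intro y hy
    exact (QuotientGroup.eq_one_iff y).mp (h hy)
  · refine hneg ?_
    have htop : (⊤ : Subgroup SL) ≤ S.ρ.ker.map S.π := by
      rw [← (Group.IsPerfect.commutator_eq_top (G := SL)), commutator_def, Subgroup.commutator_le]
      intro a _ b _
      obtain ⟨a', ha', ea⟩ := h.ge (Subgroup.mem_top (PSL2.mk a))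
      have hc : a * a'⁻¹ ∈ Subgroup.center SL :=
        (QuotientGroup.eq_one_iff _).mp (show PSL2.mk (a * a'⁻¹) = 1 by rw [map_mul, map_inv, ea, mul_inv_cancel])
      have hq : QuotientGroup.mk' (S.ρ.ker.map S.π) a' = 1 := (QuotientGroup.eq_one_iff a').mpr ha'
      have hab : Commute (QuotientGroup.mk' (S.ρ.ker.map S.π) a) (QuotientGroup.mk' (S.ρ.ker.map S.π) b) := by
        have e : QuotientGroup.mk' (S.ρ.ker.map S.π) a = QuotientGroup.mk' (S.ρ.ker.map S.π) (a * a'⁻¹) := by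
          rw [map_mul _ a a'⁻¹, map_inv, hq, inv_one, mul_one]
        rw [e]
        exact (show Commute (a * a'⁻¹) b from (Subgroup.mem_center_iff.mp hc b).symm).map _
      refine (QuotientGroup.eq_one_iff _).mp ?_
      show QuotientGroup.mk' (S.ρ.ker.map S.π) ⁅a, b⁆ = 1
      rw [map_commutatorElement, commutatorElement_eq_one_iff_mul_comm]
      exact hab.eq
    exact htop (Subgroup.mem_top _)

/-- An odd prime power subgroup prime to the characteristic is cyclic modulo the kernel, so transfer kills its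
part of the kernel. -/
theorem ker_prime [Nontrivial V] (hp' : p ≠ 2) (hV' : IsPGroup p V) (hF' : Odd (Fintype.card F))
    (h3' : 3 < Fintype.card F) {k : D} (hk : k ∈ S.π.ker) {s : ℕ} (hs : s.Prime)
    (hks : orderOf (S.ρ k) = s) : s = ℓ := by
  by_contra hsl
  haveI : Fact s.Prime := ⟨hs⟩
  have hs2 : s ≠ 2 := fun e => by
    have h1 : orderOf (S.ρ k) ∣ Nat.card S.π.ker :=
      (orderOf_map_dvd S.ρ k).trans (Subgroup.orderOf_dvd_natCard _ hk)
    rw [hks, e] at h1
    exact S.odd_ker.not_two_dvd_nat h1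
  set X := S.ρ.range
  haveI : Finite X := Finite.of_surjective _ S.ρ.rangeRestrict_surjective
  haveI : Group.IsPerfect X := Group.IsPerfect.ofSurjective (f := S.ρ.rangeRestrict) S.ρ.rangeRestrict_surjective
  -- the cover factors through the action
  let g : X →* SL := S.ρ.rangeRestrict.liftOfSurjective S.ρ.rangeRestrict_surjective
    ⟨S.π, by rw [MonoidHom.ker_rangeRestrict]; exact ker_le hp' hV' hF' h3' S⟩
  have hg : ∀ x, g (S.ρ.rangeRestrict x) = S.π x := fun x =>
    MonoidHom.liftOfRightInverse_comp_apply _ _ _ _ x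
  have hgc : ∀ y ∈ g.ker, ∀ x : X, Commute y x := by
    intro y hy x
    obtain ⟨a, rfl⟩ := S.ρ.rangeRestrict_surjective y
    obtain ⟨b, rfl⟩ := S.ρ.rangeRestrict_surjective x
    exact Subtype.ext (S.central a (by rw [MonoidHom.mem_ker, ← hg]; exact hy) b).eq
  set kk : X := S.ρ.rangeRestrict k
  have hkk : orderOf kk = s := by rw [← Subgroup.orderOf_coe]; exact hks
  have hkker : kk ∈ g.ker := by rw [MonoidHom.mem_ker, hg]; exact hk
  obtain ⟨P, hP⟩ := (IsPGroup.of_card (p := s) (n := 1) (G := Subgroup.zpowers kk)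
    (by rw [Nat.card_zpowers, hkk, pow_one])).exists_le_sylow
  have hkP : kk ∈ (P : Subgroup X) := hP (Subgroup.mem_zpowers kk)
  set f := g.comp (P : Subgroup X).subtype
  -- the image is cyclic
  haveI : IsCyclic f.range := by
    by_cases hbot : f.range = ⊥
    · rw [hbot]; infer_instance
    have hfp : IsPGroup s f.range := P.2.of_surjective f.rangeRestrict f.rangeRestrict_surjective
    haveI : Nontrivial f.range := (Subgroup.nontrivial_iff_ne_bot _).mpr hbot
    haveI := hfp.center_nontrivial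
    obtain ⟨⟨⟨y, hy⟩, hyc⟩, hy1⟩ := exists_ne (1 : Subgroup.center f.range)
    obtain ⟨m, hm⟩ := hfp ⟨y, hy⟩
    have hyt := SL2Tori.trace_ne_of_odd ℓ hs hs2 hsl (congrArg Subtype.val hm)
      fun e => hy1 (Subtype.ext (Subtype.ext e))
    haveI := (SL2Tori.isCyclic_centralizer hyt).1
    have hle : f.range ≤ Subgroup.centralizer ({y} : Set SL) := fun a ha =>
      SL2Tori.mem_centralizer.mpr (congrArg Subtype.val (Subgroup.mem_center_iff.mp hyc ⟨a, ha⟩))
    exact isCyclic_of_injective (Subgroup.inclusion hle) (Subgroup.inclusion_injective hle)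
  haveI : IsMulCommutative (P : Subgroup X) := by
    refine f.rangeRestrict.isMulCommutative_of_isCyclic_of_ker_le_center (fun y hy => ?_)
    rw [MonoidHom.ker_rangeRestrict, MonoidHom.mem_ker] at hy
    exact Subgroup.mem_center_iff.mpr fun w => Subtype.ext (hgc y hy w).symm.eq
  have key : ∀ (i : ℕ) (g₀ : X), g₀⁻¹ * kk ^ i * g₀ ∈ (P : Subgroup X) → g₀⁻¹ * kk ^ i * g₀ = kk ^ i :=
    fun i g₀ _ => by rw [mul_assoc, ((hgc kk hkker g₀).pow_left i).eq, inv_mul_cancel_left]
  let T : X →* (P : Subgroup X) := MonoidHom.transfer (MonoidHom.id (P : Subgroup X))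
  have h1 : T kk = 1 := by
    have hle : commutator X ≤ T.ker := Abelianization.commutator_subset_ker T
    rw [Group.IsPerfect.commutator_eq_top] at hle
    exact hle (Subgroup.mem_top kk)
  rw [show T kk = _ from MonoidHom.transfer_eq_pow _ kk key] at h1
  have h2 : kk ^ (P : Subgroup X).index = 1 := congrArg Subtype.val h1
  have h4 := orderOf_dvd_of_pow_eq_one h2
  rw [hkk] at h4
  exact P.not_dvd_index h4

include hp hV hF h3 in
/-- The kernel of the cover acts through an `ℓ`-group. -/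
theorem ker_pow [Nontrivial V] {k : D} (hk : k ∈ S.π.ker) : ∃ j : ℕ, (S.ρ k) ^ ℓ ^ j = 1 := by
  haveI : Finite S.ρ.range := Finite.of_surjective _ S.ρ.rangeRestrict_surjective
  have hpos : 0 < orderOf (S.ρ k) := by
    have h1 : orderOf (S.ρ k) = orderOf (S.ρ.rangeRestrict k) := Subgroup.orderOf_coe (S.ρ.rangeRestrict k)
    rw [h1]; exact orderOf_pos _
  refine ⟨(orderOf (S.ρ k)).primeFactorsList.length, ?_⟩
  rw [← Nat.eq_prime_pow_of_unique_prime_dvd hpos.ne' fun {s} hs hsd => ?_, pow_orderOf_eq_one]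
  refine ker_prime ℓ S hp hV hF h3 (k := k ^ (orderOf (S.ρ k) / s)) (pow_mem hk _) hs ?_
  have hne : orderOf (S.ρ k) / s ≠ 0 := (Nat.div_pos (Nat.le_of_dvd hpos hsd) hs.pos).ne'
  rw [map_pow, orderOf_pow_of_dvd hne (Nat.div_dvd_of_dvd hsd), Nat.div_div_self hsd hpos.ne']

section Fix

variable {c : D} (hcp : ∃ m : ℕ, c ^ p ^ m = 1) (hcq : IsQuad (S.ρ c))
  (hcn : ∀ a : F, (S.π c).1 ≠ a • (1 : Matrix (Fin 2) (Fin 2) F))

include hp hV hF h3 hcp hcq hcn in
/-- **A semisimple element fixes nothing.** -/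
theorem no_fix [Nontrivial V] {h : D} {s : ℕ} (hs : s.Prime) (hs2 : s ≠ 2) (hsl : s ≠ ℓ) (hsp : s ≠ p)
    (hπ : orderOf (S.π h) = s) (hh : ∃ i : ℕ, h ^ s ^ i = 1) {v : V} (hv : S.ρ h v = v) : v = 1 := by
  obtain ⟨k₀, hk₀⟩ := hcp
  have hπc : S.π c ≠ 1 := fun e => hcn 1 (by rw [e, one_smul]; rfl)
  obtain ⟨X, Y, hXY⟩ := SL2.exists_pair ℓ hF (Fact.out : p.Prime) hp (C := S.π c) (k := k₀)
    (by rw [← map_pow, hk₀, map_one]) hπc hs hs2 hsl hπ
  obtain ⟨x, rfl⟩ := S.surj X
  obtain ⟨y, rfl⟩ := S.surj Y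
  obtain ⟨a, ha⟩ : ∃ a, a = x * c * x⁻¹ := ⟨_, rfl⟩
  obtain ⟨b, hb⟩ : ∃ b, b = y * c * y⁻¹ := ⟨_, rfl⟩
  set ζ := (S.z * h)⁻¹ * (a * b) with hζ
  have hζk : ζ ∈ S.π.ker := by
    rw [MonoidHom.mem_ker, hζ, map_mul, map_inv, map_mul, S.z_π, ha, hb, map_mul, map_mul, map_mul, map_inv,
      map_mul, map_mul, map_inv, hXY, neg_one_mul, inv_mul_cancel]
  obtain ⟨j, hj⟩ := ker_pow hp hV hF h3 ℓ S hζk
  -- the ring of endomorphisms
  let r : D →* Module.End ℤ (Additive V) :=
    { toFun := fun d => (MonoidHom.toAdditive (S.ρ d).toMonoidHom).toIntLinearMap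
      map_one' := by rw [map_one]; rfl
      map_mul' := fun d e => by rw [map_mul]; rfl }
  have hr : ∀ d w, r d w = Additive.ofMul (S.ρ d w.toMul) := fun d w => rfl
  have hrz : r S.z = -1 := LinearMap.ext fun w => by
    show Additive.ofMul (S.ρ S.z w.toMul) = -w
    rw [S.z_ρ]; rfl
  have hinv : ∀ d : D, r d * r d⁻¹ = 1 := fun d => by rw [← map_mul, mul_inv_cancel, map_one]
  have hinv' : ∀ d : D, r d⁻¹ * r d = 1 := fun d => by rw [← map_mul, inv_mul_cancel, map_one]
  have hcen : ∀ d, Commute (r ζ) (r d) := fun d => by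
    refine LinearMap.ext fun w => ?_
    exact congrArg Additive.ofMul (MulEquiv.congr_fun (S.central ζ hζk d).eq w.toMul)
  have hcen' : ∀ d, Commute (r ζ⁻¹) (r d) := fun d => by
    refine LinearMap.ext fun w => ?_
    exact congrArg Additive.ofMul (MulEquiv.congr_fun (S.central ζ⁻¹ (inv_mem hζk) d).eq w.toMul)
  have hC : (r c - 1) * (r c - 1) = 0 := LinearMap.ext fun w => by
    show r c (r c w - w) - (r c w - w) = 0
    rw [sub_eq_zero]
    show Additive.ofMul (S.ρ c (r c w - w).toMul) = r c w - w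
    exact congrArg Additive.ofMul ((congrArg (S.ρ c) (div_eq_mul_inv _ _)).trans ((hcq w.toMul).trans (div_eq_mul_inv _ _).symm))
  have hquad : ∀ u : D, (r (u * c * u⁻¹) - 1) * (r (u * c * u⁻¹) - 1) = 0 := fun u => by
    rw [show r (u * c * u⁻¹) - 1 = r u * (r c - 1) * r u⁻¹ by
      rw [map_mul, map_mul, mul_sub, sub_mul, mul_one, hinv]]
    rw [show r u * (r c - 1) * r u⁻¹ * (r u * (r c - 1) * r u⁻¹) =
      r u * (r c - 1) * (r u⁻¹ * r u) * (r c - 1) * r u⁻¹ by simp only [mul_assoc], hinv', mul_one,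
      mul_assoc (r u), hC, mul_zero, zero_mul]
  set A := r a - 1
  set B := r b - 1
  have hA : A * A = 0 := by simp only [A, ha]; exact hquad x
  have hB : B * B = 0 := by simp only [B, hb]; exact hquad y
  have hneg : ∀ d : D, (r d - 1) * (r d - 1) = 0 → r d⁻¹ = 1 - (r d - 1) := fun d hd => by
    have h1 : r d * (1 - (r d - 1)) = 1 := by
      rw [show r d * (1 - (r d - 1)) = 1 - (r d - 1) * (r d - 1) by
        simp only [mul_sub, sub_mul, one_mul, mul_one]; abel, hd, sub_zero]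
    calc r d⁻¹ = r d⁻¹ * (r d * (1 - (r d - 1))) := by rw [h1, mul_one]
      _ = _ := by rw [← mul_assoc, hinv', one_mul]
  set g := r (a * b) with hg
  set g' := r (a * b)⁻¹ with hg'
  set N₀ := A * B + B * A with hN₀
  have hsum : g + g' = N₀ + 2 := by
    rw [hg, hg', _root_.mul_inv_rev, map_mul, map_mul, hneg a hA, hneg b hB]
    simp only [hN₀, A, B, mul_sub, sub_mul, one_mul, mul_one, ← one_add_one_eq_two]
    abel
  have hNA : Commute N₀ A := by
    show N₀ * A = A * N₀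
    rw [hN₀, add_mul, mul_add, mul_assoc B A A, hA, mul_zero, ← mul_assoc A A B, hA, zero_mul, add_zero, zero_add,
      mul_assoc]
  have hNB : Commute N₀ B := by
    show N₀ * B = B * N₀
    rw [hN₀, add_mul, mul_add, mul_assoc A B B, hB, mul_zero, ← mul_assoc B B A, hB, zero_mul, add_zero, zero_add,
      mul_assoc]
  set K := g + g' + (r ζ + r ζ⁻¹)
  have hKd : ∀ d : D, Commute N₀ (r d) → Commute K (r d) := fun d hd => by
    show Commute (g + g' + (r ζ + r ζ⁻¹)) (r d)
    rw [hsum]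
    exact (hd.add_left (Nat.cast_commute 2 _)).add_left ((hcen d).add_left (hcen' d))
  have hKa : Commute K (r a) := hKd a (by
    rw [show r a = A + 1 by simp [A]]; exact hNA.add_right (Commute.one_right _))
  have hKb : Commute K (r b) := hKd b (by
    rw [show r b = B + 1 by simp [B]]; exact hNB.add_right (Commute.one_right _))
  have hab : a * b = S.z * h * ζ := by rw [hζ, mul_inv_cancel_left]
  have hgh : g = -(r h * r ζ) := by rw [hg, hab, map_mul, map_mul, hrz, neg_one_mul, neg_mul]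
  have hg'h : g' = -(r ζ⁻¹ * r h⁻¹) := by
    have h1 : g * -(r ζ⁻¹ * r h⁻¹) = 1 := by
      rw [hgh, neg_mul_neg, ← mul_assoc, mul_assoc (r h), hinv, mul_one, hinv]
    calc g' = g' * (g * -(r ζ⁻¹ * r h⁻¹)) := by rw [h1, mul_one]
      _ = _ := by rw [← mul_assoc, hg', hg, hinv', one_mul]
  -- a vector in the invariant subspace
  have key : ∀ w : Additive V, K w = 0 → r h w = w := by
    intro w hw
    set u := w - r h w with hu
    have h1 : r h u = r ζ⁻¹ (r ζ⁻¹ u) := by
      have h2 : (r ζ⁻¹ * g) * (g + g' + (r ζ + r ζ⁻¹)) = (1 - r h) * (r ζ⁻¹ - r h * r ζ) := by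
        rw [hgh, hg'h]
        have c1 : r ζ⁻¹ * (r h * r ζ) = r h := by
          rw [← mul_assoc, (hcen' h).eq, mul_assoc, hinv', mul_one]
        have c2 : r h * r ζ * (r ζ⁻¹ * r h⁻¹) = 1 := by
          rw [← mul_assoc, mul_assoc (r h), hinv, mul_one, hinv]
        have c3 : r h * r ζ⁻¹ = r ζ⁻¹ * r h := (hcen' h).eq.symm
        have c4 : r ζ⁻¹ * (r h * r ζ * (r h * r ζ)) = r h * (r h * r ζ) := by rw [← mul_assoc, c1]
        have c5 : r ζ⁻¹ * (r h * r ζ * r ζ⁻¹) = r h * r ζ⁻¹ := by rw [← mul_assoc, c1]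
        calc (r ζ⁻¹ * -(r h * r ζ)) * (-(r h * r ζ) + -(r ζ⁻¹ * r h⁻¹) + (r ζ + r ζ⁻¹))
            = r ζ⁻¹ * (r h * r ζ * (r h * r ζ)) + r ζ⁻¹ * (r h * r ζ * (r ζ⁻¹ * r h⁻¹)) -
              (r ζ⁻¹ * (r h * r ζ)) * r ζ - r ζ⁻¹ * (r h * r ζ * r ζ⁻¹) := by noncomm_ring
          _ = r h * (r h * r ζ) + r ζ⁻¹ - r h * r ζ - r h * r ζ⁻¹ := by rw [c4, c2, mul_one, c1, c5]
          _ = _ := by noncomm_ring
      have h3 := congrArg (fun T : Module.End ℤ (Additive V) => T w) h2
      have h4 : ((1 - r h) * (r ζ⁻¹ - r h * r ζ)) w = 0 := by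
        rw [← h3]
        show (r ζ⁻¹ * g) (K w) = 0
        rw [hw, map_zero]
      have h5 : (r ζ⁻¹ - r h * r ζ) * (1 - r h) = (1 - r h) * (r ζ⁻¹ - r h * r ζ) :=
        ((Commute.one_right _).sub_right ((hcen' h).sub_left ((Commute.refl (r h)).mul_left (hcen h)))).eq
      rw [← h5] at h4
      have h6 : r ζ⁻¹ u = r h (r ζ u) := by
        have : r ζ⁻¹ u - r h (r ζ u) = 0 := h4
        exact sub_eq_zero.mp this
      have h7 : r ζ (r h u) = r ζ⁻¹ u := by
        rw [h6]; exact congrArg (fun T : Module.End ℤ (Additive V) => T u) (hcen h).eq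
      calc r h u = (r ζ⁻¹ * r ζ) (r h u) := by rw [hinv']; rfl
        _ = r ζ⁻¹ (r ζ (r h u)) := rfl
        _ = _ := by rw [h7]
    have h1' : r h u = r (ζ⁻¹ * ζ⁻¹) u := by rw [h1, map_mul]; rfl
    have hiter : ∀ n : ℕ, r (h ^ n) u = r ((ζ⁻¹ * ζ⁻¹) ^ n) u := by
      intro n
      induction n with
      | zero => rw [pow_zero, pow_zero]
      | succ n ih =>
        rw [pow_succ, map_mul, pow_succ', map_mul]
        show r (h ^ n) (r h u) = r (ζ⁻¹ * ζ⁻¹) (r ((ζ⁻¹ * ζ⁻¹) ^ n) u)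
        rw [h1', ← ih]
        have hc2 : Commute (r (ζ⁻¹ * ζ⁻¹)) (r (h ^ n)) := by
          rw [map_mul]; exact (hcen' _).mul_left (hcen' _)
        exact (congrArg (fun T : Module.End ℤ (Additive V) => T u) hc2.eq).symm
    obtain ⟨i, hi⟩ := hh
    have hl1 : r ((ζ⁻¹ * ζ⁻¹) ^ ℓ ^ j) = 1 := LinearMap.ext fun t => by
      rw [hr, map_pow, map_mul, map_inv, ((Commute.refl (S.ρ ζ)⁻¹)).mul_pow, inv_pow, hj, inv_one, one_mul]
      rfl
    have hfix : r h u = u := by
      obtain ⟨m, hm⟩ := exists_pow_eq_self_of_coprime (x := h) (n := ℓ ^ j) (Nat.Coprime.coprime_dvd_right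
        (orderOf_dvd_of_pow_eq_one hi) (((Nat.coprime_primes (Fact.out : ℓ.Prime) hs).mpr (Ne.symm hsl)).pow j i))
      have hl2 : r (h ^ ℓ ^ j) u = u := by rw [hiter, hl1]; rfl
      rw [← hm]
      clear hm
      induction m with
      | zero => rw [pow_zero, map_one]; rfl
      | succ m ih =>
        rw [pow_succ, map_mul]
        show r ((h ^ ℓ ^ j) ^ m) (r (h ^ ℓ ^ j) u) = u
        rw [hl2, ih]
    -- so `h` is unipotent, hence trivial
    have hstep : ∀ n : ℕ, r (h ^ n) w = w - n • u := by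
      intro n
      induction n with
      | zero => rw [pow_zero, map_one, zero_smul, sub_zero]; rfl
      | succ n ih =>
        rw [pow_succ', map_mul]
        show r h (r (h ^ n) w) = _
        rw [ih, map_sub, map_nsmul, hfix, show r h w = w - u by rw [hu, sub_sub_cancel], succ_nsmul]
        abel
    have hu0 : u = 0 := by
      have h8 : (s ^ i) • u = 0 := by
        have := hstep (s ^ i)
        rw [hi, map_one] at this
        exact sub_eq_self.mp this.symm
      obtain ⟨e, he⟩ := hV u.toMul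
      have h9 : (p ^ e) • u = 0 := congrArg Additive.ofMul he
      rw [← AddMonoid.addOrderOf_eq_one_iff]
      exact Nat.eq_one_of_dvd_coprimes (((Nat.coprime_primes hs (Fact.out : p.Prime)).mpr hsp).pow i e)
        (addOrderOf_dvd_of_nsmul_eq_zero h8) (addOrderOf_dvd_of_nsmul_eq_zero h9)
    rw [hu, sub_eq_zero] at hu0
    exact hu0.symm
  set w₀ := Additive.ofMul v with hw₀
  have hv0 : K w₀ = 0 := by
    have h1 : r h w₀ = w₀ := by rw [hr]; exact congrArg Additive.ofMul hv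
    have h2 : r h⁻¹ w₀ = w₀ := by
      conv_lhs => rw [← h1]
      show (r h⁻¹ * r h) w₀ = w₀
      rw [hinv']; rfl
    show (g + g' + (r ζ + r ζ⁻¹)) w₀ = 0
    rw [hgh, hg'h, (hcen h).eq.symm]
    show -(r ζ (r h w₀)) + -(r ζ⁻¹ (r h⁻¹ w₀)) + (r ζ w₀ + r ζ⁻¹ w₀) = 0
    rw [h1, h2]
    abel
  have hgW : ∀ w, K w = 0 → g w = -(r ζ w) := fun w hw => by
    rw [hgh, (hcen h).eq.symm]
    show -(r ζ (r h w)) = _
    rw [key w hw]
  have hW : ∀ d : D, Commute K (r d) → ∀ w, K w = 0 → K (r d w) = 0 := fun d hd w hw => by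
    rw [show K (r d w) = (K * r d) w from rfl, hd.eq]
    show r d (K w) = 0
    rw [hw, map_zero]
  have hcomm : ∀ w, K w = 0 → r b (r a w) = r a (r b w) := fun w hw => by
    have e1 : ∀ w, K w = 0 → r b w = r a⁻¹ (-(r ζ w)) := fun w hw => by
      rw [← hgW w hw, hg, map_mul]
      show r b w = (r a⁻¹ * r a) (r b w)
      rw [hinv']; rfl
    have e2 : r a (r b w) = -(r ζ w) := by rw [← hgW w hw, hg, map_mul]; rfl
    rw [e1 _ (hW a hKa w hw), e2, map_neg, ← show (r a * r ζ) w = r ζ (r a w) from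
      congrArg (fun T : Module.End ℤ (Additive V) => T w) (hcen a).eq.symm]
    show -((r a⁻¹ * (r a * r ζ)) w) = _
    rw [← mul_assoc, hinv', one_mul]
  have hWn : ∀ (n : ℕ) w, K w = 0 → K (r (b ^ n) w) = 0 := fun n => by
    induction n with
    | zero => intro w hw; rw [pow_zero, map_one]; exact hw
    | succ n ih => intro w hw; rw [pow_succ, map_mul]; exact ih _ (hW b hKb w hw)
  have hba : ∀ (n : ℕ) w, K w = 0 → r (b ^ n) (r a w) = r a (r (b ^ n) w) := fun n => by
    induction n with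
    | zero => intro w _; rw [pow_zero, map_one]; rfl
    | succ n ih =>
      intro w hw
      rw [pow_succ, map_mul]
      show r (b ^ n) (r b (r a w)) = r a (r (b ^ n) (r b w))
      rw [hcomm w hw, ih _ (hW b hKb w hw)]
  have hpow : ∀ (n : ℕ) w, K w = 0 → r ((a * b) ^ n) w = r (a ^ n) (r (b ^ n) w) := fun n => by
    induction n with
    | zero => intro w _; simp only [pow_zero, map_one]; rfl
    | succ n ih =>
      intro w hw
      rw [pow_succ, map_mul, map_mul]
      show r ((a * b) ^ n) (r a (r b w)) = _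
      rw [ih _ (hW a hKa _ (hW b hKb w hw)), hba n _ (hW b hKb w hw), pow_succ a, map_mul, pow_succ b, map_mul]
      rfl
  have hgn : ∀ n : ℕ, r ((a * b) ^ n) w₀ = ((-r ζ) ^ n : Module.End ℤ (Additive V)) w₀ := fun n => by
    induction n with
    | zero => rw [pow_zero, pow_zero, map_one]
    | succ n ih =>
      rw [pow_succ', map_mul, pow_succ]
      show r (a * b) (r ((a * b) ^ n) w₀) = ((-r ζ) ^ n : Module.End ℤ (Additive V)) ((-r ζ) w₀)
      rw [ih]
      have hc3 : Commute (r (a * b)) ((-r ζ) ^ n) := ((hcen _).symm.neg_right).pow_right n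
      rw [show r (a * b) (((-r ζ) ^ n : Module.End ℤ (Additive V)) w₀) = ((-r ζ) ^ n : Module.End ℤ (Additive V)) (r (a * b) w₀)
        from congrArg (fun T : Module.End ℤ (Additive V) => T w₀) hc3.eq]
      congr 1
      exact hgW w₀ hv0
  have hconj1 : ∀ u : D, (u * c * u⁻¹) ^ p ^ k₀ = 1 := fun u => by rw [conj_pow, hk₀, mul_one, mul_inv_cancel]
  have hfin := hgn (p ^ k₀)
  rw [hpow _ _ hv0, ha, hb, hconj1 x, hconj1 y, map_one, ((Fact.out : p.Prime).odd_of_ne_two hp).pow.neg_pow,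
    ← map_pow] at hfin
  have hinvv : S.ρ (ζ ^ p ^ k₀) v = v⁻¹ := by
    have : w₀ = -(r (ζ ^ p ^ k₀) w₀) := hfin
    exact congrArg Additive.toMul (neg_eq_iff_eq_neg.mp this.symm)
  exact not_inverts hp hV S (pow_mem hζk _) hinvv

include hp hV hF h3 hcp hcq hcn in
/-- In characteristic other than `p` the element lies in no Borel subgroup. -/
theorem not_split [Nontrivial V] (hpl : p ≠ ℓ) : ¬ p ∣ Fintype.card F - 1 := by
  intro hpq
  have hpp : p.Prime := Fact.out
  obtain ⟨k₀, hk₀⟩ := hcp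
  have hπc : S.π c ≠ 1 := fun e => hcn 1 (by rw [e, one_smul]; rfl)
  have hCpow : S.π c ^ p ^ k₀ = 1 := by rw [← map_pow, hk₀, map_one]
  have hCt := SL2Tori.trace_ne_of_odd ℓ hpp hp hpl hCpow hπc
  obtain ⟨a, x, hconj⟩ : ∃ (a : Fˣ) (x : F), IsConj (S.π c) (SL2Char.bor a x) := by
    refine (SL2Char.elem_cases (S.π c)).resolve_left fun he => ?_
    have hcard := SL2Char.card_centralizer_ell he
    have h1 : orderOf (S.π c) ∣ Fintype.card F + 1 := by
      rw [← hcard]
      exact Subgroup.orderOf_dvd_natCard _ (Subgroup.mem_centralizer_singleton_iff.mpr rfl)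
    have hd : p ∣ orderOf (S.π c) := by
      obtain ⟨i, -, hi⟩ := (Nat.dvd_prime_pow hpp).mp (orderOf_dvd_of_pow_eq_one hCpow)
      rcases i with _ | i
      · exact absurd (orderOf_eq_one_iff.mp (hi.trans (pow_zero p))) hπc
      · rw [hi]; exact dvd_pow_self p (Nat.succ_ne_zero i)
    have h2 := Nat.dvd_sub (hd.trans h1) hpq
    rw [show Fintype.card F + 1 - (Fintype.card F - 1) = 2 by omega] at h2
    exact hp ((Nat.prime_dvd_prime_iff_eq hpp Nat.prime_two).mp h2)
  have hT : (SL2Char.bor a x).1.trace = (S.π c).1.trace := by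
    obtain ⟨g, hg⟩ := isConj_iff.mp hconj
    rw [← hg, SL2Char.trace_conj]
  have ha : a ^ 2 ≠ 1 := by
    intro ha
    apply hCt
    rw [← hT, SL2Char.trace_bor, inv_eq_of_mul_eq_one_right (by rw [← sq, ha] : a * a = 1)]
    have : (a : F) * (a : F) = 1 := by rw [← Units.val_mul, ← sq, ha, Units.val_one]
    linear_combination 4 * this
  obtain ⟨g, hg⟩ := isConj_iff.mp (hconj.trans (SL2Char.isConj_bor_zero a ha x))
  obtain ⟨g, rfl⟩ := S.surj g
  obtain ⟨c₁, hc₁⟩ : ∃ c₁, c₁ = g * c * g⁻¹ := ⟨_, rfl⟩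
  have hπ₁ : S.π c₁ = SL2Tori.diagHom a := by rw [hc₁, map_mul, map_mul, map_inv, hg]; rfl
  have hapow : a ^ p ^ k₀ = 1 := by
    have h1 : SL2Tori.diagHom (a ^ p ^ k₀) = (1 : SL) := by
      rw [map_pow, ← hπ₁, ← map_pow, hc₁, conj_pow, hk₀, mul_one, mul_inv_cancel, map_one]
    have h2 := congrFun (congrFun (congrArg Subtype.val h1) 0) 0
    exact Units.ext (by simpa [SL2Tori.diagHom] using h2)
  -- an odd subgroup of a Borel subgroup
  set Y : Subgroup SL :=
    { carrier := {A | A.1 1 0 = 0 ∧ A.1 0 0 ^ p ^ k₀ = 1}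
      one_mem' := by simp
      mul_mem' := fun {A B} hA hB => by
        show (A.1 * B.1) 1 0 = 0 ∧ (A.1 * B.1) 0 0 ^ _ = 1
        simp [Matrix.mul_apply, Fin.sum_univ_two, hA.1, hB.1, mul_pow, hA.2, hB.2]
      inv_mem' := fun {A} hA => by
        have hd := A.2
        rw [Matrix.det_fin_two, hA.1, mul_zero, sub_zero] at hd
        show (A⁻¹).1 1 0 = 0 ∧ (A⁻¹).1 0 0 ^ _ = 1
        rw [Matrix.SpecialLinearGroup.coe_inv, Matrix.adjugate_fin_two]
        refine ⟨by simp [hA.1], ?_⟩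
        have := congrArg (· ^ p ^ k₀) hd
        simpa [mul_pow, hA.2] using this }
  have hYmem : ∀ A : SL, A ∈ Y ↔ A.1 1 0 = 0 ∧ A.1 0 0 ^ p ^ k₀ = 1 := fun A => Iff.rfl
  have hY : Odd (Nat.card Y) := by
    rw [← Nat.not_even_iff_odd, even_iff_two_dvd]
    intro h2
    obtain ⟨⟨A, hA⟩, hAo⟩ := exists_prime_orderOf_dvd_card' 2 h2
    rw [Subgroup.orderOf_mk] at hAo
    rcases SL2Orders.eq_one_or_neg_one_of_sq (SL2Orders.two_ne_zero_of_odd hF) A
      (by have := pow_orderOf_eq_one A; rwa [hAo, pow_two] at this) with e | e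
    · rw [e, orderOf_one] at hAo; omega
    · have h1 := ((hYmem A).mp hA).2
      rw [e] at h1
      simp only [show ((-1 : SL)).1 = -1 from rfl, Matrix.neg_apply, Matrix.one_apply_eq] at h1
      rw [(hpp.odd_of_ne_two hp).pow.neg_one_pow] at h1
      exact SL2Orders.two_ne_zero_of_odd hF (by linear_combination -h1)
  set X := Y.comap S.π
  have hX : Odd (Nat.card X) := by
    let f : X →* Y := S.π.subgroupComap Y
    rw [← f.ker.card_mul_index, Subgroup.index_ker]
    refine Odd.mul ?_ (hY.of_dvd_nat (Subgroup.card_subgroup_dvd_card _))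
    refine S.odd_ker.of_dvd_nat (Subgroup.card_dvd_of_injective
      ((X.subtype.comp f.ker.subtype).codRestrict S.π.ker fun w => congrArg Subtype.val w.2) fun w w' e => ?_)
    exact Subtype.ext (Subtype.ext (congrArg (fun t : S.π.ker => (t : D)) e))
  have hc₁X : c₁ ∈ X := by
    show S.π c₁ ∈ Y
    rw [hπ₁, hYmem]
    exact ⟨by simp [SL2Tori.diagHom], by
      have := congrArg Units.val hapow
      simpa [SL2Tori.diagHom] using this⟩
  obtain ⟨u, hu⟩ := S.surj (PSL2.uSL 1)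
  have huX : u ∈ X := by
    show S.π u ∈ Y
    rw [hu, hYmem, PSL2.coe_uSL]
    simp
  haveI : Finite (MulAut V) := Finite.of_injective (fun e : MulAut V => (e : V → V)) DFunLike.coe_injective
  have hq₁ : IsQuad (S.ρ c₁) := fun v => by
    have e1 : ∀ w, (S.ρ g)⁻¹ (S.ρ g w) = w := fun w => (S.ρ g).symm_apply_apply w
    have h1 : ∀ w, S.ρ c₁ w = S.ρ g (S.ρ c ((S.ρ g)⁻¹ w)) := fun w => by
      rw [hc₁, map_mul, map_mul, map_inv]; rfl
    rw [h1 v, h1 (_ * v⁻¹), map_mul ((S.ρ g)⁻¹ : MulAut V), e1, map_inv ((S.ρ g)⁻¹ : MulAut V),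
      hcq ((S.ρ g)⁻¹ v), map_mul, map_inv]
    congr 2
    exact (S.ρ g).apply_symm_apply v
  have hcore := mem_pCore_of_quad_odd hp hV (X.map S.ρ)
    (hX.of_dvd_nat (Subgroup.card_dvd_of_surjective (S.ρ.subgroupMap X) (S.ρ.subgroupMap_surjective X)))
    ⟨c₁, hc₁X, rfl⟩ hq₁
  set Z : Subgroup (X.map S.ρ) := Cfsg.pCore p (X.map S.ρ)
  haveI : Z.Normal := inferInstance
  have hcom : (⟨S.ρ c₁, c₁, hc₁X, rfl⟩ : X.map S.ρ) *
      (⟨S.ρ u, u, huX, rfl⟩ * ⟨S.ρ c₁, c₁, hc₁X, rfl⟩⁻¹ * (⟨S.ρ u, u, huX, rfl⟩ : X.map S.ρ)⁻¹) ∈ Z :=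
    mul_mem hcore ((inferInstance : Z.Normal).conj_mem _ (inv_mem hcore) _)
  obtain ⟨i, hi⟩ := CfsgLib.isPGroup_pCore p ⟨_, hcom⟩
  have hi' : S.ρ ((c₁ * (u * c₁⁻¹ * u⁻¹)) ^ p ^ i) = 1 := by
    have := congrArg (fun t : Z => ((t : X.map S.ρ) : MulAut V)) hi
    simpa [map_pow, map_mul, map_inv] using this
  have hk := ker_le hp hV hF h3 S (MonoidHom.mem_ker.mpr hi')
  rw [MonoidHom.mem_ker, map_pow, map_mul, map_mul, map_mul, map_inv, map_inv, hπ₁, hu] at hk
  set t : F := (a : F) * a - 1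
  have hπy : SL2Tori.diagHom a * (PSL2.uSL 1 * (SL2Tori.diagHom a)⁻¹ * (PSL2.uSL 1)⁻¹) = PSL2.uSL t := by
    rw [← mul_assoc, ← mul_assoc, mul_inv_eq_iff_eq_mul, mul_inv_eq_iff_eq_mul]
    apply Subtype.ext
    show (SL2Tori.diagHom a).1 * (PSL2.uSL 1).1 = ((PSL2.uSL t).1 * (PSL2.uSL 1).1) * (SL2Tori.diagHom a).1
    simp [SL2Tori.diagHom, PSL2.coe_uSL, t]
  have hupow : ∀ n : ℕ, ((PSL2.uSL t : SL) ^ n).1 = !![1, (n : F) * t; 0, 1] := by
    intro n
    induction n with
    | zero => simp [Matrix.one_fin_two]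
    | succ n ih =>
      rw [pow_succ]
      show ((PSL2.uSL t : SL) ^ n).1 * (PSL2.uSL t).1 = _
      rw [ih, PSL2.coe_uSL, Matrix.mul_fin_two]
      simp [add_mul]
      ring
  rw [hπy] at hk
  have h0 := congrFun (congrFun (congrArg Subtype.val hk) 0) 1
  rw [hupow] at h0
  simp only [Matrix.of_apply, Matrix.cons_val', Matrix.cons_val_one, Matrix.cons_val_zero,
    show ((1 : SL)).1 = 1 from rfl, Matrix.one_apply_ne (show (0 : Fin 2) ≠ 1 by decide), mul_eq_zero] at h0
  rcases h0 with h0 | h0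
  · rw [CharP.cast_eq_zero_iff F ℓ] at h0
    exact hpl ((Nat.prime_dvd_prime_iff_eq Fact.out hpp).mp ((Fact.out : ℓ.Prime).dvd_of_dvd_pow h0)).symm
  · exact ha (Units.ext (by
      rw [Units.val_pow_eq_pow_val, Units.val_one, sq]
      exact sub_eq_zero.mp h0))

include hp hV hF h3 hcp hcq hcn in
/-- **Every orbit other than that of `1` is large.** -/
theorem orbit_large [Nontrivial V] {v : V} (hv : v ≠ 1) :
    Fintype.card F ^ 2 - 1 ≤ Nat.card (Set.range fun x => S.ρ x v) ∧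
      (p = ℓ → Fintype.card F ^ 2 - 1 ∣ Nat.card (Set.range fun x => S.ρ x v)) := by
  classical
  letI act : MulAction D V :=
    { smul := fun x w => S.ρ x w
      one_smul := fun w => by show S.ρ 1 w = w; rw [map_one]; rfl
      mul_smul := fun x y w => by show S.ρ (x * y) w = S.ρ x (S.ρ y w); rw [map_mul]; rfl }
  set H := MulAction.stabilizer D v
  have hHmem : ∀ x, x ∈ H ↔ S.ρ x v = v := fun x => Iff.rfl
  have horb : Nat.card (Set.range fun x => S.ρ x v) = H.index := by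
    rw [MulAction.index_stabilizer]; rfl
  set K := H.map S.π
  have hKodd : Odd (Nat.card K) := by
    rw [← Nat.not_even_iff_odd, even_iff_two_dvd]
    intro h2
    obtain ⟨⟨A, hA⟩, hAo⟩ := exists_prime_orderOf_dvd_card' 2 h2
    rw [Subgroup.orderOf_mk] at hAo
    rcases SL2Orders.eq_one_or_neg_one_of_sq (SL2Orders.two_ne_zero_of_odd hF) A
      (by have := pow_orderOf_eq_one A; rwa [hAo, pow_two] at this) with e | e
    · rw [e, orderOf_one] at hAo; omega
    · obtain ⟨y, hy, rfl⟩ := hA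
      refine hv (not_inverts hp hV S (k := S.z⁻¹ * y) (by
        rw [MonoidHom.mem_ker, map_mul, map_inv, S.z_π, e, inv_mul_cancel]) ?_)
      have hzi : ∀ w, S.ρ S.z⁻¹ w = w⁻¹ := fun w => by
        have h1 : S.ρ S.z⁻¹ (S.ρ S.z w⁻¹) = w⁻¹ := by
          rw [← MulAut.mul_apply, ← map_mul, inv_mul_cancel, map_one]; rfl
        rwa [S.z_ρ, inv_inv] at h1
      rw [map_mul, MulAut.mul_apply, (hHmem y).mp hy, hzi]
  have hdiv : ∀ s : ℕ, s.Prime → s ∣ Nat.card K → s = ℓ ∨ s = p := by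
    intro s hs hsd
    by_contra hne
    rw [not_or] at hne
    haveI : Fact s.Prime := ⟨hs⟩
    obtain ⟨⟨A, hA⟩, hAo⟩ := exists_prime_orderOf_dvd_card' s hsd
    rw [Subgroup.orderOf_mk] at hAo
    obtain ⟨y, hy, rfl⟩ := hA
    have hs2 : s ≠ 2 := fun e => hKodd.not_two_dvd_nat (e ▸ hsd)
    obtain ⟨e, m, hm, hym⟩ := Nat.exists_eq_pow_mul_and_not_dvd (orderOf_pos y).ne' s hs.ne_one
    refine hv (no_fix hp hV hF h3 ℓ S hcp hcq hcn hs hs2 hne.1 hne.2 (h := y ^ m) ?_ ⟨e, ?_⟩ ?_)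
    · rw [map_pow, Nat.Coprime.orderOf_pow (by rw [hAo]; exact hs.coprime_iff_not_dvd.mpr hm), hAo]
    · rw [← pow_mul, mul_comm, ← hym, pow_orderOf_eq_one]
    · exact (hHmem _).mp (pow_mem hy m)
  obtain ⟨hle, hdvd⟩ := SL2.card_le_of_two_types ℓ hF (Fact.out : p.Prime) K hKodd hdiv
    (fun hpl => not_split hp hV hF h3 ℓ S hcp hcq hcn hpl)
  have hfac : H.index = K.index * H.relIndex (K.comap S.π) := by
    rw [← Subgroup.relIndex_mul_index (Subgroup.le_comap_map S.π H), Subgroup.index_comap_of_surjective _ S.surj,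
      mul_comm]
  have hKI : Nat.card K * K.index = Fintype.card F * (Fintype.card F ^ 2 - 1) := by
    rw [K.card_mul_index, SLCard.card_SL_two]
  have hrel : 0 < H.relIndex (K.comap S.π) := Nat.pos_of_ne_zero Subgroup.index_ne_zero_of_finite
  have hq0 : 0 < Fintype.card F := Fintype.card_pos
  rw [horb, hfac]
  refine ⟨?_, fun hpl => ?_⟩
  · refine le_trans ?_ (Nat.le_mul_of_pos_right _ hrel)
    refine Nat.le_of_mul_le_mul_left ?_ hq0
    rw [← hKI]
    exact Nat.mul_le_mul_right _ hle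
  · obtain ⟨m, hm⟩ := hdvd fun s hs hsd => (hdiv s hs hsd).elim id (fun e => e.trans hpl)
    refine Dvd.dvd.mul_right ⟨m, ?_⟩ _
    have hpos : 0 < Nat.card K := Nat.card_pos
    refine Nat.eq_of_mul_eq_mul_left hpos ?_
    rw [hKI, hm]
    ring

end Fix

end CfsgLib.RankTwoModel.Orbit
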