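import Cfsg.Agent.Lib.RankTwoModel.OddNormalized
import Cfsg.Agent.Lib.RankTwoModel.Scalar
import Cfsg.Agent.Lib.RankTwoModel.CMax.Model
import Cfsg.Agent.Lib.RankTwo.Core

/-!
A proper subgroup covering `D` with one component: a perfect cover centralises the odd core and the part of
`O = O(C(z))` inside; so `[O, D] = 1` if it contains an involution `v ≠ z` of `C` and `C_O(v)`.

Blueprint: `blueprint/RankTwo_L5.md` (section B', step 5).
-/

set_option autoImplicit false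
set_option linter.unusedSectionVars false
set_option linter.style.haveILetI false

namespace CfsgLib.RankTwoModel

open Cfsg CfsgLib.BG CfsgLib.GW

universe u

variable {G : Type u} [Group G] [Finite G] {d : Frame G}

/-- The small character at a frame. -/
theorem Frame.Spec.smallChar (hd : d.Spec) (h : Hyp G) : Nonempty (CfsgLib.RankTwo.SmallChar d.z d.q) := by
  haveI : Fintype G := Fintype.ofFinite G
  haveI : Fintype ↥(Subgroup.centralizer ({d.z} : Set G)) := Fintype.ofFinite _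
  haveI := h.simple
  obtain ⟨Ω, _, D, hD, hq, -, -, -⟩ := hd.exists_sys h
  haveI : Finite Ω := Nat.finite_of_card_ne_zero (by rw [hD.core.card]; exact Nat.succ_ne_zero _)
  rw [← hq]
  refine CfsgLib.RankTwo.smallChar_of_sys hD ?_
  rw [hq]
  exact (hd.prime.odd_of_ne_two hd.podd).pow

/-- A perfect subgroup whose commutators with `a` lie in a solvable subgroup it centralises centralises `a`. -/
theorem comm_of_commutators {P S : Subgroup G} [Group.IsPerfect P] (hS : Group.IsSolvable S)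
    (hPS : ∀ y ∈ P, ∀ s ∈ S, y * s = s * y) {a : G} (ha : ∀ y ∈ P, a * y * a⁻¹ * y⁻¹ ∈ S) :
    ∀ y ∈ P, a * y = y * a := by
  let f : P →* S := MonoidHom.mk' (fun y => ⟨_, ha y y.2⟩) fun y₁ y₂ => Subtype.ext (by
    show a * ((y₁ : G) * y₂) * a⁻¹ * ((y₁ : G) * y₂)⁻¹ =
      a * y₁ * a⁻¹ * (y₁ : G)⁻¹ * (a * y₂ * a⁻¹ * (y₂ : G)⁻¹)
    have h1 := hPS y₁ y₁.2 _ (ha y₂ y₂.2)
    calc a * ((y₁ : G) * y₂) * a⁻¹ * ((y₁ : G) * y₂)⁻¹ =
          a * y₁ * a⁻¹ * (a * y₂ * a⁻¹ * (y₂ : G)⁻¹) * (y₁ : G)⁻¹ := by group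
      _ = a * y₁ * a⁻¹ * (y₁ : G)⁻¹ * ((y₁ : G) * (a * y₂ * a⁻¹ * (y₂ : G)⁻¹)) * (y₁ : G)⁻¹ := by group
      _ = a * y₁ * a⁻¹ * (y₁ : G)⁻¹ * ((a * y₂ * a⁻¹ * (y₂ : G)⁻¹) * y₁) * (y₁ : G)⁻¹ := by rw [h1]
      _ = _ := by group)
  intro y hy
  have h1 : f ⟨y, hy⟩ = 1 := CfsgLib.RankTwo.hom_trivial_of_solvable_range Group.IsPerfect.commutator_eq_top f
    inferInstance _
  exact mul_inv_eq_iff_eq_mul.1 (mul_inv_eq_one.1 (congrArg Subtype.val h1))

/-- A perfect cover of `SL₂(q)` inside a subgroup covering `D`. -/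
theorem Frame.Spec.exists_perfect_cover (hd : d.Spec) (hq : 3 < d.q) {H : Subgroup G}
    (hcov : ∀ x ∈ d.D, ∃ o ∈ d.O, x * o ∈ H) :
    ∃ D0 : Subgroup G, Group.IsPerfect D0 ∧ D0 ≤ H ∧ D0 ≤ d.C ∧ (∀ x ∈ d.D, ∃ o ∈ d.O, x * o ∈ D0) ∧
      ∀ c ∈ H, c ∈ d.C → ∀ x ∈ D0, c * x * c⁻¹ ∈ D0 := by
  set B : Subgroup G := H ⊓ d.C with hB
  set k := (CfsgLib.GW.exists_perfect_derived ↥B).choose
  haveI := (CfsgLib.GW.exists_perfect_derived ↥B).choose_spec
  refine ⟨(derivedSeries ↥B k).map B.subtype, Group.IsPerfect.map _, (Subgroup.map_subtype_le _).trans inf_le_left,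
    (Subgroup.map_subtype_le _).trans inf_le_right, fun x hx => ?_, ?_⟩
  · set f := (QuotientGroup.mk' (oddCore ↥d.C)).comp (Subgroup.inclusion (inf_le_right : B ≤ d.C))
    set L := commutator (↥d.C ⧸ oddCore ↥d.C)
    haveI : Group.IsPerfect L := by
      obtain ⟨e⟩ := hd.sl
      haveI : Group.IsPerfect (Matrix.SpecialLinearGroup (Fin 2) d.F) :=
        ⟨CfsgLib.StSL.perfect_SL2 (by rw [hd.card]; exact hq)⟩
      exact Group.IsPerfect.ofSurjective (f := e.symm.toMonoidHom) e.symm.surjective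
    have hle : L ≤ f.range := by
      intro l hl
      rw [show L = _ from (hd.D_cover hq).symm] at hl
      obtain ⟨y, hy, rfl⟩ := hl
      obtain ⟨_, ⟨o', ho', rfl⟩, hyo⟩ := hcov (y : G) ⟨y, hy, rfl⟩
      let o : ↥d.C := o'
      have ho : o ∈ oddCore ↥d.C := ho'
      refine ⟨⟨(y : G) * o, hyo, mul_mem y.2 o.2⟩, ?_⟩
      show QuotientGroup.mk' (oddCore ↥d.C) ((y : ↥d.C) * o) = _
      rw [map_mul, show QuotientGroup.mk' (oddCore ↥d.C) o = 1 from (QuotientGroup.eq_one_iff _).2 ho, mul_one]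
    haveI : Group.IsPerfect (L.subgroupOf f.range) :=
      Group.IsPerfect.ofSurjective (f := (Subgroup.subgroupOfEquivOfLe hle).symm.toMonoidHom)
        (Subgroup.subgroupOfEquivOfLe hle).symm.surjective
    obtain ⟨y, hy, rfl⟩ := hx
    have hfy : QuotientGroup.mk' (oddCore ↥d.C) y ∈ L := (hd.D_cover hq).le ⟨y, hy, rfl⟩
    have h1 := CfsgLib.GW.perfect_le_derived (L.subgroupOf f.range) k
      (show (⟨_, hle hfy⟩ : f.range) ∈ L.subgroupOf f.range from hfy)
    rw [← map_derivedSeries_eq f.rangeRestrict_surjective] at h1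
    obtain ⟨b, hb, hby⟩ := h1
    have hby' : f b = QuotientGroup.mk' (oddCore ↥d.C) y := congrArg Subtype.val hby
    set b' : ↥d.C := Subgroup.inclusion (inf_le_right : B ≤ d.C) b
    have ho : y⁻¹ * b' ∈ oddCore ↥d.C := (QuotientGroup.eq_one_iff _).1 (by
      show QuotientGroup.mk' (oddCore ↥d.C) (y⁻¹ * b') = 1
      rw [map_mul, map_inv, ← hby']
      exact inv_mul_cancel _)
    refine ⟨((y⁻¹ * b' : ↥d.C) : G), ⟨_, ho, rfl⟩, ?_⟩
    show (y : G) * ((y : G)⁻¹ * (b : G)) ∈ _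
    rw [mul_inv_cancel_left]
    exact ⟨b, hb, rfl⟩
  · rintro c hc hcC _ ⟨x, hx, rfl⟩
    exact ⟨⟨c, hc, hcC⟩ * x * ⟨c, hc, hcC⟩⁻¹, (derivedSeries_normal _ _).conj_mem x hx _, rfl⟩

/-- **A perfect cover centralises the odd core and the part of `O` inside.** -/
theorem Frame.Spec.cover_centralizes (hd : d.Spec) (h : Hyp G) (hq : 3 < d.q) {H : Subgroup G}
    (hcov : ∀ x ∈ d.D, ∃ o ∈ d.O, x * o ∈ H) {X : Subgroup G}
    (hXn : ∀ x ∈ H, ∀ y ∈ X, x * y * x⁻¹ ∈ X) (hperf : ∀ P : Subgroup G, P ≤ H → Group.IsPerfect P → P ≤ X)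
    (hcore : (oddCore ↥X).map X.subtype = (oddCore ↥H).map H.subtype) (hzX : d.z ∈ X)
    (hs : IsSimpleGroup (↥X ⧸ oddCore ↥X)) (hqw : QW (↥X ⧸ oddCore ↥X)) (hm : Model (↥X ⧸ oddCore ↥X))
    (hh : CfsgLib.RankTwo.Heis (↥X ⧸ oddCore ↥X) ((⟨d.z, hzX⟩ : ↥X) : ↥X ⧸ oddCore ↥X) d.q)
    {D0 : Subgroup G} [Group.IsPerfect D0] (hD0 : D0 ≤ H) (hD0C : D0 ≤ d.C) :
    Subgroup.centralizer (oddCore ↥X : Set ↥X) ⊔ oddCore ↥X = ⊤ ∧
      (∀ n ∈ (oddCore ↥H).map H.subtype, n * d.z = d.z * n ∧ ∀ y ∈ D0, y * n = n * y) ∧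
      ∀ x ∈ d.O, x ∈ H → ∀ y ∈ D0, x * y = y * x := by
  haveI := hs
  set N := oddCore ↥X with hN
  set zX : ↥X := ⟨d.z, hzX⟩ with hzXdef
  have hNodd : Odd (Nat.card N) := CfsgLib.odd_card_oddCore
  have hz2 : zX * zX = 1 := Subtype.ext (invol_mul_self hd.zord)
  have hzo : orderOf zX = 2 := by rw [hzXdef, Subgroup.orderOf_mk]; exact hd.zord
  have hzN : zX ∉ N := fun hc => by
    have := hNodd.of_dvd_nat (Subgroup.orderOf_dvd_natCard N hc)
    rw [hzo] at this
    exact absurd this (by decide)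
  -- fixed points of `z` in the odd core lie in `O`
  have hC : ∀ n ∈ N, (n : G) * d.z = d.z * n →
      ∃ y ∈ oddCore ↥(Subgroup.centralizer ({d.z} : Set G)), (y : G) = (n : G) := by
    intro n hn hnz
    set Y : Subgroup G := (oddCore ↥H).map H.subtype ⊓ d.C with hY
    have hYodd : Odd (Nat.card Y) := by
      refine Odd.of_dvd_nat ?_ (Subgroup.card_dvd_of_le (inf_le_left : Y ≤ (oddCore ↥H).map H.subtype))
      rw [Subgroup.card_map_of_injective H.subtype_injective]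
      exact CfsgLib.odd_card_oddCore
    have hle := hd.odd_le_O hq (inf_le_right : Y ≤ d.C) hYodd fun x hx => by
      obtain ⟨o, ho, hxo⟩ := hcov x hx
      have hxC : x * o ∈ d.C := mul_mem (d.D_le hx) (d.O_le ho)
      refine ⟨o, ho, Subgroup.mem_normalizer_fintype fun y hy => ⟨?_, d.C.mul_mem (d.C.mul_mem hxC hy.2) (d.C.inv_mem hxC)⟩⟩
      obtain ⟨a, ha, rfl⟩ := hy.1
      exact ⟨⟨x * o, hxo⟩ * a * ⟨x * o, hxo⟩⁻¹, (inferInstance : (oddCore ↥H).Normal).conj_mem a ha _, rfl⟩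
    obtain ⟨y, hy, e⟩ := hle ⟨hcore ▸ ⟨n, hn, rfl⟩, Subgroup.mem_centralizer_singleton_iff.2 hnz⟩
    exact ⟨y, hy, e⟩
  obtain ⟨S⟩ := hd.smallChar h
  have hqodd : Odd d.q := (hd.prime.odd_of_ne_two hd.podd).pow
  have hq5 : 5 ≤ d.q := by obtain ⟨j, hj⟩ := hqodd; omega
  have hcore' := CfsgLib.RankTwo.core_of_smallChar S (invol_mul_self hd.zord) hzX N hNodd hzN hC hd.prime
    (rfl : d.q = d.p ^ d.n) hq5 hqodd hh
  have hzcomm : ∀ n ∈ N, n * zX = zX * n := fun n hn => CfsgLib.RankTwo.commute_of_cover N hNodd hz2 hcore' hn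
  -- the cover centralises the odd core
  have hD0X : D0 ≤ X := hperf D0 hD0 inferInstance
  have hD0N : ∀ y ∈ D0, ∀ n ∈ N, y * (n : G) = n * y := by
    haveI : Group.IsSolvable N := CfsgLib.OddOrder.feitThompson hNodd
    set C := Subgroup.centralizer (N : Set ↥X) with hCdef
    haveI : C.Normal := Subgroup.normal_centralizer
    set π := (QuotientGroup.mk' C).comp N.subtype
    have hπ : Function.Surjective π := fun w => by
      obtain ⟨x, rfl⟩ := QuotientGroup.mk'_surjective C w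
      obtain ⟨c, hc, n, hn, rfl⟩ := Subgroup.mem_sup_of_normal_left.1 (hcore'.symm ▸ Subgroup.mem_top x : x ∈ C ⊔ N)
      refine ⟨⟨n, hn⟩, ?_⟩
      show QuotientGroup.mk' C n = QuotientGroup.mk' C (c * n)
      rw [map_mul, show QuotientGroup.mk' C c = 1 from (QuotientGroup.eq_one_iff c).2 hc, one_mul]
    haveI : Group.IsSolvable (↥X ⧸ C) := Group.isSolvable_of_surjective hπ
    intro y hy n hn
    have h1 := CfsgLib.RankTwo.hom_trivial_of_solvable_range Group.IsPerfect.commutator_eq_top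
      ((QuotientGroup.mk' C).comp (Subgroup.inclusion hD0X)) inferInstance ⟨y, hy⟩
    exact (congrArg Subtype.val (Subgroup.mem_centralizer_iff.1 ((QuotientGroup.eq_one_iff _).1 h1) n hn)).symm
  refine ⟨hcore', fun n hn => ?_, ?_⟩
  · rw [← hcore] at hn
    obtain ⟨n, hn, rfl⟩ := hn
    exact ⟨congrArg Subtype.val (hzcomm n hn), fun y hy => hD0N y hy n hn⟩
  -- inside the component
  have hin : ∀ x ∈ d.O, x ∈ X → ∀ y ∈ D0, x * y = y * x := by
    set π := QuotientGroup.mk' N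
    set R0 : Subgroup ↥X := d.O.subgroupOf X
    set R := R0.map π
    have hR : Odd (Nat.card R) := by
      refine d.O_odd.of_dvd_nat ((Subgroup.card_map_dvd _ π).trans ?_)
      exact Subgroup.card_comap_dvd_of_injective d.O X.subtype X.subtype_injective
    have hlift : ∀ x : ↥X, π x * π zX = π zX * π x → (x : G) ∈ d.C := by
      intro x hx
      set n := x * zX * x⁻¹ * zX with hn
      have hnN : n ∈ N := (QuotientGroup.eq_one_iff _).1 (by
        show π n = 1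
        rw [hn, map_mul, map_mul, map_mul, hx, map_inv, mul_inv_cancel_right, ← map_mul, hz2, map_one])
      have hn1 : n = 1 := by
        have hc := hzcomm n hnN
        have e : n * zX = x * zX * x⁻¹ := by rw [hn, mul_assoc _ zX zX, hz2, mul_one]
        have h2 : (n * zX) * (n * zX) = 1 := by
          rw [e, show x * zX * x⁻¹ * (x * zX * x⁻¹) = x * (zX * zX) * x⁻¹ by group, hz2, mul_one, mul_inv_cancel]
        have h3 : n ^ 2 = 1 := by
          have e2 : n * zX * (n * zX) = n * n * (zX * zX) := by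
            calc n * zX * (n * zX) = n * (zX * n) * zX := by group
              _ = n * (n * zX) * zX := by rw [hc]
              _ = _ := by group
          rw [e2, hz2, mul_one] at h2
          rw [pow_two, h2]
        have h4 : orderOf n ∣ 2 := orderOf_dvd_of_pow_eq_one h3
        rcases (Nat.dvd_prime Nat.prime_two).1 h4 with e1 | e1
        · exact orderOf_eq_one_iff.1 e1
        · have := hNodd.of_dvd_nat (Subgroup.orderOf_dvd_natCard N hnN)
          rw [e1] at this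
          exact absurd this (by decide)
      refine Subgroup.mem_centralizer_singleton_iff.2 ?_
      have h5 : x * zX * x⁻¹ = zX := by
        rw [hn, ← eq_inv_iff_mul_eq_one, inv_eq_of_mul_eq_one_right hz2] at hn1
        exact hn1
      exact congrArg Subtype.val (mul_inv_eq_iff_eq_mul.1 h5)
    have hzt : orderOf (π zX) = 2 := orderOf_eq_prime
      (by rw [pow_two, ← map_mul, hz2, map_one]) (fun e => hzN ((QuotientGroup.eq_one_iff _).1 e))
    have hRC : R ≤ Subgroup.centralizer ({π zX} : Set (↥X ⧸ N)) := by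
      rintro _ ⟨x, hx, rfl⟩
      refine Subgroup.mem_centralizer_singleton_iff.2 ?_
      rw [← map_mul, ← map_mul, show x * zX = zX * x from Subtype.ext (Frame.Spec.z_central (d.O_le hx))]
    have hRn : ∀ c ∈ Subgroup.centralizer ({π zX} : Set (↥X ⧸ N)), ∀ r ∈ R, c * r * c⁻¹ ∈ R := by
      intro c hc r hr
      obtain ⟨c, rfl⟩ := QuotientGroup.mk'_surjective N c
      obtain ⟨r, hr, rfl⟩ := hr
      have hcC := hlift c (Subgroup.mem_centralizer_singleton_iff.1 hc)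
      exact ⟨c * r * c⁻¹, Frame.Spec.O_conj hcC hr, by rw [map_mul, map_mul, map_inv]⟩
    have hcen := Model.odd_central hs hqw hm hzt hR hRC hRn
    intro a ha haX
    haveI : Group.IsPerfect D0 := inferInstance
    refine comm_of_commutators (S := N.map X.subtype) ?_ (fun y hy s hs => ?_) fun y hy => ?_
    · haveI : Group.IsSolvable N := CfsgLib.OddOrder.feitThompson hNodd
      exact Group.isSolvable_of_surjective (X.subtype.subgroupMap_surjective N)
    · obtain ⟨n, hn, rfl⟩ := hs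
      exact hD0N y hy n hn
    · refine ⟨⟨a, haX⟩ * ⟨y, hD0X hy⟩ * ⟨a, haX⟩⁻¹ * ⟨y, hD0X hy⟩⁻¹, (QuotientGroup.eq_one_iff _).1 ?_, rfl⟩
      show π _ = 1
      have h1 := hcen (π ⟨y, hD0X hy⟩)
        (Subgroup.mem_centralizer_singleton_iff.2 (by
          rw [← map_mul, ← map_mul, show (⟨y, hD0X hy⟩ : ↥X) * zX = zX * ⟨y, hD0X hy⟩ from
            Subtype.ext (Frame.Spec.z_central (hD0C hy))]))
        (π ⟨a, haX⟩) ⟨⟨a, haX⟩, ha, rfl⟩
      rw [map_mul, map_mul, map_mul, map_inv, map_inv, ← h1, mul_inv_cancel_right, mul_inv_cancel]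
  intro x hx hxH
  refine comm_of_commutators (S := d.O ⊓ X) ?_ (fun y hy s hs => (hin s hs.1 hs.2 y hy).symm) fun y hy => ?_
  · exact CfsgLib.OddOrder.feitThompson (d.O_odd.of_dvd_nat (Subgroup.card_dvd_of_le inf_le_left))
  · refine ⟨?_, X.mul_mem (hXn x hxH y (hD0X hy)) (X.inv_mem (hD0X hy))⟩
    rw [show x * y * x⁻¹ * y⁻¹ = x * (y * x⁻¹ * y⁻¹) by group]
    exact mul_mem hx (Frame.Spec.O_conj (hD0C hy) (inv_mem hx))

/-- **`[O, D] = 1` once such a subgroup contains an involution `v ≠ z` of `C` and `C_O(v)`.** -/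
theorem Frame.Spec.od_of_component (hd : d.Spec) (h : Hyp G) (hq : 3 < d.q) {H : Subgroup G}
    (hcov : ∀ x ∈ d.D, ∃ o ∈ d.O, x * o ∈ H) {X : Subgroup G}
    (hXn : ∀ x ∈ H, ∀ y ∈ X, x * y * x⁻¹ ∈ X) (hperf : ∀ P : Subgroup G, P ≤ H → Group.IsPerfect P → P ≤ X)
    (hcore : (oddCore ↥X).map X.subtype = (oddCore ↥H).map H.subtype) (hzX : d.z ∈ X)
    (hs : IsSimpleGroup (↥X ⧸ oddCore ↥X)) (hqw : QW (↥X ⧸ oddCore ↥X)) (hm : Model (↥X ⧸ oddCore ↥X))
    (hh : CfsgLib.RankTwo.Heis (↥X ⧸ oddCore ↥X) ((⟨d.z, hzX⟩ : ↥X) : ↥X ⧸ oddCore ↥X) d.q)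
    {v : G} (hv : orderOf v = 2) (hvz : v ≠ d.z) (hvC : v ∈ d.C) (hvH : v ∈ H)
    (hCH : ∀ x ∈ d.O, v * x = x * v → x ∈ H) : ∀ x ∈ d.O, ∀ y ∈ d.D, x * y = y * x := by
  obtain ⟨D0, hD0p, hD0H, hD0C, hD0cov, hD0n⟩ := hd.exists_perfect_cover hq hcov
  haveI := hD0p
  obtain ⟨-, -, hfix⟩ := hd.cover_centralizes h hq hcov hXn hperf hcore hzX hs hqw hm hh hD0H hD0C
  have hEn : d.C ≤ Subgroup.normalizer (d.O : Set G) := fun c hc =>
    Subgroup.mem_normalizer_fintype fun x hx => Frame.Spec.O_conj hc hx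
  have hall := hd.scalar_trivial h hq (d.le_D hD0C) hD0cov hv hvC hvz (hD0n v hvH hvC) d.O_odd
    (hD0C.trans hEn) (hEn hvC) fun y hy hvy x hx => (hfix y hy (hCH y hy hvy) x hx).symm
  obtain ⟨u, hu, huo, huz, -, -⟩ := hd.exists_u
  exact od_of_centralizes h hd hq D0 hD0C hD0cov u hu (fun e => by rw [e, orderOf_one] at huo; omega) huz
    fun x hx _ y hy => (hall y hy x hx).symm

end CfsgLib.RankTwoModel
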