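import Cfsg.Agent.Lib.BG.Setup

/-!
Moved odd radicals: a `p`-group normalised, but not centralised, by the centraliser of an involution.

* `Inv`: such a pair.
* `RadFacts`: the facts needed about them in a model.
* `RadFacts.of_equiv`, `RadFacts.of_at`: transport.
-/

set_option autoImplicit false
set_option linter.unusedSectionVars false

namespace CfsgLib.RankTwoModel

universe u v

variable {X : Type u} [Group X] {Y : Type v} [Group Y]

/-- A moved radical at an involution. -/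
structure Inv (p : ℕ) (w : X) (R : Subgroup X) : Prop where
  prime : p.Prime
  two : p ≠ 2
  word : orderOf w = 2
  pgroup : IsPGroup p R
  norm : ∀ c, c * w = w * c → ∀ r ∈ R, c * r * c⁻¹ ∈ R
  moved : ∃ r ∈ R, r * w ≠ w * r

/-- The facts about moved radicals. -/
structure RadFacts (X : Type u) [Group X] : Prop where
  single : ∀ {p q : ℕ} {w : X} {R R' : Subgroup X}, Inv p w R → Inv q w R' → p = q
  rigid : ∀ {p : ℕ} {w : X} {R : Subgroup X}, Inv p w R → ∀ φ : X ≃* X, φ w = w → (∀ r ∈ R, φ r = r) →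
    ∀ x, φ x = x
  split : ∀ {p : ℕ} {w : X} {R : Subgroup X}, Inv p w R → ∀ φ : X ≃* X, φ w = w → (∀ r ∈ R, φ r ∈ R) →
    (∀ x, φ (φ x) = x) → ∃ b, orderOf b = 2 ∧ b ≠ w ∧ b * w = w * b ∧ φ b = b

theorem Inv.map {p : ℕ} {w : X} {R : Subgroup X} (h : Inv p w R) (e : X ≃* Y) : Inv p (e w) (R.map e.toMonoidHom) where
  prime := h.prime
  two := h.two
  word := by rw [MulEquiv.orderOf_eq]; exact h.word
  pgroup := h.pgroup.map _
  norm := by
    rintro c hc _ ⟨r, hr, rfl⟩
    have hc' : e.symm c * w = w * e.symm c := e.injective (by simpa using hc)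
    exact ⟨_, h.norm _ hc' r hr, by simp⟩
  moved := by
    obtain ⟨r, hr, hne⟩ := h.moved
    exact ⟨e r, ⟨r, hr, rfl⟩, fun e' => hne (e.injective (by simpa using e'))⟩

theorem RadFacts.of_equiv (h : RadFacts Y) (e : X ≃* Y) : RadFacts X where
  single h1 h2 := h.single (h1.map e) (h2.map e)
  rigid {p w R} h1 φ hw hR x := by
    have := h.rigid (h1.map e) (e.symm.trans (φ.trans e)) (by simp [hw])
      (by rintro _ ⟨r, hr, rfl⟩; simp [hR r hr]) (e x)
    simpa using this
  split {p w R} h1 φ hw hR h2 := by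
    obtain ⟨b, hb, hbw, hc, hφ⟩ := h.split (h1.map e) (e.symm.trans (φ.trans e)) (by simp [hw])
      (by rintro _ ⟨r, hr, rfl⟩; exact ⟨φ r, hR r hr, by simp⟩) (fun y => by simp [h2])
    refine ⟨e.symm b, by rw [MulEquiv.orderOf_eq]; exact hb, fun e' => hbw (by rw [← e', e.apply_symm_apply]), ?_, ?_⟩
    · exact e.injective (by simpa using hc)
    · exact e.injective (by simpa using hφ)

/-- One involution suffices when all are conjugate. -/
theorem RadFacts.of_at {w₀ : X} (hconj : ∀ w : X, orderOf w = 2 → ∃ g, g * w * g⁻¹ = w₀)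
    (hs : ∀ {p q : ℕ} {R R' : Subgroup X}, Inv p w₀ R → Inv q w₀ R' → p = q)
    (hr : ∀ {p : ℕ} {R : Subgroup X}, Inv p w₀ R → ∀ φ : X ≃* X, φ w₀ = w₀ → (∀ r ∈ R, φ r = r) → ∀ x, φ x = x)
    (hp : ∀ {p : ℕ} {R : Subgroup X}, Inv p w₀ R → ∀ φ : X ≃* X, φ w₀ = w₀ → (∀ r ∈ R, φ r ∈ R) →
      (∀ x, φ (φ x) = x) → ∃ b, orderOf b = 2 ∧ b ≠ w₀ ∧ b * w₀ = w₀ * b ∧ φ b = b) : RadFacts X := by
  have key : ∀ w : X, orderOf w = 2 → ∃ e : X ≃* X, e w = w₀ := fun w hw =>
    (hconj w hw).imp' MulAut.conj fun g hg => by simpa using hg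
  refine ⟨fun {p q w R R'} h1 h2 => ?_, fun {p w R} h1 φ hw hR x => ?_, fun {p w R} h1 φ hw hR h2 => ?_⟩
  · obtain ⟨e, rfl⟩ := key w h1.word
    exact hs (h1.map e) (h2.map e)
  · obtain ⟨e, rfl⟩ := key w h1.word
    have := hr (h1.map e) (e.symm.trans (φ.trans e)) (by simp [hw]) (by rintro _ ⟨r, h, rfl⟩; simp [hR r h]) (e x)
    simpa using this
  · obtain ⟨e, rfl⟩ := key w h1.word
    obtain ⟨b, hb, hbw, hc, hφ⟩ := hp (h1.map e) (e.symm.trans (φ.trans e)) (by simp [hw])
      (by rintro _ ⟨r, h, rfl⟩; exact ⟨φ r, hR r h, by simp⟩) (fun y => by simp [h2])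
    refine ⟨e.symm b, by rw [MulEquiv.orderOf_eq]; exact hb, fun e' => hbw (by rw [← e', e.apply_symm_apply]), ?_, ?_⟩
    · exact e.injective (by simpa using hc)
    · exact e.injective (by simpa using hφ)

/-- Without moved radicals all is vacuous. -/
theorem RadFacts.of_none (h : ∀ {p : ℕ} {w : X} {R : Subgroup X}, Inv p w R → False) : RadFacts X :=
  ⟨fun h1 _ => (h h1).elim, fun h1 => (h h1).elim, fun h1 => (h h1).elim⟩

/-- A group without moved odd radicals. -/
theorem RadFacts.of_noMoved {X : Type u} [Group X] [Finite X] (h : CfsgLib.BG.NoMoved X) : RadFacts X := by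
  refine RadFacts.of_none fun {p w R} h1 => ?_
  haveI := Fact.mk h1.prime
  obtain ⟨n, hn⟩ := IsPGroup.iff_card.mp h1.pgroup
  have hodd : Odd (Nat.card R) := hn ▸ (h1.prime.odd_of_ne_two h1.two).pow
  obtain ⟨r, hr, hne⟩ := h1.moved
  refine hne (Subgroup.mem_centralizer_singleton_iff.mp (h w R h1.word hodd (fun c hc => ?_) hr))
  have hc' := Subgroup.mem_centralizer_singleton_iff.mp hc
  refine Subgroup.mem_normalizer_iff.mpr fun r => ⟨h1.norm c hc' r, fun hr => ?_⟩
  have := h1.norm c⁻¹ (by rw [inv_mul_eq_iff_eq_mul, ← mul_assoc, hc', mul_inv_cancel_right]) _ hr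
  simpa [mul_assoc] using this

end CfsgLib.RankTwoModel
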