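import Cfsg.Agent.Lib.RankTwoModel.RadDefs
import Cfsg.Agent.Lib.RankTwoModel.LinearShape

/-!
A moved radical lifted to three-dimensional matrices has one of the two shapes.
-/

set_option autoImplicit false
set_option linter.unusedSectionVars false

namespace CfsgLib.RankTwoModel

open Matrix

universe u v

variable {F : Type*} [Field F] [Finite F] {Γ : Type u} [Group Γ] {X : Type v} [Group X] [Finite X]

/-- **The lift of a moved radical has one of the two shapes.** -/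
theorem lift_shape (π : Γ →* X) (hπ : Function.Surjective π) (hker : π.ker ≤ Subgroup.center Γ)
    (f : Γ →* GL (Fin 3) F) (hf : Function.Injective f) (hdet : ∀ g, (f g : Matrix (Fin 3) (Fin 3) F).det = 1)
    {t u l : Γ} {τ τ' : F} (ht : (f t : Matrix (Fin 3) (Fin 3) F) = dgT F)
    (hu : (f u : Matrix (Fin 3) (Fin 3) F) = xUp τ) (hl : (f l : Matrix (Fin 3) (Fin 3) F) = xLo τ')
    (hu' : π u * π t = π t * π u) (hl' : π l * π t = π t * π l) (hτ : τ ≠ 0) (hτ' : τ' ≠ 0) (h2 : (2 : F) ≠ 0)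
    {p : ℕ} {R : Subgroup X} (h : Inv p (π t) R) :
    (∀ g, π g ∈ R → UpShape (f g : Matrix (Fin 3) (Fin 3) F)) ∨
      (∀ g, π g ∈ R → LowShape (f g : Matrix (Fin 3) (Fin 3) F)) := by
  haveI := Fact.mk h.prime
  set P : Subgroup (GL (Fin 3) F) := (R.comap π).map f with hP
  have htt : t * t = 1 := hf (Units.ext (by rw [map_mul, map_one, Units.val_mul, ht, Units.val_one, dgT_sq]))
  have hconj : ∀ c : Γ, π c * π t = π t * π c → ∀ g, π g ∈ R → π (c * g * c⁻¹) ∈ R := fun c hc g hg => by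
    rw [map_mul, map_mul, map_inv]; exact h.norm _ hc _ hg
  have hnil : Group.IsNilpotent P := by
    haveI : Group.IsNilpotent R := h.pgroup.isNilpotent
    haveI : Group.IsNilpotent (R.comap π) :=
      Subgroup.isNilpotent_of_ker_le_center (π.subgroupComap R) fun g hg => Subgroup.mem_center_iff.mpr fun x =>
        Subtype.ext (Subgroup.mem_center_iff.mp (hker (congrArg Subtype.val hg)) x)
    exact Group.nilpotent_of_surjective (f.subgroupMap (R.comap π)) (f.subgroupMap_surjective _)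
  obtain ⟨ℓ, hℓ⟩ := CharP.exists F
  have hT : Tgp P τ τ' := by
    refine ⟨hnil, ?_, ?_, ?_, ?_, hτ, hτ', h2, ℓ, CharP.char_is_prime F ℓ, CharP.cast_eq_zero F ℓ⟩
    · rintro _ ⟨g, -, rfl⟩; exact hdet g
    · rintro _ ⟨g, hg, rfl⟩
      refine ⟨f (t * g * t⁻¹), ⟨_, hconj t rfl g hg, rfl⟩, ?_⟩
      rw [show t⁻¹ = t from inv_eq_of_mul_eq_one_right htt, map_mul, map_mul, Units.val_mul, Units.val_mul, ht]
    · rintro _ ⟨g, hg, rfl⟩
      refine ⟨f (u * g * u⁻¹), ⟨_, hconj u hu' g hg, rfl⟩, ?_⟩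
      rw [map_mul, map_mul, map_inv, Units.val_mul, Units.val_mul, hu, Units.inv_eq_of_mul_eq_one_right
        (show (f u : Matrix (Fin 3) (Fin 3) F) * xUp (-τ) = 1 by rw [hu, xUp_mul, add_neg_cancel, xUp_zero])]
    · rintro _ ⟨g, hg, rfl⟩
      refine ⟨f (l * g * l⁻¹), ⟨_, hconj l hl' g hg, rfl⟩, ?_⟩
      rw [map_mul, map_mul, map_inv, Units.val_mul, Units.val_mul, hl, Units.inv_eq_of_mul_eq_one_right
        (show (f l : Matrix (Fin 3) (Fin 3) F) * xLo (-τ') = 1 by rw [hl, xLo_mul, add_neg_cancel, xLo_zero])]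
  obtain ⟨r, hr, hne⟩ := h.moved
  obtain ⟨g₀, rfl⟩ := hπ r
  have hmv : dgT F * (f g₀ : Matrix (Fin 3) (Fin 3) F) ≠ f g₀ * dgT F := fun e => hne (by
    rw [← ht, ← Units.val_mul, ← Units.val_mul, ← map_mul, ← map_mul] at e
    rw [← map_mul, ← map_mul, hf (Units.ext e.symm)])
  exact (hT.shape (g₀ := f g₀) ⟨g₀, hr, rfl⟩ hmv).imp (fun H g hg => H _ ⟨g, hg, rfl⟩) fun H g hg => H _ ⟨g, hg, rfl⟩

end CfsgLib.RankTwoModel
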