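import Cfsg.Agent.Lib.RankTwoModel.SL2Semi
import Cfsg.Agent.Lib.SL2Sylow
import Cfsg.Agent.Lib.CharTheory.Burnside

/-!
Odd-order subgroups of `SL₂(q)` and products of conjugates.

* `exists_up_conj`: a nontrivial `p`-element in characteristic `p` is conjugate to an upper unitriangular one;
* `exists_pair`: minus a semisimple element of odd order is a product of two conjugates of a given `p`-element;
* `card_le_of_two_types`: an odd subgroup whose element orders involve only `ℓ` and `p` has at most `q` elements.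

Blueprint: `blueprint/RankTwo_P3.md`.
-/

set_option autoImplicit false
set_option linter.unusedSectionVars false
set_option linter.style.haveILetI false
set_option linter.unnecessarySeqFocus false

namespace CfsgLib.RankTwoModel.SL2

open Matrix CfsgLib.PSL2
open scoped MatrixGroups commutatorElement

variable {F : Type} [Field F] [Fintype F] (ℓ : ℕ) [Fact ℓ.Prime] [CharP F ℓ]

local notation "M2" => Matrix (Fin 2) (Fin 2) F
local notation "SL" => Matrix.SpecialLinearGroup (Fin 2) F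
local notation "q" => Fintype.card F

theorem exists_up_conj {C : SL} {k : ℕ} (hC : C ^ ℓ ^ k = 1) (hC1 : C ≠ 1) :
    ∃ (P : SL) (x : F), x ≠ 0 ∧ P * C * P⁻¹ = uSL x := by
  have hp : IsPGroup ℓ (Subgroup.zpowers C) := by
    obtain ⟨m, -, hm⟩ := (Nat.dvd_prime_pow (Fact.out : ℓ.Prime)).mp (orderOf_dvd_of_pow_eq_one hC)
    exact IsPGroup.of_card (n := m) (by rw [Nat.card_zpowers, hm])
  obtain ⟨S, hS⟩ := hp.exists_le_sylow
  obtain ⟨g, hg⟩ := SL2Sylow.sylow_SL ℓ S
  obtain ⟨y, hy, e⟩ := hg.le (hS (Subgroup.mem_zpowers C))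
  obtain ⟨t, rfl⟩ := hy
  refine ⟨g⁻¹, t.toAdd, fun h0 => hC1 ?_, ?_⟩
  · rw [← e]
    have : SL2Sylow.us t = 1 := Subtype.ext (by
      show (!![1, t.toAdd; 0, 1] : M2) = 1
      rw [h0]; exact Matrix.one_fin_two.symm)
    rw [this, map_one]
  · rw [← e]
    show g⁻¹ * (g * SL2Sylow.us t * g⁻¹) * g⁻¹⁻¹ = uSL t.toAdd
    rw [show g⁻¹ * (g * SL2Sylow.us t * g⁻¹) * g⁻¹⁻¹ = SL2Sylow.us t by group]
    exact Subtype.ext rfl

theorem trace_sq_ne {H : SL} {s : ℕ} (hs : s.Prime) (hs2 : s ≠ 2) (hsl : s ≠ ℓ) (hH : orderOf H = s) :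
    H.1.trace ^ 2 ≠ 4 :=
  SL2Tori.trace_ne_of_odd ℓ hs hs2 hsl (k := 1) (by rw [pow_one, ← hH, pow_orderOf_eq_one])
    fun e => hs.ne_one (by rw [← hH, e, orderOf_one])

/-- **Products of two conjugates.** -/
theorem exists_pair (hodd : Odd q) {p : ℕ} (hp : p.Prime) (hp2 : p ≠ 2) {C : SL} {k : ℕ}
    (hC : C ^ p ^ k = 1) (hC1 : C ≠ 1) {H : SL} {s : ℕ} (hs : s.Prime) (hs2 : s ≠ 2) (hsl : s ≠ ℓ)
    (hH : orderOf H = s) : ∃ X Y : SL, X * C * X⁻¹ * (Y * C * Y⁻¹) = -H := by
  have h2 := GW.Model.two_ne_zero_of_odd hodd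
  have htH := trace_sq_ne ℓ hs hs2 hsl hH
  have htneg : (-H).1.trace = -H.1.trace := by rw [show (-H).1 = -H.1 from rfl, Matrix.trace_neg]
  by_cases hpl : p = ℓ
  · subst hpl
    obtain ⟨P, x, hx, hP⟩ := exists_up_conj p hC hC1
    obtain ⟨j, hj⟩ := hs.odd_of_ne_two hs2
    set K := H ^ (j + 1)
    have hKK : K * K = H := by
      rw [← pow_add, show j + 1 + (j + 1) = s + 1 by omega, pow_succ, ← hH, pow_orderOf_eq_one, one_mul]
    set a := K.1.trace
    have htr : H.1.trace = a * a - 2 := by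
      rw [← hKK]
      show (K.1 * K.1).trace = _
      rw [SL2Orders.sq_eq, Matrix.trace_sub, Matrix.trace_smul, Matrix.trace_one, Fintype.card_fin, smul_eq_mul]
      push_cast; ring
    have ha : a ≠ 0 := fun ha => htH (by rw [htr, ha]; ring)
    set α : F := a / x
    have hα : α ≠ 0 := div_ne_zero ha hx
    set y : F := -(α * α * x)
    obtain ⟨W, hW⟩ : ∃ W : SL, W.1 = !![0, 1; -1, 0] := ⟨⟨_, by simp [Matrix.det_fin_two_of]⟩, rfl⟩
    obtain ⟨A, hA⟩ : ∃ A : SL, A.1 = !![α, 0; 0, α⁻¹] :=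
      ⟨⟨_, by rw [Matrix.det_fin_two_of]; simp [hα]⟩, rfl⟩
    have hconj : W * A * uSL x * (W * A)⁻¹ = vSL y := by
      rw [mul_inv_eq_iff_eq_mul]
      apply Subtype.ext
      show W.1 * A.1 * (uSL x).1 = (vSL y).1 * (W.1 * A.1)
      rw [hW, hA, coe_uSL, coe_vSL]
      ext i j
      fin_cases i <;> fin_cases j <;> simp [y, Matrix.mul_apply, Fin.sum_univ_two] <;> field_simp
    set T := uSL x * vSL y
    have hT : T.1.trace = (-H).1.trace := by
      rw [htneg, htr]
      show ((uSL x).1 * (vSL y).1).trace = _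
      rw [coe_uSL, coe_vSL, Matrix.trace_fin_two]
      simp [y, α, Matrix.mul_apply, Fin.sum_univ_two]
      field_simp
      ring
    obtain ⟨Q, hQ⟩ := isConj_iff.mp (PSL2Product.isConj_of_trace (g := T) (h := -H)
      (by rw [hT, htneg, neg_sq]; exact htH) hT.symm)
    refine ⟨Q * P, Q * (W * A) * P, ?_⟩
    rw [← hQ]
    show _ = Q * (uSL x * vSL y) * Q⁻¹
    rw [← hconj, ← hP]
    group
  · have hCt := SL2Tori.trace_ne_of_odd ℓ hp hp2 hpl hC hC1
    obtain ⟨x, y, hx, hy, hxy⟩ := PSL2Product.exists_mul (α := C.1.trace) (β := C.1.trace) (g := -H)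
      (SL2Centralizer.not_scalar_of_trace (by rw [htneg, neg_sq]; exact htH))
      (Or.inl (by rw [htneg, neg_sq]; exact htH))
    obtain ⟨X, hX⟩ := isConj_iff.mp (PSL2Product.isConj_of_trace hCt hx)
    obtain ⟨Y, hY⟩ := isConj_iff.mp (PSL2Product.isConj_of_trace hCt hy)
    exact ⟨X, Y, by rw [hX, hY, hxy]⟩

theorem upper_of_commute_up {x : F} (hx : x ≠ 0) {A : SL} (h : A * uSL x = uSL x * A) : A.1 1 0 = 0 := by
  have e := congrFun (congrFun (congrArg Subtype.val h : A.1 * (uSL x).1 = (uSL x).1 * A.1) 0) 0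
  simp [coe_uSL, Matrix.mul_apply, Fin.sum_univ_two] at e
  exact e.resolve_left hx

/-- An odd subgroup with only `ℓ`- and `p`-elements is small. -/
theorem card_le_of_two_types (hodd : Odd q) {p : ℕ} (hp : p.Prime) (K : Subgroup SL) (hKodd : Odd (Nat.card K))
    (hdiv : ∀ s : ℕ, s.Prime → s ∣ Nat.card K → s = ℓ ∨ s = p) (hpq : p ≠ ℓ → ¬ p ∣ q - 1) :
    Nat.card K ≤ q ∧ ((∀ s : ℕ, s.Prime → s ∣ Nat.card K → s = ℓ) → Nat.card K ∣ q) := by
  classical
  have h2 := GW.Model.two_ne_zero_of_odd hodd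
  have hl : ℓ.Prime := Fact.out
  have hKdvd : Nat.card K ∣ q * (q ^ 2 - 1) := by
    rw [← SLCard.card_SL_two]; exact Subgroup.card_subgroup_dvd_card K
  obtain ⟨f, -, hf⟩ := FiniteField.card F ℓ
  have hq1 : 1 < q := Fintype.one_lt_card
  have hlcase : (∀ s : ℕ, s.Prime → s ∣ Nat.card K → s = ℓ) → Nat.card K ∣ q := fun hall => by
    have hpow := Nat.eq_prime_pow_of_unique_prime_dvd Nat.card_pos.ne' fun {s} hs hsd => hall s hs hsd
    have hco : (Nat.card K).Coprime (q ^ 2 - 1) := by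
      rw [hpow]
      refine Nat.Coprime.pow_left _ (hl.coprime_iff_not_dvd.mpr fun hd => ?_)
      have h5 := Nat.dvd_sub (dvd_pow (hf ▸ dvd_pow_self ℓ f.ne_zero) two_ne_zero) hd
      rw [Nat.sub_sub_self (Nat.one_le_pow _ _ (by omega))] at h5
      exact hl.not_dvd_one h5
    exact hco.dvd_of_dvd_mul_right hKdvd
  refine ⟨?_, hlcase⟩
  by_cases hp' : p = ℓ ∨ ¬ p ∣ Nat.card K
  · refine Nat.le_of_dvd (by omega) (hlcase fun s hs hsd => ?_)
    rcases hdiv s hs hsd with h | h
    · exact h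
    · rcases hp' with e | e
      · exact h.trans e
      · exact absurd (h ▸ hsd) e
  rw [not_or, not_not] at hp'
  obtain ⟨hpl, hpK⟩ := hp'
  have hp2 : p ≠ 2 := fun e => hKodd.not_two_dvd_nat (e ▸ hpK)
  have hpnl : ¬ ℓ ∣ Nat.card K := by
    intro hlK
    obtain ⟨a, b, hab⟩ : ∃ a b, Nat.card K = ℓ ^ a * p ^ b := by
      refine ⟨(Nat.card K).factorization ℓ, (Nat.card K).factorization p, ?_⟩
      conv_lhs => rw [← Nat.prod_factorization_pow_eq_self (n := Nat.card K) Nat.card_pos.ne']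
      rw [Finsupp.prod, Finset.prod_subset (s₂ := {ℓ, p}) (fun s hs => ?_) (fun s _ hs => ?_),
        Finset.prod_pair (Ne.symm hpl)]
      · have h1 := Nat.prime_of_mem_primeFactors (Nat.support_factorization _ ▸ hs)
        have h3 := Nat.dvd_of_mem_primeFactors (Nat.support_factorization _ ▸ hs)
        simpa using hdiv s h1 h3
      · rw [Finsupp.notMem_support_iff.mp hs, pow_zero]
    haveI : Group.IsSolvable K := CfsgLib.CharTheory.isSolvable_of_card_two_primes hl hp hab
    haveI : Nontrivial K := by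
      rw [← Finite.one_lt_card_iff_nontrivial]
      exact lt_of_lt_of_le hl.one_lt (Nat.le_of_dvd Nat.card_pos hlK)
    -- an abelian normal subgroup
    obtain ⟨m, hm⟩ := (inferInstance : Group.IsSolvable K).solvable
    have hex : ∃ n, derivedSeries K n = ⊥ := ⟨m, hm⟩
    have hn0 : Nat.find hex ≠ 0 := fun e => by
      have := Nat.find_spec hex
      rw [e, derivedSeries_zero] at this
      exact top_ne_bot this
    obtain ⟨n, hn⟩ := Nat.exists_eq_succ_of_ne_zero hn0
    set A := derivedSeries K n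
    have hA : A ≠ ⊥ := Nat.find_min hex (by omega)
    have hAn : A.Normal := derivedSeries_normal _ _
    have hAc : ∀ a ∈ A, ∀ b ∈ A, Commute a b := fun a ha b hb => by
      have h1 : ⁅a, b⁆ ∈ derivedSeries K (n + 1) := Subgroup.commutator_mem_commutator ha hb
      rw [show n + 1 = Nat.find hex from hn.symm, Nat.find_spec hex, Subgroup.mem_bot,
        commutatorElement_eq_one_iff_mul_comm] at h1
      exact h1
    obtain ⟨s, hs, hsd⟩ := Nat.exists_prime_and_dvd (n := Nat.card A)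
      (fun e => hA (Subgroup.eq_bot_of_card_eq _ e))
    haveI : Fact s.Prime := ⟨hs⟩
    obtain ⟨⟨y, hyA⟩, hy⟩ := exists_prime_orderOf_dvd_card' s hsd
    rw [Subgroup.orderOf_mk] at hy
    have hyS : orderOf (y : SL) = s := by rw [Subgroup.orderOf_coe]; exact hy
    have hodd_s : s ≠ 2 := fun e => hKodd.not_two_dvd_nat (by
      have h := orderOf_dvd_natCard y
      rwa [hy, e] at h)
    rcases hdiv s hs (hy ▸ orderOf_dvd_natCard y) with rfl | rfl
    · -- a unipotent normal subgroup: inside a Borel subgroup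
      obtain ⟨P, x, hx, hP⟩ := exists_up_conj s (C := (y : SL)) (k := 1)
        (by rw [pow_one, ← hyS, pow_orderOf_eq_one]) (fun e => hs.ne_one (by rw [← hyS, e, orderOf_one]))
      haveI : Fact p.Prime := ⟨hp⟩
      obtain ⟨⟨w, hwK⟩, hw⟩ := exists_prime_orderOf_dvd_card' p hpK
      rw [Subgroup.orderOf_mk] at hw
      set kk := P * w * P⁻¹
      have h1 : Commute (P * (w * y * w⁻¹) * P⁻¹) (uSL x) := by
        rw [← hP]
        have h0 := (hAc _ (hAn.conj_mem y hyA ⟨w, hwK⟩) y hyA).map K.subtype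
        exact h0.map (MulAut.conj P)
      have h10 := upper_of_commute_up hx h1.eq
      have hkk : (P * (w * y * w⁻¹) * P⁻¹) = kk * uSL x * kk⁻¹ := by
        rw [← hP]; simp only [kk]; group
      have h3 : kk.1 1 0 = 0 := by
        rw [hkk] at h10
        have e : (kk * uSL x * kk⁻¹).1 = kk.1 * (uSL x).1 * (kk⁻¹).1 := rfl
        rw [e, Matrix.SpecialLinearGroup.coe_inv, Matrix.adjugate_fin_two, coe_uSL] at h10
        simp [Matrix.mul_apply, Fin.sum_univ_two] at h10
        have : x * (kk.1 1 0 * kk.1 1 0) = 0 := by linear_combination -h10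
        rcases mul_eq_zero.mp this with h | h
        · exact absurd h hx
        · exact mul_self_eq_zero.mp h
      have hwo : orderOf kk = p := by
        show orderOf (MulAut.conj P w) = p
        rw [MulEquiv.orderOf_eq, hw]
      have hd : ∀ n : ℕ, (kk ^ n).1 1 0 = 0 ∧ (kk ^ n).1 0 0 = kk.1 0 0 ^ n := by
        intro n
        induction n with
        | zero => simp
        | succ n ih =>
          rw [Matrix.SpecialLinearGroup.coe_pow] at ih ⊢
          rw [pow_succ, Matrix.mul_apply, Matrix.mul_apply]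
          simp [Fin.sum_univ_two, ih.1, ih.2, h3, pow_succ]
      have hl00 : kk.1 0 0 ^ p = 1 := by
        rw [← (hd p).2, ← hwo, pow_orderOf_eq_one]; rfl
      have hne0 : kk.1 0 0 ≠ 0 := fun e => by rw [e, zero_pow hp.ne_zero] at hl00; exact zero_ne_one hl00
      have h1' : kk.1 0 0 = 1 := by
        have hq' := FiniteField.pow_card_sub_one_eq_one (kk.1 0 0) hne0
        have := pow_gcd_eq_one.mpr ⟨hl00, hq'⟩
        rwa [(hp.coprime_iff_not_dvd.mpr (hpq hpl)).gcd_eq_one, pow_one] at this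
      have hdet := kk.2
      rw [Matrix.det_fin_two, h3, h1', mul_zero, sub_zero, one_mul] at hdet
      exact trace_sq_ne s hp hp2 hpl hwo (by
        rw [Matrix.trace_fin_two, h1', hdet]; norm_num)
    · -- a semisimple normal subgroup: inside a torus
      have hyt : (y : SL).1.trace ^ 2 ≠ 4 := trace_sq_ne ℓ hs hodd_s hpl hyS
      have hle : K ≤ Subgroup.centralizer ({(y : SL)} : Set SL) := by
        intro k hk
        have hmem : (⟨k, hk⟩ * y * ⟨k, hk⟩⁻¹ : K) ∈ A := hAn.conj_mem y hyA _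
        have hc : k * (y : SL) * k⁻¹ ∈ Subgroup.centralizer ({(y : SL)} : Set SL) :=
          SL2Tori.mem_centralizer.mpr ((hAc _ hmem y hyA).map K.subtype)
        have hk2 : Commute (k * k) (y : SL) := by
          rcases SL2Tori.conj_mem_cases h2 hyt hc with e | e
          · have : Commute k (y : SL) := mul_inv_eq_iff_eq_mul.mp e
            exact this.mul_left this
          · have e2 : k * k * (y : SL) * (k * k)⁻¹ = y := by
              calc k * k * (y : SL) * (k * k)⁻¹ = k * (k * y * k⁻¹) * k⁻¹ := by group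
                _ = k * (y : SL)⁻¹ * k⁻¹ := by rw [e]
                _ = (k * y * k⁻¹)⁻¹ := by group
                _ = y := by rw [e, inv_inv]
            exact mul_inv_eq_iff_eq_mul.mp e2
        obtain ⟨j, hj⟩ := (hKodd.of_dvd_nat (Subgroup.orderOf_dvd_natCard K hk))
        have hk1 : (k * k) ^ (j + 1) = k := by
          rw [← pow_two, ← pow_mul, show 2 * (j + 1) = orderOf k + 1 by omega, pow_succ, pow_orderOf_eq_one, one_mul]
        exact SL2Tori.mem_centralizer.mpr (hk1 ▸ hk2.pow_left _)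
      have hdl : ℓ ∣ Nat.card (Subgroup.centralizer ({(y : SL)} : Set SL)) :=
        hlK.trans (Subgroup.card_dvd_of_le hle)
      exact SL2Tori.not_dvd_char (F := F) ℓ ℓ hl (by
        rcases (SL2Tori.isCyclic_centralizer hyt).2 with e | e <;> rw [e] at hdl <;> simp [hdl]) rfl
  -- a `p`-group
  have hpow := Nat.eq_prime_pow_of_unique_prime_dvd Nat.card_pos.ne' (p := p) fun {s} hs hsd =>
    (hdiv s hs hsd).resolve_left fun e => hpnl (e ▸ hsd)
  set a := (Nat.card K).primeFactorsList.length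
  have hpq2 : ¬ p ∣ q := fun h => hpl ((Nat.prime_dvd_prime_iff_eq hp hl).mp (hp.dvd_of_dvd_pow (hf ▸ h)))
  rw [hpow] at hKdvd ⊢
  have h1 : p ^ a ∣ (q - 1) * (q + 1) := by
    have := (Nat.Coprime.pow_left a (hp.coprime_iff_not_dvd.mpr hpq2)).dvd_of_dvd_mul_left hKdvd
    rwa [show q ^ 2 - 1 = (q - 1) * (q + 1) by rw [mul_comm, ← Nat.sq_sub_sq, one_pow]] at this
  have h3 := (Nat.Coprime.pow_left a (hp.coprime_iff_not_dvd.mpr (hpq hpl))).dvd_of_dvd_mul_left h1
  obtain ⟨m, hm⟩ := hodd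
  have hpodd : Odd (p ^ a) := (hp.odd_of_ne_two hp2).pow
  have h4 : p ^ a ∣ m + 1 := (Nat.coprime_two_right.mpr hpodd).dvd_of_dvd_mul_left
    (show p ^ a ∣ 2 * (m + 1) by rwa [show 2 * (m + 1) = q + 1 by omega])
  have := Nat.le_of_dvd (by omega) h4
  omega

end CfsgLib.RankTwoModel.SL2
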