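import Cfsg.Agent.Lib.RankTwoModel.Nat
import Cfsg.Agent.Lib.RankTwoModel.NoSection
import Cfsg.Agent.Lib.RankTwoModel.FieldInner
import Cfsg.Agent.Lib.RankTwo.Criterion

/-!
A quadratic element outside `O_p(M/C(V))`, reduced: `Red d p M V Kp a`.

* `Red.quad`: an element congruent to `a` modulo `Kp` is quadratic modulo `[W, Kp]`;
* `Red.exists_inner`: such an element of `C` induces an inner automorphism of `SL₂(q)`;
* `Red.centralizes_fixed`: `D` centralises the fixed points of `z` in `V`;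
* `Red.no_inverted`: no abelian `C`-invariant subgroup of `V` is inverted by `z`.

Blueprint: `blueprint/RankTwo_P3.md`, section 3.
-/

set_option autoImplicit false
set_option linter.unusedSectionVars false
set_option linter.style.haveILetI false

namespace CfsgLib.RankTwoModel

open Cfsg
open scoped MatrixGroups commutatorElement

universe u

variable {G : Type u} [Group G] [Finite G]

/-- `W` is normalised by `M`. -/
def InvUnder (M W : Subgroup G) : Prop := ∀ m ∈ M, ∀ w ∈ W, m * w * m⁻¹ ∈ W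

/-- The reduced configuration. -/
structure Red (d : Frame G) (p : ℕ) (M V Kp : Subgroup G) (a : G) : Prop where
  pne : p ≠ 2
  CM : d.C ≤ M
  Vn : InvUnder M V
  pV : IsPGroup p V
  Kn : InvUnder M Kp
  KM : Kp ≤ M
  VK : V ≤ Kp
  down : ∀ W ≤ V, InvUnder M W → W ≠ ⊥ → ¬ W ≤ ⁅W, Kp⁆
  OD_mem : ∀ o ∈ d.O, ∀ x ∈ d.D, o * x * o⁻¹ * x⁻¹ ∈ Kp
  aM : a ∈ M
  quad_a : ∀ v ∈ V, a * (a * v * a⁻¹ * v⁻¹) * a⁻¹ = a * v * a⁻¹ * v⁻¹
  zmove : ∃ v ∈ V, d.z * v ≠ v * d.z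
  pK : ∀ x ∈ Kp, ∃ k : ℕ, ∀ v ∈ V, Commute (x ^ p ^ k) v

namespace Red

variable {d : Frame G} {p : ℕ} {M V Kp : Subgroup G} {a : G} (r : Red d p M V Kp a)

/-- The element inverted by `z` obtained from a moved one. -/
theorem inverted_of {z w : G} (hz : z * z = 1) :
    z * (z * w * z⁻¹ * w⁻¹) * z⁻¹ = (z * w * z⁻¹ * w⁻¹)⁻¹ := by
  rw [inv_eq_of_mul_eq_one_right hz]
  simp only [mul_inv_rev, inv_inv, mul_assoc]
  rw [← mul_assoc z z, hz, one_mul, inv_eq_of_mul_eq_one_right hz]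

include r in
theorem Vodd [hp : Fact p.Prime] : Odd (Nat.card V) := by
  obtain ⟨k, hk⟩ := IsPGroup.iff_card.mp r.pV
  rw [hk]; exact (hp.out.odd_of_ne_two r.pne).pow

/-- The step down. -/
theorem comm_le {W : Subgroup G} (hW : InvUnder M W) (hKM : Kp ≤ M) : ⁅W, Kp⁆ ≤ W :=
  Subgroup.commutator_le.mpr fun w hw k hk => by
    rw [commutatorElement_def, show w * k * w⁻¹ * k⁻¹ = w * (k * w⁻¹ * k⁻¹) by group]
    exact mul_mem hw (hW k (hKM hk) _ (inv_mem hw))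

include r in
theorem comm_inv {W : Subgroup G} (hW : InvUnder M W) : InvUnder M ⁅W, Kp⁆ := fun m hm w hw => by
  have hle : (⁅W, Kp⁆).map (MulAut.conj m).toMonoidHom ≤ ⁅W, Kp⁆ := by
    rw [Subgroup.map_commutator]
    refine Subgroup.commutator_mono ?_ ?_
    · rintro _ ⟨x, hx, rfl⟩; exact hW m hm x hx
    · rintro _ ⟨x, hx, rfl⟩; exact r.Kn m hm x hx
  exact hle ⟨w, hw, rfl⟩

theorem mem_comm {W : Subgroup G} {k w : G} (hk : k ∈ Kp) (hw : w ∈ W) : k * w * k⁻¹ * w⁻¹ ∈ ⁅W, Kp⁆ := by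
  have h := inv_mem (Subgroup.commutator_mem_commutator hw hk)
  rwa [commutatorElement_inv, commutatorElement_def] at h

include r in
/-- An element congruent to `a` is quadratic modulo the next term. -/
theorem quad {W : Subgroup G} (hWV : W ≤ V) (hW : InvUnder M W) {c : G} (hc : a⁻¹ * c ∈ Kp) {w : G} (hw : w ∈ W) :
    c * (c * w * c⁻¹ * w⁻¹) * c⁻¹ * (c * w * c⁻¹ * w⁻¹)⁻¹ ∈ ⁅W, Kp⁆ := by
  set k := a⁻¹ * c
  have hck : c = a * k := by simp [k]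
  have hI := r.comm_inv hW
  have step : ∀ u ∈ W, c * u * c⁻¹ * (a * u * a⁻¹)⁻¹ ∈ ⁅W, Kp⁆ := fun u hu => by
    rw [hck, show a * k * u * (a * k)⁻¹ * (a * u * a⁻¹)⁻¹ = a * (k * u * k⁻¹ * u⁻¹) * a⁻¹ by group]
    exact hI a r.aM _ (mem_comm hc hu)
  set t := c * w * c⁻¹ * w⁻¹
  set t' := a * w * a⁻¹ * w⁻¹
  have ht : t ∈ W := mul_mem (hW c (hck ▸ mul_mem r.aM (r.KM hc)) w hw) (inv_mem hw)
  have h1 : t * t'⁻¹ ∈ ⁅W, Kp⁆ := by
    rw [show t * t'⁻¹ = c * w * c⁻¹ * (a * w * a⁻¹)⁻¹ by simp only [t, t']; group]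
    exact step w hw
  have ht' : a * t' * a⁻¹ = t' := r.quad_a w (hWV hw)
  have h2 : a * t * a⁻¹ * t⁻¹ ∈ ⁅W, Kp⁆ := by
    rw [show a * t * a⁻¹ * t⁻¹ = a * (t * t'⁻¹) * a⁻¹ * ((a * t' * a⁻¹) * t⁻¹) by group, ht',
      show t' * t⁻¹ = (t * t'⁻¹)⁻¹ by group]
    exact mul_mem (hI a r.aM _ h1) (inv_mem h1)
  rw [show c * t * c⁻¹ * t⁻¹ = (c * t * c⁻¹ * (a * t * a⁻¹)⁻¹) * (a * t * a⁻¹ * t⁻¹) by group]
  exact mul_mem (step t ht) h2

/-- The next term is normal. -/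
theorem comm_normal {W : Subgroup G} : (⁅W, Kp⁆.subgroupOf W).Normal :=
  ⟨fun x hx g => by
    rw [Subgroup.mem_subgroupOf] at hx ⊢
    have hn := Subgroup.normalizer_commutator_ge_left (H₁ := W) (H₂ := Kp) g.2
    exact (Subgroup.mem_normalizer_iff.mp hn _).mp hx⟩

/-- The action on the quotient by an invariant subgroup. -/
noncomputable def quotAct {X : Type u} [Group X] {A : Type u} [Group A] (φ : A →* MulAut X) (N : Subgroup X)
    [N.Normal] (hN : ∀ a, ∀ x ∈ N, φ a x ∈ N) : A →* MulAut (X ⧸ N) where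
  toFun a := QuotientGroup.congr N N (φ a) (le_antisymm (by
      rintro _ ⟨x, hx, rfl⟩; exact hN a x hx) fun x hx =>
      ⟨φ a⁻¹ x, hN a⁻¹ x hx, by
        show φ a (φ a⁻¹ x) = x
        rw [map_inv, MulAut.apply_inv_self]⟩)
  map_one' := MulEquiv.ext fun x => by
    induction x using QuotientGroup.induction_on with
    | H x => simp
  map_mul' a b := MulEquiv.ext fun x => by
    induction x using QuotientGroup.induction_on with
    | H x => simp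

theorem quotAct_mk {X : Type u} [Group X] {A : Type u} [Group A] (φ : A →* MulAut X) (N : Subgroup X) [N.Normal]
    (hN : ∀ a, ∀ x ∈ N, φ a x ∈ N) (a : A) (x : X) :
    quotAct φ N hN a (x : X ⧸ N) = ((φ a x : X) : X ⧸ N) := rfl

/-- The action of an overgroup on an invariant subgroup. -/
def subAct {A W : Subgroup G} (h : ∀ c ∈ A, ∀ w ∈ W, c * w * c⁻¹ ∈ W) : ↥A →* MulAut ↥W :=
  W.normalizerMonoidHom.comp (Subgroup.inclusion fun c hc => Subgroup.mem_normalizer_fintype fun w hw => h c hc w hw)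

theorem subAct_coe {A W : Subgroup G} (h : ∀ c ∈ A, ∀ w ∈ W, c * w * c⁻¹ ∈ W) (c : ↥A) (w : ↥W) :
    ((subAct h c w : ↥W) : G) = c * w * (c : G)⁻¹ := rfl

variable (h : Hyp G) (hd : d.Spec) (hq : 3 < d.q) [hp : Fact p.Prime]

include r h hd hq hp in
/-- **Congruent elements of `C` induce inner automorphisms.** -/
theorem exists_inner (Rp : Rep d) {c : G} (hcC : c ∈ d.C) (hc : a⁻¹ * c ∈ Kp) {k : ℕ} (hck : c ^ p ^ k = 1) :
    ∃ A : Matrix.SpecialLinearGroup (Fin 2) d.F, Rp.σ ⟨c, hcC⟩ = MulAut.conj A := by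
  classical
  -- a minimal moved invariant subgroup
  let T : Set (Subgroup G) := {W | W ≤ V ∧ InvUnder M W ∧ ∃ w ∈ W, d.z * w ≠ w * d.z}
  obtain ⟨W, hW⟩ := (Set.toFinite T).exists_minimal ⟨V, le_rfl, r.Vn, r.zmove⟩
  obtain ⟨hWV, hWM, w₀, hw₀, hw₀z⟩ := hW.prop
  have hW'le : ⁅W, Kp⁆ ≤ W := comm_le hWM r.KM
  have hWne : W ≠ ⊥ := fun e => hw₀z (by rw [e, Subgroup.mem_bot] at hw₀; rw [hw₀, mul_one, one_mul])
  have hfix : ∀ w ∈ ⁅W, Kp⁆, d.z * w = w * d.z := by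
    by_contra hno
    push Not at hno
    exact r.down W hWV hWM hWne (hW.le_of_le ⟨hW'le.trans hWV, r.comm_inv hWM, hno⟩ hW'le)
  set N := ⁅W, Kp⁆.subgroupOf W
  haveI : N.Normal := comm_normal
  have hWC : ∀ c ∈ d.C, ∀ w ∈ W, c * w * c⁻¹ ∈ W := fun c hc => hWM c (r.CM hc)
  let ρW := quotAct (subAct hWC) N fun c x hx => Subgroup.mem_subgroupOf.mpr
    (r.comm_inv hWM c (r.CM c.2) _ (Subgroup.mem_subgroupOf.mp hx))
  have hcomm : ∀ x y : ↥W ⧸ N, x * y = y * x := by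
    intro x y
    induction x using QuotientGroup.induction_on with
    | H x =>
    induction y using QuotientGroup.induction_on with
    | H y =>
    rw [← QuotientGroup.mk_mul, ← QuotientGroup.mk_mul, QuotientGroup.eq, Subgroup.mem_subgroupOf]
    show ((x : G) * y)⁻¹ * (y * x) ∈ ⁅W, Kp⁆
    rw [show ((x : G) * y)⁻¹ * (y * x) = (y : G)⁻¹ * (x : G)⁻¹ * (y : G)⁻¹⁻¹ * (x : G)⁻¹⁻¹ by group]
    exact mem_comm (r.VK (hWV (inv_mem y.2))) (inv_mem x.2)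
  set zC : ↥d.C := ⟨d.z, Frame.Spec.z_mem_C⟩ with hzC
  let R' : Subgroup (↥W ⧸ N) :=
    { carrier := {x | ρW zC x = x⁻¹}
      one_mem' := by simp
      mul_mem' := fun {x y} hx hy => by
        show ρW zC (x * y) = (x * y)⁻¹
        rw [map_mul, hx, hy, mul_inv_rev, hcomm]
      inv_mem' := fun {x} hx => by
        show ρW zC x⁻¹ = x⁻¹⁻¹
        rw [map_inv, hx] }
  have hzc : ∀ c : ↥d.C, zC * c = c * zC := fun c => Subtype.ext (Frame.Spec.z_central c.2).symm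
  have hR' : ∀ c : ↥d.C, ∀ x ∈ R', ρW c x ∈ R' := fun c x hx => by
    show ρW zC (ρW c x) = (ρW c x)⁻¹
    rw [← MulAut.mul_apply, ← map_mul, hzc, map_mul, MulAut.mul_apply, hx, map_inv]
  have hzz : d.z * d.z = 1 := by rw [← pow_two, ← hd.zord, pow_orderOf_eq_one]
  set w₁ := d.z * w₀ * d.z⁻¹ * w₀⁻¹ with hw₁
  have hw₁W : w₁ ∈ W := mul_mem (hWC _ zC.2 _ hw₀) (inv_mem hw₀)
  have hx₁ : ((⟨w₁, hw₁W⟩ : ↥W) : ↥W ⧸ N) ∈ R' := by
    show ρW zC _ = _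
    rw [quotAct_mk, ← QuotientGroup.mk_inv]
    exact congrArg _ (Subtype.ext (by rw [subAct_coe]; exact inverted_of hzz))
  haveI : Nontrivial ↥R' := ⟨⟨⟨_, hx₁⟩, 1, fun e => hw₀z (by
    have hm := (QuotientGroup.eq_one_iff _).mp (congrArg Subtype.val e)
    have h1 : d.z * w₁ * d.z⁻¹ = w₁ := mul_inv_eq_iff_eq_mul.mpr (hfix _ (Subgroup.mem_subgroupOf.mp hm))
    rw [inverted_of hzz] at h1
    have h2 : w₁ ^ 2 = 1 := by rw [pow_two]; exact inv_eq_iff_mul_eq_one.mp h1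
    have h3 : w₁ = 1 := orderOf_eq_one_iff.mp (Nat.eq_one_of_dvd_coprimes (Nat.coprime_two_left.mpr r.Vodd)
      (orderOf_dvd_of_pow_eq_one h2) (Subgroup.orderOf_dvd_natCard V (hWV hw₁W)))
    exact mul_inv_eq_iff_eq_mul.mp (mul_inv_eq_one.mp h3))⟩⟩
  letI : CommGroup ↥R' :=
    { (inferInstance : Group ↥R') with mul_comm := fun x y => Subtype.ext (hcomm x y) }
  let ρ : ↥d.C →* MulAut ↥R' := RankTwo.restrictAut ρW R' hR'
  haveI : (d.D.subgroupOf d.C).Normal := ⟨fun x hx g =>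
    Subgroup.mem_subgroupOf.mpr (d.D_conj g.2 (Subgroup.mem_subgroupOf.mp hx))⟩
  let π : ↥(d.D.subgroupOf d.C) →* Matrix.SpecialLinearGroup (Fin 2) d.F :=
    Rp.π.comp ((Subgroup.inclusion (hd.D_le_L hq)).comp (Subgroup.subgroupOfEquivOfLe d.D_le).toMonoidHom)
  have hπ : Function.Surjective π := fun A => by
    obtain ⟨y, hy, e⟩ := Rp.surj_D hd hq A
    exact ⟨⟨⟨y, d.D_le hy⟩, hy⟩, e⟩
  have hker : Odd (Nat.card π.ker) := by
    refine d.O_odd.of_dvd_nat (Subgroup.card_dvd_of_injective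
      ((d.C.subtype.comp ((d.D.subgroupOf d.C).subtype.comp π.ker.subtype)).codRestrict d.O
        fun k => (Rp.ker _).mp k.2) fun x y e => ?_)
    exact Subtype.ext (Subtype.ext (Subtype.ext (congrArg (fun t : ↥d.O => (t : G)) e)))
  refine RankTwoModel.exists_inner (C := ↥d.C) (V := ↥R') (p := p) r.pne
    (((r.pV.to_le hWV).to_quotient N).to_subgroup R') hd.odd_card (hd.three_lt hq) (d.D.subgroupOf d.C) π hπ hker
    Rp.σ (fun c x => Rp.compat c _) ρ ⟨zC, Subgroup.mem_subgroupOf.mpr (hd.z_mem_D hq)⟩ (Rp.pi_z hd)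
    (fun x => Subtype.ext x.2) ⟨k, Subtype.ext hck⟩ fun x => Subtype.ext ?_
  show ρW ⟨c, hcC⟩ (ρW ⟨c, hcC⟩ x.1 * x.1⁻¹) = ρW ⟨c, hcC⟩ x.1 * x.1⁻¹
  induction x.1 using QuotientGroup.induction_on with
  | H w =>
    rw [quotAct_mk, ← QuotientGroup.mk_inv, ← QuotientGroup.mk_mul, quotAct_mk, QuotientGroup.eq_iff_div_mem,
      Subgroup.mem_subgroupOf]
    have hh := r.quad hWV hWM hc w.2
    rw [div_eq_mul_inv]
    exact hh

include r h hd hq hp in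
/-- **`D` centralises the fixed points of `z`.** -/
theorem centralizes_fixed {c : G} (hcD : c ∈ d.D) (hcO : c ∉ d.O) (hc : a⁻¹ * c ∈ Kp) {k : ℕ}
    (hck : c ^ p ^ k = 1) {v : G} (hv : v ∈ V) (hvz : d.z * v = v * d.z) {x : G} (hx : x ∈ d.D) :
    x * v = v * x := by
  classical
  obtain ⟨Rp⟩ := hd.exists_rep
  suffices H : ∀ (n : ℕ) (W : Subgroup G), Nat.card W = n → W ≤ V → InvUnder M W →
      ∀ w ∈ W, d.z * w = w * d.z → ∀ x ∈ d.D, x * w = w * x from H _ V rfl le_rfl r.Vn v hv hvz x hx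
  intro n
  induction n using Nat.strong_induction_on with
  | _ n ih =>
  intro W hn hWV hWM w hw hwz x hx
  by_cases hWne : W = ⊥
  · rw [hWne, Subgroup.mem_bot] at hw; rw [hw, mul_one, one_mul]
  have hle : ⁅W, Kp⁆ ≤ W := comm_le hWM r.KM
  have hlt : Nat.card ↥⁅W, Kp⁆ < n := hn ▸ (Subgroup.card_le_of_le hle).lt_of_ne fun e =>
    r.down W hWV hWM hWne (Subgroup.eq_of_le_of_card_ge hle e.ge).ge
  have hfix := ih _ hlt _ rfl (hle.trans hWV) (r.comm_inv hWM)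
  -- the action on the fixed points modulo the next term
  set Wz := W ⊓ d.C with hWz
  have hWzD : ∀ x ∈ d.D, ∀ w ∈ Wz, x * w * x⁻¹ ∈ Wz := fun x hx w hw =>
    ⟨hWM x (r.CM (d.D_le hx)) w hw.1,
      d.C.mul_mem (d.C.mul_mem (d.D_le hx) hw.2) (d.C.inv_mem (d.D_le hx))⟩
  set N := ⁅W, Kp⁆.subgroupOf Wz
  haveI : N.Normal := ⟨fun y hy g => by
    rw [Subgroup.mem_subgroupOf] at hy ⊢
    exact (Subgroup.mem_normalizer_iff.mp (Subgroup.normalizer_commutator_ge_left (H₁ := W) (H₂ := Kp) g.2.1) _).mp hy⟩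
  haveI := d.D_perfect
  let ρ := quotAct (subAct hWzD) N fun c y hy => Subgroup.mem_subgroupOf.mpr
    (r.comm_inv hWM c (r.CM (d.D_le c.2)) _ (Subgroup.mem_subgroupOf.mp hy))
  set π : ↥d.D →* Matrix.SpecialLinearGroup (Fin 2) d.F := Rp.π.comp (Subgroup.inclusion (hd.D_le_L hq))
  have hπ : Function.Surjective π := fun A => by
    obtain ⟨y, hy, e⟩ := Rp.surj_D hd hq A
    exact ⟨⟨y, hy⟩, e⟩
  have hker : Odd (Nat.card π.ker) := by
    refine d.O_odd.of_dvd_nat (Subgroup.card_dvd_of_injective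
      ((d.D.subtype.comp π.ker.subtype).codRestrict d.O fun k => (Rp.ker _).mp k.2) fun x y e => ?_)
    exact Subtype.ext (Subtype.ext (congrArg (fun t : ↥d.O => (t : G)) e))
  have hρz : ρ ⟨d.z, hd.z_mem_D hq⟩ = 1 := MulEquiv.ext fun y => by
    induction y using QuotientGroup.induction_on with
    | H y =>
      rw [quotAct_mk, MulAut.one_apply]
      refine congrArg _ (Subtype.ext ?_)
      rw [subAct_coe]
      exact mul_inv_eq_iff_eq_mul.mpr (Frame.Spec.z_central y.2.2).symm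
  set X := ρ.range
  have hq' : IsQuad (ρ ⟨c, hcD⟩) := fun y => by
    induction y using QuotientGroup.induction_on with
    | H y =>
      rw [quotAct_mk, ← QuotientGroup.mk_inv, ← QuotientGroup.mk_mul, quotAct_mk, QuotientGroup.eq_iff_div_mem,
        Subgroup.mem_subgroupOf]
      have hh := r.quad hWV hWM hc y.2.1
      rw [div_eq_mul_inv]
      exact hh
  have hWzp : IsPGroup p (↥Wz ⧸ N) := ((r.pV.to_le (inf_le_left.trans hWV))).to_quotient N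
  have hcore := mem_pCore_of_quad r.pne hWzp X
    (fun K g hg => SL2.no_section hd.odd_card π hker (z := ⟨d.z, hd.z_mem_D hq⟩) (Rp.pi_z hd) ρ.rangeRestrict
      (Subtype.ext hρz) r.pne K g hg fun _ _ _ _ => by
        rw [MonoidHom.range_eq_top.mpr ρ.rangeRestrict_surjective]; exact Subgroup.mem_top _)
    (⟨⟨c, hcD⟩, rfl⟩ : ρ ⟨c, hcD⟩ ∈ X) hq'
  haveI : Group.IsPerfect X := Group.IsPerfect.ofSurjective (f := ρ.rangeRestrict) ρ.rangeRestrict_surjective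
  -- the image is a `p`-group
  haveI : Finite (MulAut (↥Wz ⧸ N)) :=
    Finite.of_injective (fun e : MulAut (↥Wz ⧸ N) => (e : ↥Wz ⧸ N → ↥Wz ⧸ N)) DFunLike.coe_injective
  set P := pCore p X
  set N₀ := P.comap ρ.rangeRestrict
  haveI : (N₀.map π).Normal := (inferInstance : N₀.Normal).map π hπ
  have hN₀ : N₀.map π = ⊤ := by
    refine (SL2.sl2_normal_or_top (hd.three_lt hq) _).resolve_left fun hle => hcO ?_
    obtain ⟨r₀, hr₀, hA⟩ := Matrix.SpecialLinearGroup.mem_center_iff.mp (hle ⟨⟨c, hcD⟩, hcore, rfl⟩)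
    refine (Rp.ker ⟨c, hd.D_le_L hq hcD⟩).mp ?_
    refine Nat'.eq_one_of_scalar hp.out r.pne (k := k) (by
      rw [← map_pow, show (⟨c, hd.D_le_L hq hcD⟩ : ↥d.L) ^ p ^ k = 1 from Subtype.ext hck, map_one]) (a := r₀) ?_
    rw [Matrix.smul_one_eq_diagonal, ← Matrix.scalar_apply]
    exact hA.symm
  let g : ↥d.D →* X ⧸ P := (QuotientGroup.mk' P).comp ρ.rangeRestrict
  have hg : Function.Surjective g := (QuotientGroup.mk'_surjective P).comp ρ.rangeRestrict_surjective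
  haveI : Group.IsPerfect (X ⧸ P) := Group.IsPerfect.ofSurjective (f := g) hg
  have hsurj : Function.Surjective (g.comp π.ker.subtype) := fun t => by
    obtain ⟨y, rfl⟩ := hg t
    obtain ⟨n₀, hn₀, e⟩ := hN₀.ge (Subgroup.mem_top (π y))
    refine ⟨⟨n₀⁻¹ * y, by rw [MonoidHom.mem_ker, map_mul, map_inv, e, inv_mul_cancel]⟩, ?_⟩
    show g (n₀⁻¹ * y) = g y
    rw [map_mul, map_inv, show g n₀ = 1 from (QuotientGroup.eq_one_iff _).mpr hn₀, inv_one, one_mul]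
  haveI := CfsgLib.GW.subsingleton_of_odd (X := X ⧸ P)
    (hker.of_dvd_nat (Subgroup.card_dvd_of_surjective _ hsurj))
  have hPtop : P = ⊤ := eq_top_iff.mpr fun t _ => (QuotientGroup.eq_one_iff t).mp (Subsingleton.elim _ _)
  have hXp : IsPGroup p X := fun t => by
    obtain ⟨j, hj⟩ := CfsgLib.isPGroup_pCore p ⟨t, hPtop.ge (Subgroup.mem_top t)⟩
    exact ⟨j, congrArg Subtype.val hj⟩
  haveI : Group.IsNilpotent X := hXp.isNilpotent
  have hρ1 : ∀ y : ↥d.D, ρ y = 1 := fun y => by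
    by_contra hne
    haveI : Nontrivial X := ⟨⟨⟨ρ y, y, rfl⟩, 1, fun e => hne (congrArg Subtype.val e)⟩⟩
    exact Group.IsPerfect.not_isSolvable X inferInstance
  -- the displacement
  have hwC : w ∈ Wz := ⟨hw, Subgroup.mem_centralizer_singleton_iff.mpr hwz.symm⟩
  have hdis : ∀ y ∈ d.D, y * w * y⁻¹ * w⁻¹ ∈ ⁅W, Kp⁆ ∧ d.z * (y * w * y⁻¹ * w⁻¹) = y * w * y⁻¹ * w⁻¹ * d.z := by
    intro y hy
    refine ⟨?_, (Frame.Spec.z_central (mul_mem (hWzD y hy w hwC).2 (inv_mem hwC.2))).symm⟩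
    have e := MulEquiv.congr_fun (hρ1 ⟨y, hy⟩) ((⟨w, hwC⟩ : ↥Wz) : ↥Wz ⧸ N)
    rw [quotAct_mk, MulAut.one_apply, QuotientGroup.eq_iff_div_mem, Subgroup.mem_subgroupOf, div_eq_mul_inv] at e
    exact e
  let δ : ↥d.D →* ↥W := MonoidHom.mk' (fun y => ⟨(y * w * (y : G)⁻¹ * w⁻¹)⁻¹, inv_mem (hle (hdis y y.2).1)⟩)
    fun y₁ y₂ => Subtype.ext (by
      show ((y₁ : G) * y₂ * w * ((y₁ : G) * y₂)⁻¹ * w⁻¹)⁻¹ =
        ((y₁ : G) * w * (y₁ : G)⁻¹ * w⁻¹)⁻¹ * ((y₂ : G) * w * (y₂ : G)⁻¹ * w⁻¹)⁻¹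
      obtain ⟨hm, hz'⟩ := hdis y₂ y₂.2
      set e := (y₂ : G) * w * (y₂ : G)⁻¹ * w⁻¹
      have h1 := hfix e hm hz' y₁ y₁.2
      rw [← mul_inv_rev]
      congr 1
      calc (y₁ : G) * y₂ * w * ((y₁ : G) * y₂)⁻¹ * w⁻¹ = y₁ * e * (w * (y₁ : G)⁻¹ * w⁻¹) := by
            simp only [e]; group
        _ = e * ((y₁ : G) * w * (y₁ : G)⁻¹ * w⁻¹) := by rw [h1]; group)
  have hp' : IsPGroup p δ.range := (r.pV.to_le hWV).to_subgroup _
  haveI : Group.IsPerfect δ.range := Group.IsPerfect.ofSurjective (f := δ.rangeRestrict) δ.rangeRestrict_surjective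
  haveI : Group.IsNilpotent δ.range := hp'.isNilpotent
  have hδ : δ ⟨x, hx⟩ = 1 := by
    by_contra hne
    haveI : Nontrivial δ.range := ⟨⟨⟨δ ⟨x, hx⟩, _, rfl⟩, 1, fun e => hne (congrArg Subtype.val e)⟩⟩
    exact Group.IsPerfect.not_isSolvable δ.range inferInstance
  have h2 := inv_eq_one.mp (congrArg Subtype.val hδ : (x * w * x⁻¹ * w⁻¹)⁻¹ = 1)
  exact mul_inv_eq_iff_eq_mul.mp (mul_inv_eq_one.mp h2)

include r h hd hq hp in
/-- **No abelian subgroup is inverted.** -/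
theorem no_inverted (hOD : ¬ ∀ x ∈ d.O, ∀ y ∈ d.D, x * y = y * x) {c : G} (hcD : c ∈ d.D) (hcO : c ∉ d.O)
    (hc : a⁻¹ * c ∈ Kp) {k : ℕ} (hck : c ^ p ^ k = 1) {A : Subgroup G} (hAV : A ≤ V)
    (hAc : ∀ x ∈ A, ∀ y ∈ A, x * y = y * x) (hAn : InvUnder d.C A) (hAz : ∀ x ∈ A, d.z * x * d.z⁻¹ = x⁻¹) :
    A = ⊥ := by
  by_contra hA
  let T : Set (Subgroup G) := {R | R ≤ A ∧ R ≠ ⊥ ∧ InvUnder d.C R}
  obtain ⟨R, hR⟩ := (Set.toFinite T).exists_minimal ⟨A, le_rfl, hA, hAn⟩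
  obtain ⟨hRA, hRne, hRn⟩ := hR.prop
  let T' : Set (Subgroup G) := {W | W ≤ V ∧ InvUnder M W ∧ R ≤ W}
  obtain ⟨W, hW⟩ := (Set.toFinite T').exists_minimal ⟨V, le_rfl, r.Vn, hRA.trans hAV⟩
  obtain ⟨hWV, hWM, hRW⟩ := hW.prop
  have hle : ⁅W, Kp⁆ ≤ W := comm_le hWM r.KM
  have hbot : R ⊓ ⁅W, Kp⁆ = ⊥ := by
    by_contra hne
    have hin : R ⊓ ⁅W, Kp⁆ ∈ T := ⟨inf_le_left.trans hRA, hne, fun c hc x hx =>
      ⟨hRn c hc x hx.1, r.comm_inv hWM c (r.CM hc) x hx.2⟩⟩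
    have hRle : R ≤ ⁅W, Kp⁆ := (hR.le_of_le hin inf_le_left).trans inf_le_right
    exact r.down W hWV hWM (fun e => hRne (le_bot_iff.mp (e ▸ hRW)))
      (hW.le_of_le ⟨hle.trans hWV, r.comm_inv hWM, hRle⟩ hle)
  have hone : ∀ x ∈ R, x ∈ ⁅W, Kp⁆ → x = 1 := fun x h1 h2 => Subgroup.mem_bot.mp (hbot ▸ ⟨h1, h2⟩)
  refine NatData.elim (p := p) (R := R) ⟨r.pV.to_le (hRA.trans hAV), fun x hx y hy => hAc x (hRA hx) y (hRA hy), hRne,
    fun c hc => Subgroup.mem_normalizer_fintype fun x hx => hRn c hc x hx, fun x hx => hAz x (hRA hx),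
    fun Q hQ hne hQn => le_antisymm hQ (hR.le_of_le ⟨hQ.trans hRA, hne, fun c hc x hx =>
      (Subgroup.mem_normalizer_iff.mp (hQn hc) x).mp hx⟩ hQ),
    fun o ho x hx y hy => ?_, c, hcD, hcO, ⟨k, hck⟩, fun y hy => ?_⟩ h hd hq r.pne hOD
  · set g := o * x * o⁻¹ * x⁻¹
    have hgC : g ∈ d.C := mul_mem (mul_mem (mul_mem (d.O_le ho) (d.D_le hx)) (inv_mem (d.O_le ho)))
      (inv_mem (d.D_le hx))
    have h1 := hone _ (mul_mem (hRn g hgC y hy) (inv_mem hy)) (mem_comm (r.OD_mem o ho x hx) (hRW hy))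
    exact mul_inv_eq_iff_eq_mul.mp (mul_inv_eq_one.mp h1)
  · have hcC := d.D_le hcD
    have ht : c * y * c⁻¹ * y⁻¹ ∈ R := mul_mem (hRn c hcC y hy) (inv_mem hy)
    exact mul_inv_eq_one.mp (hone _ (mul_mem (hRn c hcC _ ht) (inv_mem ht)) (r.quad hWV hWM hc (hRW hy)))

end Red

end CfsgLib.RankTwoModel
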