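import Cfsg.Agent.Lib.RankTwoModel.StableRed
import Cfsg.Agent.Lib.RankTwoModel.MultiCase.Setup
import Cfsg.Agent.Lib.ZStar.Main
import Cfsg.Agent.Lib.GU2Cent.SLOdd

/-!
A maximal subgroup over the centraliser: reduction of instability.

* `exists_decomp`: `M = O(M) C`;
* `exists_red`: a quadratic element outside `O_p(M/C(V))` yields `Red` with a congruent element of `D`.

Blueprint: `blueprint/RankTwo_P3.md`, section 3.
-/

set_option autoImplicit false
set_option linter.unusedSectionVars false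
set_option linter.style.haveILetI false
set_option maxHeartbeats 800000

namespace CfsgLib.RankTwoModel

open Cfsg
open scoped MatrixGroups commutatorElement

universe u v

/-- A `p`-subgroup of a normal subgroup normalised by it lies in `O_p`. -/
theorem le_pCore_of_sub {X : Type u} [Group X] [Finite X] {p : ℕ} {N Q : Subgroup X} [N.Normal] (hQN : Q ≤ N)
    (hn : ∀ n ∈ N, ∀ x ∈ Q, n * x * n⁻¹ ∈ Q) (hQ : IsPGroup p Q) : Q ≤ pCore p X := by
  haveI : (Q.subgroupOf N).Normal := ⟨fun x hx n => Subgroup.mem_subgroupOf.mpr (hn n n.2 _ hx)⟩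
  have h1 : Q.subgroupOf N ≤ pCore p N :=
    CfsgLib.le_pCore (hQ.comap_of_injective N.subtype N.subtype_injective)
  have h2 : (pCore p N).map N.subtype ≤ pCore p X :=
    CfsgLib.le_pCore ((CfsgLib.isPGroup_pCore p).map _)
  exact fun x hx => h2 ⟨⟨x, hQN hx⟩, h1 (Subgroup.mem_subgroupOf.mpr hx), rfl⟩

/-- An element of a normal subgroup inside an odd overgroup with image in its `O_p` lands in `O_p`. -/
theorem rangeRestrict_mem_pCore {A : Type u} [Group A] {B : Type v} [Group B] (φ : A →* B) [Finite φ.range] {p : ℕ}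
    [Fact p.Prime] (H N : Subgroup A) [N.Normal] (hNH : N ≤ H) [Finite (H.map φ)] {x : A} (hx : x ∈ N)
    (hc : ∃ hxH : φ x ∈ H.map φ, (⟨φ x, hxH⟩ : H.map φ) ∈ pCore p (H.map φ)) :
    φ.rangeRestrict x ∈ pCore p φ.range := by
  haveI : (N.map φ.rangeRestrict).Normal := (inferInstance : N.Normal).map _ φ.rangeRestrict_surjective
  set Q : Subgroup φ.range := (((pCore p (H.map φ)).map (H.map φ).subtype).subgroupOf φ.range) ⊓ N.map φ.rangeRestrict
  have hQ : Q ≤ pCore p φ.range := by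
    refine le_pCore_of_sub (N := N.map φ.rangeRestrict) inf_le_right ?_ ?_
    · rintro _ ⟨m, hm, rfl⟩ y ⟨hy, hyN⟩
      refine ⟨?_, (inferInstance : (N.map φ.rangeRestrict).Normal).conj_mem y hyN _⟩
      obtain ⟨w, hw, e⟩ := Subgroup.mem_subgroupOf.mp hy
      refine Subgroup.mem_subgroupOf.mpr ⟨(⟨φ m, m, hNH hm, rfl⟩ : ↥(H.map φ)) * w * ⟨φ m, m, hNH hm, rfl⟩⁻¹,
        (inferInstance : (pCore p ↥(H.map φ)).Normal).conj_mem w hw _, ?_⟩
      show φ m * (w : B) * (φ m)⁻¹ = φ m * (y : B) * (φ m)⁻¹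
      rw [show (w : B) = y from e]
    · exact (((CfsgLib.isPGroup_pCore p).map _).comap_of_injective φ.range.subtype
        φ.range.subtype_injective).to_le inf_le_left
  obtain ⟨hxH, hxc⟩ := hc
  exact hQ ⟨Subgroup.mem_subgroupOf.mpr ⟨_, hxc, rfl⟩, x, hx, rfl⟩

/-- An exponent giving a `p`-element. -/
theorem exists_exp {C : Type u} [Group C] [Finite C] {p : ℕ} [hp : Fact p.Prime] (x : C) (k : ℕ) :
    ∃ e : ℕ, (∃ i : ℕ, (x ^ e) ^ p ^ i = 1) ∧ e ≡ 1 [MOD p ^ k] := by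
  obtain ⟨i, m, hm, hxm⟩ := Nat.exists_eq_pow_mul_and_not_dvd (orderOf_pos x).ne' p hp.out.ne_one
  obtain ⟨e, he0, he1⟩ := Nat.chineseRemainder
    ((hp.out.coprime_iff_not_dvd.mpr hm).symm.pow_right k) 0 1
  refine ⟨e, ⟨i, ?_⟩, he1⟩
  rw [← pow_mul, ← orderOf_dvd_iff_pow_eq_one, hxm, mul_comm]
  exact Nat.mul_dvd_mul (Nat.modEq_zero_iff_dvd.mp he0) dvd_rfl

theorem pow_eq_self_of_modEq {C : Type u} [Group C] {x : C} {n e : ℕ} (hx : x ^ n = 1) (he : e ≡ 1 [MOD n]) :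
    x ^ e = x := by
  conv_rhs => rw [← pow_one x]
  exact pow_eq_pow_iff_modEq.mpr (he.of_dvd (orderOf_dvd_of_pow_eq_one hx))

variable {G : Type u} [Group G] [Finite G] {d : Frame G} (h : Hyp G) (hd : d.Spec) (hq : 3 < d.q)

include h hd hq in
/-- A subgroup normalised by `D` containing the commutators with a noncentral element of odd order contains `D`. -/
theorem D_le_of_mem {K : Subgroup G} (hn : ∀ x ∈ d.D, ∀ y ∈ K, x * y * x⁻¹ ∈ K) {c : G} (hcC : c ∈ d.C)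
    (hodd : Odd (orderOf c)) (hcO : c ∉ d.O) (hc : ∀ x ∈ d.D, c * x * c⁻¹ * x⁻¹ ∈ K) : d.D ≤ K := by
  obtain ⟨Rp⟩ := hd.exists_rep
  haveI := d.D_perfect
  haveI : Fact d.p.Prime := ⟨hd.prime⟩
  set π : ↥d.D →* Matrix.SpecialLinearGroup (Fin 2) d.F := Rp.π.comp (Subgroup.inclusion (hd.D_le_L hq))
  have hπ : Function.Surjective π := fun A => by
    obtain ⟨y, hy, e⟩ := Rp.surj_D hd hq A
    exact ⟨⟨y, hy⟩, e⟩
  set N := K.subgroupOf d.D
  haveI : N.Normal := ⟨fun y hy x => Subgroup.mem_subgroupOf.mpr (hn x x.2 _ (Subgroup.mem_subgroupOf.mp hy))⟩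
  haveI : (N.map π).Normal := (inferInstance : N.Normal).map π hπ
  have hN : N.map π = ⊤ := by
    refine (SL2.sl2_normal_or_top (hd.three_lt hq) _).resolve_left fun hle => hcO ?_
    refine Rp.sigma_eq_one hd hq h hcC hodd (SL2.eq_of_mk (hd.three_lt hq) fun A => ?_)
    obtain ⟨⟨y, hy⟩, rfl⟩ := hπ A
    have hcy : c * y * c⁻¹ * y⁻¹ ∈ d.D := mul_mem (d.D_conj hcC hy) (inv_mem hy)
    have hmem : π ⟨c * y * c⁻¹ * y⁻¹, hcy⟩ ∈ N.map π := ⟨_, Subgroup.mem_subgroupOf.mpr (hc y hy), rfl⟩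
    have h1 := SL2.mk_center.mpr (hle hmem)
    rw [show π ⟨c * y * c⁻¹ * y⁻¹, hcy⟩ = Rp.σ ⟨c, hcC⟩ (π ⟨y, hy⟩) * (π ⟨y, hy⟩)⁻¹ by
      show Rp.π ⟨c * y * c⁻¹ * y⁻¹, _⟩ = Rp.σ ⟨c, hcC⟩ (Rp.π ⟨y, _⟩) * (Rp.π ⟨y, _⟩)⁻¹
      rw [Rp.compat, ← map_inv, ← map_mul]
      rfl, map_mul, map_inv, mul_inv_eq_one] at h1
    exact h1
  intro x hx
  let g : ↥d.D →* ↥d.D ⧸ N := QuotientGroup.mk' N
  haveI : Group.IsPerfect (↥d.D ⧸ N) := Group.IsPerfect.ofSurjective (f := g) (QuotientGroup.mk'_surjective N)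
  have hker : Odd (Nat.card π.ker) := by
    refine d.O_odd.of_dvd_nat (Subgroup.card_dvd_of_injective
      ((d.D.subtype.comp π.ker.subtype).codRestrict d.O fun k => (Rp.ker _).mp k.2) fun x y e => ?_)
    exact Subtype.ext (Subtype.ext (congrArg (fun t : ↥d.O => (t : G)) e))
  have hsurj : Function.Surjective (g.comp π.ker.subtype) := fun t => by
    obtain ⟨y, rfl⟩ := QuotientGroup.mk'_surjective N t
    obtain ⟨n₀, hn₀, e⟩ := hN.ge (Subgroup.mem_top (π y))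
    refine ⟨⟨n₀⁻¹ * y, by rw [MonoidHom.mem_ker, map_mul, map_inv, e, inv_mul_cancel]⟩, ?_⟩
    show g (n₀⁻¹ * y) = g y
    rw [map_mul, map_inv, show g n₀ = 1 from (QuotientGroup.eq_one_iff _).mpr hn₀, inv_one, one_mul]
  haveI := CfsgLib.GW.subsingleton_of_odd (X := ↥d.D ⧸ N)
    (hker.of_dvd_nat (Subgroup.card_dvd_of_surjective _ hsurj))
  exact Subgroup.mem_subgroupOf.mp
    ((QuotientGroup.eq_one_iff (⟨x, hx⟩ : ↥d.D)).mp (Subsingleton.elim _ _))

variable {M : Subgroup G} (hCM : d.C ≤ M)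
  (hiso : ∀ g ∈ M, Commute (g * d.z * g⁻¹) d.z → g * d.z * g⁻¹ = d.z)

include hd hCM hiso in
/-- **`M = O(M) C`.** -/
theorem exists_decomp (m : ↥M) : ∃ k ∈ oddCore ↥M, ∃ c : ↥M, (c : G) ∈ d.C ∧ m = k * c := by
  set z : ↥M := ⟨d.z, hCM Frame.Spec.z_mem_C⟩
  have hz : orderOf z = 2 := by rw [Subgroup.orderOf_mk, hd.zord]
  have hiso' : IsIsolated z := fun g hg =>
    Subtype.ext (hiso g g.2 (show Commute ((g : G) * d.z * (g : G)⁻¹) d.z from congrArg Subtype.val hg.symm.eq))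
  have hZ := CfsgLib.ZStar.inZStar hz hiso' m
  set k₀ := m * z * m⁻¹ * z⁻¹ with hk₀
  have hzz : z * z = 1 := by rw [← pow_two, ← hz, pow_orderOf_eq_one]
  obtain ⟨b, hb, c, hc, hcz, he⟩ : ∃ b ∈ oddCore ↥M, ∃ c ∈ oddCore ↥M, c * z = z * c ∧
      b * (z * (z⁻¹ * k₀ * z)) * b⁻¹ = z * c := by
    haveI := Fintype.ofFinite ↥M
    exact RankTwo.coset_conj (oddCore ↥M) CfsgLib.odd_card_oddCore hzz
      (fun e he => (inferInstance : (oddCore ↥M).Normal).conj_mem e he z)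
      (by simpa using (inferInstance : (oddCore ↥M).Normal).conj_mem k₀ hZ z⁻¹)
  rw [show z * (z⁻¹ * k₀ * z) = m * z * m⁻¹ by rw [hk₀]; group] at he
  have hc1 : c = 1 := by
    have h1 : (z * c) * (z * c) = 1 := by
      rw [← he, show b * (m * z * m⁻¹) * b⁻¹ * (b * (m * z * m⁻¹) * b⁻¹) = b * (m * (z * z) * m⁻¹) * b⁻¹ by group,
        hzz]
      group
    rw [(show Commute c z from hcz).mul_mul_mul_comm, hzz, one_mul, ← pow_two] at h1
    exact orderOf_eq_one_iff.mp (Nat.eq_one_of_dvd_coprimes (Nat.coprime_two_left.mpr CfsgLib.odd_card_oddCore)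
      (orderOf_dvd_of_pow_eq_one h1) (Subgroup.orderOf_dvd_natCard _ hc))
  rw [hc1, mul_one] at he
  refine ⟨b⁻¹, inv_mem hb, b * m, ?_, by rw [inv_mul_cancel_left]⟩
  refine Subgroup.mem_centralizer_singleton_iff.mpr ?_
  exact congrArg Subtype.val (show b * m * z = z * (b * m) by
    calc b * m * z = b * (m * z * m⁻¹) * b⁻¹ * (b * m) := by group
      _ = z * (b * m) := by rw [he])

include hd hCM hiso in
/-- The core of `C` lies in the core of `M`. -/
theorem mem_oddCore_of_O {o : G} (ho : o ∈ d.O) : (⟨o, hCM (d.O_le ho)⟩ : ↥M) ∈ oddCore ↥M := by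
  set f := QuotientGroup.mk' (oddCore ↥M)
  set W := (d.O.subgroupOf M).map f
  haveI : W.Normal := ⟨by
    rintro _ ⟨y, hy, rfl⟩ t
    obtain ⟨m, rfl⟩ := QuotientGroup.mk'_surjective _ t
    obtain ⟨k, hk, c, hc, rfl⟩ := exists_decomp hd hCM hiso m
    rw [map_mul, show f k = 1 from (QuotientGroup.eq_one_iff k).mpr hk, one_mul]
    refine ⟨c * y * c⁻¹, Subgroup.mem_subgroupOf.mpr (Frame.Spec.O_conj hc (Subgroup.mem_subgroupOf.mp hy)), ?_⟩
    rw [map_mul, map_mul, map_inv]⟩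
  have hodd : Odd (Nat.card W) := d.O_odd.of_dvd_nat
    ((Subgroup.card_map_dvd _ _).trans (dvd_of_eq (Nat.card_congr
      (Subgroup.subgroupOfEquivOfLe (d.O_le.trans hCM)).toEquiv)))
  have h1 : W ≤ oddCore (↥M ⧸ oddCore ↥M) := CfsgLib.le_oddCore hodd
  rw [show oddCore (↥M ⧸ oddCore ↥M) = ⊥ from CfsgLib.pPrimeCore_quotient_eq_bot 2] at h1
  exact (QuotientGroup.eq_one_iff (⟨o, hCM (d.O_le ho)⟩ : ↥M)).mp
    (Subgroup.mem_bot.mp (h1 ⟨_, Subgroup.mem_subgroupOf.mpr ho, rfl⟩))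

include h hd hq hCM hiso in
/-- **The reduction.** -/
theorem exists_red {p : ℕ} [hp : Fact p.Prime] (hp2 : p ≠ 2) (V : Subgroup ↥M) [V.Normal] (hV : IsPGroup p V)
    (a : ↥M) (hap : ∃ k : ℕ, a ^ p ^ k = 1) (hquad : ⁅⁅V, Subgroup.zpowers a⁆, Subgroup.zpowers a⁆ = ⊥)
    (hout : (QuotientGroup.mk a : ↥M ⧸ Subgroup.centralizer (V : Set ↥M)) ∉
      pCore p (↥M ⧸ Subgroup.centralizer (V : Set ↥M))) :
    ∃ (Kp : Subgroup G) (c : G), Red d p M (V.map M.subtype) Kp (a : G) ∧ c ∈ d.D ∧ c ∉ d.O ∧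
      (a : G)⁻¹ * c ∈ Kp ∧ ∃ k : ℕ, c ^ p ^ k = 1 := by
  classical
  haveI : Fact (Nat.Prime 2) := ⟨Nat.prime_two⟩
  obtain ⟨Rp⟩ := hd.exists_rep
  obtain ⟨k, hk⟩ := hap
  -- the action
  obtain ⟨φ, hφ⟩ : ∃ φ : ↥M →* MulAut ↥V, ∀ (m : ↥M) (v : ↥V), ((φ m v : ↥V) : ↥M) = m * v * m⁻¹ :=
    ⟨MulAut.conjNormal, fun m v => MulAut.conjNormal_apply m v⟩
  have hφ1 : ∀ m : ↥M, φ m = 1 ↔ ∀ v ∈ V, Commute m v := fun m => by
    constructor
    · intro e v hv
      have := congrArg Subtype.val (MulEquiv.congr_fun e ⟨v, hv⟩)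
      rw [hφ] at this
      exact mul_inv_eq_iff_eq_mul.mp this
    · intro e
      exact MulEquiv.ext fun v => Subtype.ext (by rw [hφ, (e v v.2).eq, mul_inv_cancel_right]; rfl)
  have hker : φ.ker = Subgroup.centralizer (V : Set ↥M) := by
    ext m
    rw [MonoidHom.mem_ker, hφ1, Subgroup.mem_centralizer_iff]
    exact ⟨fun e v hv => (e v hv).eq.symm, fun e v hv => (e v hv).symm⟩
  haveI : Finite (MulAut ↥V) := Finite.of_injective (fun e : MulAut ↥V => (e : ↥V → ↥V)) DFunLike.coe_injective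
  set X := φ.range
  set φr : ↥M →* X := φ.rangeRestrict
  have hφr : Function.Surjective φr := φ.rangeRestrict_surjective
  set P := pCore p X
  have hPp : IsPGroup p P := CfsgLib.isPGroup_pCore p
  have houtX : φr a ∉ P := by
    intro hin
    refine hout ?_
    let e : ↥M ⧸ Subgroup.centralizer (V : Set ↥M) ≃* X :=
      (QuotientGroup.quotientMulEquivOfEq hker.symm).trans (QuotientGroup.quotientKerEquivRange φ)
    obtain ⟨y, hy, hye⟩ : φr a ∈ (pCore p (↥M ⧸ Subgroup.centralizer (V : Set ↥M))).map e.toMonoidHom := by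
      rw [CfsgLib.pCore_map_equiv p e]; exact hin
    rwa [show y = QuotientGroup.mk a from e.injective (hye.trans (Subtype.ext rfl))] at hy
  have hqa : ∀ v ∈ V, a * (a * v * a⁻¹ * v⁻¹) * a⁻¹ = a * v * a⁻¹ * v⁻¹ := by
    intro v hv
    have h1 : ⁅v, a⁆ ∈ ⁅V, Subgroup.zpowers a⁆ :=
      Subgroup.commutator_mem_commutator hv (Subgroup.mem_zpowers a)
    have h2 := Subgroup.commutator_mem_commutator h1 (Subgroup.mem_zpowers a)
    rw [hquad, Subgroup.mem_bot, commutatorElement_eq_one_iff_mul_comm] at h2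
    have h3 : Commute a (a * v * a⁻¹ * v⁻¹) := by
      have h4 : Commute a ⁅v, a⁆⁻¹ := (show Commute ⁅v, a⁆ a from h2).symm.inv_right
      rwa [commutatorElement_inv, commutatorElement_def] at h4
    rw [h3.eq, mul_inv_cancel_right]
  have hquada : IsQuad (φ a) := fun v => Subtype.ext (by
    simp only [hφ, Subgroup.coe_mul, Subgroup.coe_inv]
    exact hqa v v.2)
  -- the core of `M`
  set N' : Subgroup X := (oddCore ↥M).map φr
  haveI : N'.Normal := (inferInstance : (oddCore ↥M).Normal).map φr hφr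
  have hN'odd : Odd (Nat.card N') :=
    (CfsgLib.odd_card_oddCore (G := ↥M)).of_dvd_nat (Subgroup.card_map_dvd _ _)
  -- `z` moves `V`
  set zM : ↥M := ⟨d.z, hCM Frame.Spec.z_mem_C⟩
  have hz1 : φ zM ≠ 1 := by
    intro hz1
    refine houtX (mem_pCore_of_quad hp2 hV X (fun K g hg => ?_) ⟨a, rfl⟩ hquada)
    -- the quotient of `K` by the core
    set k' := (QuotientGroup.mk' N').subgroupMap K
    have hk' : Function.Surjective k' := (QuotientGroup.mk' N').subgroupMap_surjective K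
    have hgk : k'.ker ≤ g.ker := by
      haveI : (k'.ker.map g).Normal := (MonoidHom.normal_ker k').map g hg
      have hbot := GU2Cent.sl2_odd_normal (F := ZMod p) (by rw [ZMod.card]; exact hp.out.odd_of_ne_two hp2)
        (k'.ker.map g) fun t ⟨y, hy, e⟩ => by
          have hyN : (y : X) ∈ N' := (QuotientGroup.eq_one_iff (y : X)).mp (congrArg Subtype.val hy)
          exact (hN'odd.of_dvd_nat (Subgroup.orderOf_dvd_natCard N' hyN)).of_dvd_nat
            (e ▸ (orderOf_map_dvd g y).trans (dvd_of_eq (Subgroup.orderOf_coe y).symm))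
      intro y hy
      exact Subgroup.mem_bot.mp (hbot ▸ (⟨y, hy, rfl⟩ : g y ∈ k'.ker.map g))
    let g' := k'.liftOfSurjective hk' ⟨g, hgk⟩
    have hg' : Function.Surjective g' := fun t => by
      obtain ⟨y, rfl⟩ := hg t
      exact ⟨k' y, MonoidHom.liftOfRightInverse_comp_apply _ _ _ _ y⟩
    let ψ : ↥d.L →* X ⧸ N' :=
      (QuotientGroup.mk' N').comp (φr.comp (Subgroup.inclusion (d.L_le.trans hCM)))
    have hkerL : Odd (Nat.card Rp.π.ker) :=
      d.O_odd.of_dvd_nat (Subgroup.card_dvd_of_injective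
        ((d.L.subtype.comp Rp.π.ker.subtype).codRestrict d.O fun k => (Rp.ker _).mp k.2) fun x y e =>
        Subtype.ext (Subtype.ext (congrArg (fun t : ↥d.O => (t : G)) e)))
    refine SL2.no_section hd.odd_card Rp.π hkerL (z := ⟨d.z, hd.z_mem_L⟩) (Rp.pi_z hd) ψ ?_ hp2 _ g' hg'
      fun x _ y _ => ?_
    · show QuotientGroup.mk' N' (φr zM) = 1
      rw [show φr zM = 1 from Subtype.ext hz1, map_one]
    · have hlift : ∀ t : X ⧸ N', ∃ c : ↥M, (c : G) ∈ d.C ∧ QuotientGroup.mk' N' (φr c) = t := by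
        intro t
        obtain ⟨s, rfl⟩ := QuotientGroup.mk'_surjective N' t
        obtain ⟨m, rfl⟩ := hφr s
        obtain ⟨k₁, hk₁, c, hc, rfl⟩ := exists_decomp hd hCM hiso m
        exact ⟨c, hc, by rw [map_mul φr, map_mul, show QuotientGroup.mk' N' (φr k₁) = 1 from
          (QuotientGroup.eq_one_iff _).mpr ⟨k₁, hk₁, rfl⟩, one_mul]⟩
      obtain ⟨c₁, hc₁, rfl⟩ := hlift x
      obtain ⟨c₂, hc₂, rfl⟩ := hlift y
      have hL : ((⁅c₁, c₂⁆ : ↥M) : G) ∈ d.L := by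
        refine Frame.mem_L.mpr ⟨mul_mem (mul_mem (mul_mem hc₁ hc₂) (inv_mem hc₁)) (inv_mem hc₂), ?_⟩
        show QuotientGroup.mk' _ ⁅(⟨c₁, hc₁⟩ : ↥d.C), (⟨c₂, hc₂⟩ : ↥d.C)⁆ ∈ _
        rw [map_commutatorElement]
        exact Subgroup.commutator_mem_commutator (Subgroup.mem_top _) (Subgroup.mem_top _)
      refine ⟨⟨_, hL⟩, ?_⟩
      rw [← map_commutatorElement, ← map_commutatorElement]
      rfl
  -- the kernel is odd
  have hkerodd : Odd (Nat.card φ.ker) := by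
    by_contra heven
    obtain ⟨t, ht, htc, htne⟩ := h.exists_other hd.zord
    set E : Subgroup G := φ.ker.map M.subtype
    have hEn : ∀ y ∈ M, ∀ x ∈ E, y * x * y⁻¹ ∈ E := by
      rintro y hy _ ⟨x', hx', rfl⟩
      exact ⟨⟨y, hy⟩ * x' * ⟨y, hy⟩⁻¹, (MonoidHom.normal_ker φ).conj_mem x' hx' _, rfl⟩
    have hEM : E ≤ M := by rintro _ ⟨x, -, rfl⟩; exact x.2
    have heven' : ¬ Odd (Nat.card E) := by rwa [Subgroup.card_map_of_injective M.subtype_injective]
    have := h.mem_of_meets (N := M) (E := E) hd.zord ht htc htne hCM hEM hEn heven'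
    obtain ⟨z', hz', e⟩ := this
    exact hz1 ((show z' = zM from Subtype.ext e) ▸ hz')
  -- the preimage of `O_p`
  set KM : Subgroup ↥M := P.comap φr with hKM
  haveI : KM.Normal := (inferInstance : P.Normal).comap φr
  have hKModd : Odd (Nat.card KM) := by
    by_contra heven
    rw [Nat.not_odd_iff_even, even_iff_two_dvd] at heven
    obtain ⟨i, hi⟩ := exists_prime_orderOf_dvd_card' 2 heven
    rw [← Subgroup.orderOf_coe] at hi
    obtain ⟨j, hj⟩ := hPp ⟨φr i, i.2⟩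
    have h1 : φr (i : ↥M) = 1 := orderOf_eq_one_iff.mp (Nat.eq_one_of_dvd_coprimes
      (Nat.coprime_two_left.mpr (hp.out.odd_of_ne_two hp2).pow) (hi ▸ orderOf_map_dvd φr (i : ↥M))
      (orderOf_dvd_of_pow_eq_one (congrArg Subtype.val hj)))
    have h2 := Subgroup.orderOf_dvd_natCard φ.ker (show (i : ↥M) ∈ φ.ker from congrArg Subtype.val h1)
    rw [hi] at h2
    exact hkerodd.not_two_dvd_nat h2
  have hKMle : KM ≤ oddCore ↥M := CfsgLib.le_oddCore hKModd
  -- `a` lies outside the core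
  have haK : a ∉ oddCore ↥M := by
    intro haK
    have hmem : φ a ∈ (oddCore ↥M).map φ := ⟨a, haK, rfl⟩
    exact houtX (rangeRestrict_mem_pCore φ (oddCore ↥M) (oddCore ↥M) le_rfl haK ⟨hmem, mem_pCore_of_quad_odd hp2 hV _
      ((CfsgLib.odd_card_oddCore (G := ↥M)).of_dvd_nat (Subgroup.card_map_dvd _ _)) hmem hquada⟩)
  -- `a` centralises the core modulo `KM`
  have hcen : ∀ k₁ ∈ oddCore ↥M, a * k₁ * a⁻¹ * k₁⁻¹ ∈ KM := by
    intro k₁ hk₁
    set H : Subgroup ↥M := (Subgroup.zpowers (QuotientGroup.mk' (oddCore ↥M) a)).comap (QuotientGroup.mk' (oddCore ↥M))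
    have hH : Odd (Nat.card H) := by
      let f : H →* Subgroup.zpowers (QuotientGroup.mk' (oddCore ↥M) a) :=
        (QuotientGroup.mk' (oddCore ↥M)).subgroupComap _
      rw [← f.ker.card_mul_index, Subgroup.index_ker]
      refine Odd.mul ?_ ?_
      · refine (CfsgLib.odd_card_oddCore (G := ↥M)).of_dvd_nat (Subgroup.card_dvd_of_injective
          ((H.subtype.comp f.ker.subtype).codRestrict (oddCore ↥M) fun w =>
            (QuotientGroup.eq_one_iff _).mp (congrArg Subtype.val w.2)) fun w w' e => ?_)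
        exact Subtype.ext (Subtype.ext (congrArg (fun t : ↥(oddCore ↥M) => (t : ↥M)) e))
      · refine ((hp.out.odd_of_ne_two hp2).pow (n := k)).of_dvd_nat
          ((Subgroup.card_subgroup_dvd_card _).trans ?_)
        rw [Nat.card_zpowers]
        exact (orderOf_map_dvd _ a).trans (orderOf_dvd_of_pow_eq_one hk)
    have haH : a ∈ H := Subgroup.mem_comap.mpr (Subgroup.mem_zpowers _)
    have hkH : k₁ ∈ H := Subgroup.mem_comap.mpr (by
      rw [show QuotientGroup.mk' (oddCore ↥M) k₁ = 1 from (QuotientGroup.eq_one_iff k₁).mpr hk₁]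
      exact one_mem _)
    have h1 := mem_pCore_of_quad_odd hp2 hV (H.map φ) (hH.of_dvd_nat (Subgroup.card_map_dvd _ _))
      ⟨a, haH, rfl⟩ hquada
    have hNH : oddCore ↥M ≤ H := fun n hn => Subgroup.mem_comap.mpr (by
      rw [show QuotientGroup.mk' (oddCore ↥M) n = 1 from (QuotientGroup.eq_one_iff n).mpr hn]
      exact one_mem _)
    have hmem : φ (a * k₁ * a⁻¹ * k₁⁻¹) ∈ H.map φ :=
      ⟨_, mul_mem (mul_mem (mul_mem haH hkH) (inv_mem haH)) (inv_mem hkH), rfl⟩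
    refine Subgroup.mem_comap.mpr (rangeRestrict_mem_pCore φ H (oddCore ↥M) hNH
      (mul_mem ((inferInstance : (oddCore ↥M).Normal).conj_mem k₁ hk₁ a) (inv_mem hk₁)) ⟨hmem, ?_⟩)
    rw [show (⟨φ (a * k₁ * a⁻¹ * k₁⁻¹), hmem⟩ : ↥(H.map φ)) = ⟨φ a, a, haH, rfl⟩ * (⟨φ k₁, k₁, hkH, rfl⟩ *
        (⟨φ a, a, haH, rfl⟩ : ↥(H.map φ))⁻¹ * ⟨φ k₁, k₁, hkH, rfl⟩⁻¹) from Subtype.ext (by
      show φ (a * k₁ * a⁻¹ * k₁⁻¹) = φ a * (φ k₁ * (φ a)⁻¹ * (φ k₁)⁻¹)
      rw [map_mul, map_mul, map_mul, map_inv, map_inv]; group)]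
    exact mul_mem h1 ((inferInstance : (pCore p ↥(H.map φ)).Normal).conj_mem _ (inv_mem h1) _)
  -- the quotient by `KM`
  set bar := QuotientGroup.mk' KM
  have hbar : Function.Surjective bar := QuotientGroup.mk'_surjective KM
  set Kb := (oddCore ↥M).map bar
  haveI : Kb.Normal := (inferInstance : (oddCore ↥M).Normal).map bar hbar
  have hab : ∀ x ∈ Kb, Commute (bar a) x := by
    rintro _ ⟨k₁, hk₁, rfl⟩
    have h1 : bar (a * k₁ * a⁻¹ * k₁⁻¹) = 1 := (QuotientGroup.eq_one_iff _).mpr (hcen k₁ hk₁)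
    rw [map_mul, map_mul, map_mul, map_inv, map_inv, mul_inv_eq_one, mul_inv_eq_iff_eq_mul] at h1
    exact h1
  have hT : ∀ x ∈ Kb, (∀ y ∈ Kb, Commute x y) → (∃ n : ℕ, x ^ p ^ n = 1) → x = 1 := by
    intro x hx hxc hxp
    set T : Subgroup (↥M ⧸ KM) :=
      { carrier := {x | x ∈ Kb ∧ (∀ y ∈ Kb, Commute x y) ∧ ∃ n : ℕ, x ^ p ^ n = 1}
        one_mem' := ⟨one_mem _, fun y _ => Commute.one_left y, 0, one_pow _⟩
        mul_mem' := fun {x y} hx hy => by
          obtain ⟨hx, hxc, i, hi⟩ := hx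
          obtain ⟨hy, hyc, j, hj⟩ := hy
          refine ⟨mul_mem hx hy, fun w hw => (hxc w hw).mul_left (hyc w hw), i + j, ?_⟩
          rw [(hxc y hy).mul_pow, pow_add, pow_mul, hi, one_pow, one_mul, mul_comm, pow_mul, hj, one_pow]
        inv_mem' := fun {x} hx => by
          obtain ⟨hx, hxc, i, hi⟩ := hx
          exact ⟨inv_mem hx, fun w hw => (hxc w hw).inv_left, i, by rw [inv_pow, hi, inv_one]⟩ }
    haveI : T.Normal := ⟨fun x ⟨hx, hxc, i, hi⟩ g => ⟨(inferInstance : Kb.Normal).conj_mem x hx g, fun w hw => by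
      have := (Commute.conj_iff g).2 (hxc (g⁻¹ * w * g) (by
        simpa using (inferInstance : Kb.Normal).conj_mem w hw g⁻¹))
      rwa [show g * (g⁻¹ * w * g) * g⁻¹ = w by group] at this, i, by
      rw [conj_pow, hi, mul_one, mul_inv_cancel]⟩⟩
    haveI : ((T.comap bar).map φr).Normal := ((inferInstance : T.Normal).comap bar).map φr hφr
    have hTp : IsPGroup p ((T.comap bar).map φr) := by
      rintro ⟨_, m, hm, rfl⟩
      obtain ⟨-, -, i, hi⟩ := hm
      rw [← map_pow] at hi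
      obtain ⟨j, hj⟩ := hPp ⟨φr (m ^ p ^ i), Subgroup.mem_comap.mp ((QuotientGroup.eq_one_iff (N := KM) (m ^ p ^ i)).mp hi)⟩
      refine ⟨i + j, Subtype.ext ?_⟩
      show φr m ^ p ^ (i + j) = 1
      rw [pow_add, pow_mul, ← map_pow]
      exact congrArg Subtype.val hj
    obtain ⟨m, rfl⟩ := hbar x
    exact (QuotientGroup.eq_one_iff m).mpr (Subgroup.mem_comap.mpr
      (CfsgLib.le_pCore hTp ⟨m, Subgroup.mem_comap.mpr ⟨hx, hxc, hxp⟩, rfl⟩))
  -- `a` commutes with `z` modulo `KM`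
  have haz : a * zM * a⁻¹ * zM⁻¹ ∈ KM := by
    refine (QuotientGroup.eq_one_iff _).mp ?_
    show bar (a * zM * a⁻¹ * zM⁻¹) = 1
    set w := bar (a * zM * a⁻¹ * zM⁻¹) with hw
    have hwK : w ∈ Kb := ⟨_, CfsgLib.ZStar.inZStar (u := zM) (by rw [Subgroup.orderOf_mk, hd.zord])
      (fun g hg => Subtype.ext (hiso g g.2 (show Commute ((g : G) * d.z * (g : G)⁻¹) d.z from
        congrArg Subtype.val hg.symm.eq))) a, rfl⟩
    set u := bar zM * (bar a)⁻¹ * (bar zM)⁻¹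
    have hwau : w = bar a * u := by
      rw [hw, map_mul, map_mul, map_mul, map_inv, map_inv]; simp only [u]; group
    have huc : ∀ y ∈ Kb, Commute u y := fun y hy => by
      have := (Commute.conj_iff (bar zM)).2 ((hab ((bar zM)⁻¹ * y * bar zM)
        (by simpa using (inferInstance : Kb.Normal).conj_mem y hy (bar zM)⁻¹)).inv_left)
      rwa [show bar zM * ((bar zM)⁻¹ * y * bar zM) * (bar zM)⁻¹ = y by group] at this
    have hau : Commute (bar a) u := by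
      have h1 : u = (bar a)⁻¹ * w := by rw [hwau, inv_mul_cancel_left]
      rw [h1]
      exact ((Commute.refl (bar a)).inv_right).mul_right (hab w hwK)
    refine hT w hwK (fun y hy => hwau ▸ (hab y hy).mul_left (huc y hy)) ⟨k, ?_⟩
    rw [hwau, hau.mul_pow, ← map_pow, hk, map_one, one_mul, conj_pow, inv_pow, ← map_pow, hk, map_one, inv_one,
      mul_one, mul_inv_cancel]
  -- the transfer to `G`
  set Kp : Subgroup G := KM.map M.subtype
  have hKn : InvUnder M Kp := by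
    rintro m hm _ ⟨x, hx, rfl⟩
    exact ⟨⟨m, hm⟩ * x * ⟨m, hm⟩⁻¹, (inferInstance : KM.Normal).conj_mem x hx _, rfl⟩
  have hVK : V ≤ KM := by
    intro v hv
    refine Subgroup.mem_comap.mpr ?_
    haveI : (V.map φr).Normal := (inferInstance : V.Normal).map φr hφr
    exact CfsgLib.le_pCore (hV.map φr) ⟨v, hv, rfl⟩
  have hVG : IsPGroup p ↥(V.map M.subtype) := hV.map M.subtype
  have hdown : ∀ W ≤ V.map M.subtype, InvUnder M W → W ≠ ⊥ → ¬ W ≤ ⁅W, Kp⁆ := by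
    intro W hWV hWM hWne hle
    obtain ⟨T⟩ : Nonempty (Sylow p KM) := inferInstance
    let f : KM →* P := φr.subgroupComap P
    have hf : Function.Surjective f := fun ⟨t, ht⟩ => by
      obtain ⟨m, rfl⟩ := hφr t
      exact ⟨⟨m, ht⟩, rfl⟩
    have hTf : (T : Subgroup KM).map f = ⊤ := by
      rw [← Sylow.coe_mapSurjective hf T]
      obtain ⟨n, hn⟩ := hPp.exists_card_eq
      refine Subgroup.eq_top_of_card_eq _ ?_
      rw [(T.mapSurjective hf).card_eq_multiplicity, hn, hp.out.factorization_pow, Finsupp.single_eq_same]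
    set TG : Subgroup G := (((T : Subgroup KM).map KM.subtype).map M.subtype)
    have hTM : TG ≤ M := Subgroup.map_subtype_le _
    have hWT : ⁅W, Kp⁆ ≤ ⁅W, TG⁆ := Subgroup.commutator_le.mpr fun w hw x hx => by
      obtain ⟨x, hxK, rfl⟩ := hx
      obtain ⟨t, ht, et⟩ := hTf.ge (Subgroup.mem_top (f ⟨x, hxK⟩))
      obtain ⟨w', hw'V, rfl⟩ := hWV hw
      have hy : φ ((t : ↥M)⁻¹ * x) = 1 := by
        have e : φr (t : ↥M) = φr x := congrArg Subtype.val et
        rw [map_mul, map_inv, show φ (t : ↥M) = φ x from congrArg Subtype.val e, inv_mul_cancel]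
      have hyw : Commute ((t : ↥M)⁻¹ * x) w' := (hφ1 _).mp hy w' hw'V
      set y := (t : ↥M)⁻¹ * x
      rw [show x = t * y by simp [y]]
      show ⁅(w' : G), ((t : ↥M) : G) * (y : G)⁆ ∈ _
      have hyw' : Commute (y : G) (w' : G) := congrArg Subtype.val hyw.eq
      have e2 : ⁅(w' : G), ((t : ↥M) : G) * (y : G)⁆ = ⁅(w' : G), ((t : ↥M) : G)⁆ := by
        rw [commutatorElement_def, commutatorElement_def, mul_inv_rev]
        calc (w' : G) * (((t : ↥M) : G) * y) * (w' : G)⁻¹ * ((y : G)⁻¹ * ((t : ↥M) : G)⁻¹)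
            = (w' : G) * ((t : ↥M) : G) * ((y : G) * (w' : G)⁻¹) * ((y : G)⁻¹ * ((t : ↥M) : G)⁻¹) := by group
          _ = _ := by rw [hyw'.inv_right.eq]; group
      rw [e2]
      exact Subgroup.commutator_mem_commutator hw ⟨_, ⟨t, ht, rfl⟩, rfl⟩
    have hTn : TG ≤ Subgroup.normalizer (W : Set G) := fun x hx =>
      Subgroup.mem_normalizer_fintype fun w hw => hWM x (hTM hx) w hw
    have hH : IsPGroup p (W ⊔ TG : Subgroup G) :=
      (hVG.to_le hWV).to_sup_of_normal_left' ((T.2.map _).map _) hTn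
    haveI : Group.IsNilpotent ↥(W ⊔ TG : Subgroup G) := hH.isNilpotent
    obtain ⟨m, hm⟩ := (Subgroup.isNilpotent_iff_lowerCentralSeries (S := W ⊔ TG)).1 inferInstance
    have hall : ∀ i, W ≤ (W ⊔ TG).lowerCentralSeries i := by
      intro i
      induction i with
      | zero => simp
      | succ i ih =>
        rw [Subgroup.lowerCentralSeries_succ]
        exact (hle.trans hWT).trans (Subgroup.commutator_mono ih le_sup_right)
    exact hWne (le_bot_iff.1 (hm ▸ hall m))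
  -- a congruent element of `C`
  obtain ⟨c₀, hc₀C, hc₀⟩ : ∃ c₀ : ↥M, (c₀ : G) ∈ d.C ∧ a⁻¹ * c₀ ∈ KM := by
    set k₁ := zM⁻¹ * (a * zM * a⁻¹ * zM⁻¹) * zM
    have hk₁ : k₁ ∈ KM := by simpa [k₁] using (inferInstance : KM.Normal).conj_mem _ haz zM⁻¹
    haveI := Fintype.ofFinite ↥M
    have hzz : zM * zM = 1 := Subtype.ext (show d.z * d.z = 1 by rw [← pow_two, ← hd.zord, pow_orderOf_eq_one])
    obtain ⟨b, hb, c, hc, hcz, he⟩ := RankTwo.coset_conj KM hKModd hzz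
      (fun e he => (inferInstance : KM.Normal).conj_mem e he zM) hk₁
    rw [show zM * k₁ = a * zM * a⁻¹ by simp only [k₁]; group] at he
    have hc1 : c = 1 := by
      have h1 : (zM * c) * (zM * c) = 1 := by
        rw [← he, show b * (a * zM * a⁻¹) * b⁻¹ * (b * (a * zM * a⁻¹) * b⁻¹) = b * (a * (zM * zM) * a⁻¹) * b⁻¹ by
          group, hzz]
        group
      rw [(show Commute c zM from hcz).mul_mul_mul_comm, hzz, one_mul, ← pow_two] at h1
      exact orderOf_eq_one_iff.mp (Nat.eq_one_of_dvd_coprimes (Nat.coprime_two_left.mpr hKModd)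
        (orderOf_dvd_of_pow_eq_one h1) (Subgroup.orderOf_dvd_natCard _ hc))
    rw [hc1, mul_one] at he
    refine ⟨b * a, Subgroup.mem_centralizer_singleton_iff.mpr (congrArg Subtype.val
      (show b * a * zM = zM * (b * a) by
        calc b * a * zM = b * (a * zM * a⁻¹) * b⁻¹ * (b * a) := by group
          _ = zM * (b * a) := by rw [he])), ?_⟩
    simpa [mul_assoc] using (inferInstance : KM.Normal).conj_mem b hb a⁻¹
  have hbar₀ : bar c₀ = bar a := (QuotientGroup.eq.mpr hc₀).symm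
  have hbk : bar a ^ p ^ k = 1 := by rw [← map_pow, hk, map_one]
  obtain ⟨e, ⟨i, hi⟩, he1⟩ := exists_exp (p := p) c₀ k
  set c := c₀ ^ e
  have hcC : (c : G) ∈ d.C := by rw [SubmonoidClass.coe_pow]; exact pow_mem hc₀C e
  have hbc : bar c = bar a := by rw [map_pow, hbar₀, pow_eq_self_of_modEq hbk he1]
  have hcG : (c : G) ^ p ^ i = 1 := congrArg Subtype.val hi
  have hmemKp : ∀ x : ↥M, bar x = bar a → (a : G)⁻¹ * (x : G) ∈ Kp := fun x hx =>
    ⟨a⁻¹ * x, QuotientGroup.eq.mp hx.symm, rfl⟩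
  have hbO : ∀ {o : G} (ho : o ∈ d.O), bar ⟨o, hCM (d.O_le ho)⟩ ∈ Kb := fun ho =>
    ⟨_, mem_oddCore_of_O hd hCM hiso ho, rfl⟩
  have hnotO : ∀ x : ↥M, bar x = bar a → (x : G) ∉ d.O := by
    intro x hx hxO
    obtain ⟨y, hy, ey⟩ : bar a ∈ Kb := hx ▸ hbO hxO
    have h1 : y⁻¹ * a ∈ KM := QuotientGroup.eq.mp ey
    exact haK (by simpa using mul_mem hy (hKMle h1))
  -- `D` centralises the core modulo `KM`
  set N₁ : Subgroup ↥M := (Subgroup.centralizer (Kb : Set (↥M ⧸ KM))).comap bar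
  have hcN : c ∈ N₁ := Subgroup.mem_comap.mpr (Subgroup.mem_centralizer_iff.mpr fun y hy => by
    rw [hbc]; exact (hab y hy).eq.symm)
  haveI : N₁.Normal := (inferInstance : (Subgroup.centralizer (Kb : Set (↥M ⧸ KM))).Normal).comap bar
  have hDN : d.D ≤ N₁.map M.subtype := by
    refine D_le_of_mem h hd hq (fun x hx y hy => ?_) hcC ((hp.out.odd_of_ne_two hp2).pow.of_dvd_nat
      (orderOf_dvd_of_pow_eq_one hcG)) (hnotO c hbc) fun x hx => ?_
    · obtain ⟨y, hy, rfl⟩ := hy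
      exact ⟨⟨x, hCM (d.D_le hx)⟩ * y * ⟨x, hCM (d.D_le hx)⟩⁻¹, (inferInstance : N₁.Normal).conj_mem y hy _, rfl⟩
    · refine ⟨c * ((⟨x, hCM (d.D_le hx)⟩ : ↥M) * c⁻¹ * (⟨x, hCM (d.D_le hx)⟩ : ↥M)⁻¹),
        mul_mem hcN ((inferInstance : N₁.Normal).conj_mem _ (inv_mem hcN) _), ?_⟩
      show (c : G) * (x * (c : G)⁻¹ * x⁻¹) = _
      group
  have hDc : ∀ {x : G} (hx : x ∈ d.D), ∀ y ∈ Kb, Commute (bar ⟨x, hCM (d.D_le hx)⟩) y := by
    intro x hx y hy
    obtain ⟨n, hn, en⟩ := hDN hx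
    rw [show (⟨x, hCM (d.D_le hx)⟩ : ↥M) = n from Subtype.ext en.symm]
    exact (Subgroup.mem_centralizer_iff.mp (Subgroup.mem_comap.mp hn) y hy).symm
  have hOD : ∀ o ∈ d.O, ∀ x ∈ d.D, o * x * o⁻¹ * x⁻¹ ∈ Kp := fun o ho x hx => by
    refine ⟨(⟨o, hCM (d.O_le ho)⟩ : ↥M) * ⟨x, hCM (d.D_le hx)⟩ * (⟨o, hCM (d.O_le ho)⟩ : ↥M)⁻¹ *
      (⟨x, hCM (d.D_le hx)⟩ : ↥M)⁻¹, (QuotientGroup.eq_one_iff _).mp ?_, rfl⟩
    show bar _ = 1
    rw [map_mul, map_mul, map_mul, map_inv, map_inv, mul_inv_eq_one, mul_inv_eq_iff_eq_mul]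
    exact (hDc hx _ (hbO ho)).eq.symm
  have hred : Red d p M (V.map M.subtype) Kp (a : G) :=
    { pne := hp2
      CM := hCM
      Vn := by
        rintro m hm _ ⟨x, hx, rfl⟩
        exact ⟨⟨m, hm⟩ * x * ⟨m, hm⟩⁻¹, (inferInstance : V.Normal).conj_mem x hx _, rfl⟩
      pV := hVG
      Kn := hKn
      KM := Subgroup.map_subtype_le _
      VK := Subgroup.map_mono hVK
      down := hdown
      OD_mem := hOD
      aM := a.2
      quad_a := by
        rintro _ ⟨v, hv, rfl⟩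
        exact congrArg Subtype.val (hqa v hv)
      zmove := by
        by_contra hno
        push Not at hno
        exact hz1 ((hφ1 zM).mpr fun v hv => Subtype.ext (hno _ ⟨v, hv, rfl⟩))
      pK := by
        rintro _ ⟨x, hx, rfl⟩
        obtain ⟨j, hj⟩ := hPp ⟨φr x, hx⟩
        refine ⟨j, ?_⟩
        rintro _ ⟨v, hv, rfl⟩
        have h1 : φ (x ^ p ^ j) = 1 := by
          rw [map_pow]; exact congrArg Subtype.val (congrArg Subtype.val hj)
        exact congrArg Subtype.val ((hφ1 _).mp h1 v hv).eq }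
  -- into `D`
  obtain ⟨A, hA⟩ := hred.exists_inner h hd hq Rp hcC (hmemKp c hbc) hcG
  obtain ⟨d₀, hd₀, rfl⟩ := Rp.surj_D hd hq A
  set d₀C : ↥d.C := ⟨d₀, d.D_le hd₀⟩
  set cC : ↥d.C := ⟨(c : G), hcC⟩
  have hσ : Rp.σ (d₀C⁻¹ * cC) = 1 := by
    rw [map_mul, map_inv, hA, inv_mul_eq_one]
    exact MulEquiv.ext fun B => Rp.sigma_inner ⟨d₀, hd.D_le_L hq hd₀⟩ B
  set fO := QuotientGroup.mk' (oddCore ↥d.C)
  set y := fO (d₀C⁻¹ * cC)
  have hy : y ∈ Subgroup.center (↥d.C ⧸ oddCore ↥d.C) :=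
    Rp.central_of_sigma hd hq h (d₀C⁻¹ * cC).2 hσ
  obtain ⟨N2, m, hm, hym⟩ := Nat.exists_eq_pow_mul_and_not_dvd (orderOf_pos y).ne' 2 (by norm_num)
  have hy2 : y ^ 2 ^ N2 = 1 := Frame.central_odd (pow_mem hy _) (by
    rw [orderOf_pow_of_dvd (by positivity) (hym ▸ dvd_mul_right _ _), hym, Nat.mul_div_cancel_left _ (by positivity)]
    exact Nat.odd_iff.mpr (Nat.two_dvd_ne_zero.mp hm))
  obtain ⟨e₁, he10, he11⟩ := Nat.chineseRemainder
    ((Nat.coprime_two_left.mpr ((hp.out.odd_of_ne_two hp2).pow (n := i))).pow_left N2) 0 1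
  have hce : cC ^ e₁ = cC := pow_eq_self_of_modEq (Subtype.ext hcG) he11
  have hfe : fO cC = fO (d₀C ^ e₁) := by
    rw [← hce, map_pow, map_pow, show fO cC = fO d₀C * y by simp only [y]; rw [← map_mul, mul_inv_cancel_left],
      (show Commute (fO d₀C) y from Subgroup.mem_center_iff.mp hy _).mul_pow]
    obtain ⟨j, hj⟩ := Nat.modEq_zero_iff_dvd.mp he10
    rw [hj, pow_mul y, hy2, one_pow, mul_one]
  have hoO : (((d₀C ^ e₁)⁻¹ * cC : ↥d.C) : G) ∈ d.O :=
    ⟨_, (QuotientGroup.eq_one_iff _).mp (by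
      show fO ((d₀C ^ e₁)⁻¹ * cC) = 1
      rw [map_mul, map_inv, hfe, inv_mul_cancel]), rfl⟩
  set d₁ : G := d₀ ^ e₁
  have hd₁ : d₁ ∈ d.D := pow_mem hd₀ _
  have ho : d₁⁻¹ * (c : G) ∈ d.O := by
    simpa [d₁, d₀C, cC] using hoO
  obtain ⟨e₂, ⟨j, hj⟩, he2⟩ := exists_exp (p := p) d₁ k
  set b₁ := bar ⟨d₁, hCM (d.D_le hd₁)⟩
  set w := bar ⟨d₁⁻¹ * c, hCM (d.O_le ho)⟩
  have hwK : w ∈ Kb := hbO ho
  have hbw : bar c = b₁ * w := by
    rw [← map_mul]; exact congrArg bar (Subtype.ext (by simp))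
  have hb₁w : Commute b₁ w := hDc hd₁ w hwK
  have hwc : ∀ t ∈ Kb, Commute w t := fun t ht => by
    rw [show w = b₁⁻¹ * bar c by rw [hbw, inv_mul_cancel_left]]
    exact (hDc hd₁ t ht).inv_left.mul_left (hbc ▸ hab t ht)
  set d₂ : G := d₁ ^ e₂
  have hd₂ : d₂ ∈ d.D := pow_mem hd₁ _
  have hb₂ : bar ⟨d₂, hCM (d.D_le hd₂)⟩ = b₁ ^ e₂ := by
    rw [← map_pow]; exact congrArg bar (Subtype.ext (by simp [d₂]))
  have hfin : bar ⟨d₂, hCM (d.D_le hd₂)⟩ = bar a := by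
    have h1 : bar c = b₁ ^ e₂ * w ^ e₂ := by
      rw [← hb₁w.mul_pow, ← hbw, hbc, pow_eq_self_of_modEq hbk he2]
    have h2 : w ^ e₂ = 1 := by
      refine hT _ (pow_mem hwK _) (fun t ht => (hwc t ht).pow_left _) ⟨k + j, ?_⟩
      have e3 : w ^ e₂ = (b₁ ^ e₂)⁻¹ * bar c := by rw [h1, inv_mul_cancel_left]
      have e4 : (b₁ ^ e₂) ^ p ^ j = 1 := by
        rw [← hb₂, ← map_pow, show (⟨d₂, hCM (d.D_le hd₂)⟩ : ↥M) ^ p ^ j = 1 from Subtype.ext hj, map_one]
      have e5 : Commute (b₁ ^ e₂)⁻¹ (bar c) := by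
        rw [hbw]; exact (((Commute.refl b₁).mul_right hb₁w).pow_left e₂).inv_left
      rw [e3, e5.mul_pow, inv_pow, pow_add, pow_mul (bar c), hbc, hbk, one_pow, mul_one, mul_comm, pow_mul, e4,
        one_pow, inv_one]
    rw [hb₂, ← hbc, h1, h2, mul_one]
  exact ⟨Kp, d₂, hred, hd₂, hnotO _ hfin, hmemKp _ hfin, j, hj⟩

end CfsgLib.RankTwoModel
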